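import Groth.Agent.Lib.Wronskian26.Separating
import Groth.Prelude.Def_W4bk4goldsch45p2
import Mathlib.Algebra.Polynomial.HasseDeriv

/-! # Hasse derivatives read in expansions at a place -/

namespace Groth.Agent.Wronskian26

open FunFld FunField Polynomial

variable {k : Type*} [Field k]

/-- The `j`-th Hasse derivative of a power series. -/
noncomputable def hs (j : ℕ) (f : PowerSeries k) : PowerSeries k :=
  PowerSeries.mk fun m => ((m + j).choose j : k) * PowerSeries.coeff (m + j) f

theorem coeff_hs (j m : ℕ) (f : PowerSeries k) :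
    PowerSeries.coeff m (hs j f) = ((m + j).choose j : k) * PowerSeries.coeff (m + j) f := PowerSeries.coeff_mk _ _

theorem constantCoeff_hs (j : ℕ) (f : PowerSeries k) :
    PowerSeries.constantCoeff (hs j f) = PowerSeries.coeff j f := by
  rw [← PowerSeries.coeff_zero_eq_constantCoeff_apply, coeff_hs]; simp

theorem hs_add (j : ℕ) (f g : PowerSeries k) : hs j (f + g) = hs j f + hs j g := by
  ext m; simp only [coeff_hs, map_add]; ring

theorem hs_zero (f : PowerSeries k) : hs 0 f = f := by
  ext m; simp [coeff_hs]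

theorem hs_C (j : ℕ) (c : k) : hs j (PowerSeries.C c) = if j = 0 then PowerSeries.C c else 0 := by
  ext m
  rcases eq_or_ne j 0 with rfl | hj
  · simp [coeff_hs]
  · rw [coeff_hs, PowerSeries.coeff_C, if_neg (by omega), if_neg hj]; simp

theorem hs_X (j : ℕ) : hs j (PowerSeries.X : PowerSeries k) =
    if j = 0 then PowerSeries.X else if j = 1 then 1 else 0 := by
  ext m
  rcases j with _ | _ | j
  · simp [coeff_hs]
  · rcases m with _ | m <;> simp [coeff_hs, PowerSeries.coeff_X, PowerSeries.coeff_one]
  · rw [coeff_hs, PowerSeries.coeff_X, if_neg (by omega)]; simp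

theorem hs_eq_hasseDeriv_trunc (f : PowerSeries k) {j m N : ℕ} (hN : m + j < N) :
    PowerSeries.coeff m (hs j f) = (hasseDeriv j (PowerSeries.trunc N f)).coeff m := by
  rw [coeff_hs, hasseDeriv_coeff, PowerSeries.coeff_trunc, if_pos hN]

theorem hs_mul (j : ℕ) (f g : PowerSeries k) :
    hs j (f * g) = ∑ x ∈ Finset.HasAntidiagonal.antidiagonal j, hs x.1 f * hs x.2 g := by
  ext m
  have hN : m + j < m + j + 1 := Nat.lt_succ_self _
  rw [map_sum, hs_eq_hasseDeriv_trunc (f * g) hN]
  have e : (hasseDeriv j (PowerSeries.trunc (m + j + 1) (f * g))).coeff m =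
      (hasseDeriv j (PowerSeries.trunc (m + j + 1) f * PowerSeries.trunc (m + j + 1) g)).coeff m := by
    rw [hasseDeriv_coeff, hasseDeriv_coeff, PowerSeries.coeff_trunc, if_pos hN, PowerSeries.coeff_mul, Polynomial.coeff_mul]
    congr 1
    refine Finset.sum_congr rfl fun x hx => ?_
    have hx : x.1 + x.2 = m + j := by simpa using hx
    rw [PowerSeries.coeff_trunc, PowerSeries.coeff_trunc, if_pos (by omega), if_pos (by omega)]
  rw [e, hasseDeriv_mul, Polynomial.finsetSum_coeff]
  refine Finset.sum_congr rfl fun x hx => ?_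
  have hx : x.1 + x.2 = j := by simpa using hx
  rw [Polynomial.coeff_mul, PowerSeries.coeff_mul]
  refine Finset.sum_congr rfl fun y hy => ?_
  have hy : y.1 + y.2 = m := by simpa using hy
  rw [hs_eq_hasseDeriv_trunc f (N := m + j + 1) (by omega), hs_eq_hasseDeriv_trunc g (N := m + j + 1) (by omega)]

/-- The Taylor shift `X ↦ X + T`. -/
noncomputable def shift : PowerSeries k →ₐ[k] PowerSeries (PowerSeries k) where
  toFun f := PowerSeries.mk fun j => hs j f
  map_one' := by ext1 j; rw [PowerSeries.coeff_mk, PowerSeries.coeff_one, ← map_one PowerSeries.C, hs_C]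
  map_mul' f g := by
    ext1 j
    rw [PowerSeries.coeff_mk, PowerSeries.coeff_mul, hs_mul]
    simp only [PowerSeries.coeff_mk]
  map_zero' := by
    ext1 j
    rw [PowerSeries.coeff_mk, map_zero, show (0 : PowerSeries k) = PowerSeries.C (0 : k) from (map_zero _).symm, hs_C]
    simp
  map_add' f g := by ext1 j; simp [hs_add]
  commutes' c := by
    ext1 j
    rw [PowerSeries.coeff_mk, show algebraMap k (PowerSeries k) c = PowerSeries.C c from rfl, hs_C,
      PowerSeries.algebraMap_apply, show algebraMap k (PowerSeries k) c = PowerSeries.C c from rfl, PowerSeries.coeff_C]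

theorem coeff_shift (j : ℕ) (f : PowerSeries k) : PowerSeries.coeff j (shift f) = hs j f := by
  simp [shift]

variable [IsAlgClosed k] {K : Type*} [Field K] [Algebra k K]

/-- In the expansion at `P` in `t`, Hasse derivatives with respect to `t` are those of power series. -/
theorem expand_hasseD (h : FF k K) (P : Place k K) {t : K} (ht : P.1 t = WithZero.exp (-1))
    {H : K →ₐ[k] PowerSeries K} (hH : LocRes.IsHasseFamily t H) (f : P.O) (j : ℕ) :
    expand P h ht (LocRes.hasseD H j f) = (hs j (expandO P h ht f) : LaurentSeries k) := by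
  let inc : PowerSeries k →+* LaurentSeries k := HahnSeries.ofPowerSeries ℤ k
  let ψ₀ : P.O →+* PowerSeries (LaurentSeries k) :=
    (PowerSeries.map inc).comp ((shift (k := k)).toRingHom.comp (expandO P h ht).toRingHom)
  have hψ : ∀ a i, PowerSeries.coeff i (ψ₀ a) = inc (hs i (expandO P h ht a)) := by
    intro a i
    show PowerSeries.coeff i (PowerSeries.map inc (shift (expandO P h ht a))) = _
    rw [PowerSeries.coeff_map, coeff_shift]
  have hunit : ∀ y : nonZeroDivisors P.O, IsUnit (ψ₀ y) := fun y =>
    PowerSeries.isUnit_iff_constantCoeff.2 (by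
      rw [← PowerSeries.coeff_zero_eq_constantCoeff_apply, hψ, hs_zero, isUnit_iff_ne_zero]
      intro h0
      exact nonZeroDivisors.ne_zero y.2 (expandO_injective P h ht
        (by rw [map_zero]; exact HahnSeries.ofPowerSeries_injective (h0.trans (map_zero inc).symm))))
  let F : K →+* PowerSeries (LaurentSeries k) := IsLocalization.lift (M := nonZeroDivisors P.O) hunit
  have hFO : ∀ a : P.O, F (a : K) = ψ₀ a := fun a => IsLocalization.lift_eq hunit a
  let G : K →+* PowerSeries (LaurentSeries k) := (PowerSeries.map (expand P h ht).toRingHom).comp H.toRingHom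
  have hG : ∀ z i, PowerSeries.coeff i (G z) = expand P h ht (LocRes.hasseD H i z) := fun z i => by
    show PowerSeries.coeff i (PowerSeries.map (expand P h ht).toRingHom (H z)) = _
    rw [PowerSeries.coeff_map]; rfl
  have hFG : F = G := by
    refine (sep_uniformizer h P ht).hom_ext (expand P h ht) F G ?_ ?_ ?_ ?_
    · intro z
      refine RingHom.congr_fun (IsLocalization.ringHom_ext (nonZeroDivisors P.O)
        (j := (PowerSeries.constantCoeff).comp F) (k := (expand P h ht).toRingHom) (RingHom.ext fun a => ?_)) z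
      show PowerSeries.constantCoeff (F (a : K)) = expand P h ht (a : K)
      rw [hFO, ← PowerSeries.coeff_zero_eq_constantCoeff_apply, hψ, hs_zero, expand_coe]
    · intro z
      rw [← PowerSeries.coeff_zero_eq_constantCoeff_apply, hG]
      exact congrArg _ (show LocRes.hasseD H 0 z = z by rw [LocRes.hasseD_apply, PowerSeries.coeff_zero_eq_constantCoeff_apply, hH.2])
    · intro c
      ext1 i
      rw [hG, show algebraMap k K c = ((algebraMap k P.O c : P.O) : K) from rfl, hFO, hψ, AlgHom.commutes,
        show algebraMap k (PowerSeries k) c = PowerSeries.C c from rfl, hs_C]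
      rcases eq_or_ne i 0 with rfl | hi
      · rw [if_pos rfl, LocRes.hasseD_apply, PowerSeries.coeff_zero_eq_constantCoeff_apply, hH.2,
          expand_coe, AlgHom.commutes]
        rfl
      · rw [if_neg hi, coe_algebraMap_O, LocRes.hasseD_apply, hasse_const H c hi, map_zero, map_zero]
    · ext1 i
      have e0 : F t = ψ₀ ⟨t, val_t_le ht⟩ := hFO ⟨t, val_t_le ht⟩
      rw [hG, e0, hψ, expandO_coe, hs_X, LocRes.hasseD_apply, hH.1,
        map_add, PowerSeries.coeff_C, PowerSeries.coeff_X]
      rcases i with _ | _ | i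
      · simp [inc, expand_t, PowerSeries.coe_X, HahnSeries.ofPowerSeries_X]
      · simp
      · simp
  rw [← hG, ← hFG, hFO, hψ]

theorem val_hasseD_le (h : FF k K) (P : Place k K) {t : K} (ht : P.1 t = WithZero.exp (-1))
    {H : K →ₐ[k] PowerSeries K} (hH : LocRes.IsHasseFamily t H) {f : K} (hf : P.1 f ≤ 1) (j : ℕ) :
    P.1 (LocRes.hasseD H j f) ≤ 1 := by
  rw [← valued_expand P h ht, show f = ((⟨f, hf⟩ : P.O) : K) from rfl, expand_hasseD h P ht hH]
  exact (LaurentSeries.val_le_one_iff_eq_coe k _).2 ⟨_, rfl⟩

theorem expand_injective (h : FF k K) (P : Place k K) {t : K} (ht : P.1 t = WithZero.exp (-1)) :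
    Function.Injective (expand P h ht) := (expand P h ht).toRingHom.injective

theorem expandO_hasseD (h : FF k K) (P : Place k K) {t : K} (ht : P.1 t = WithZero.exp (-1))
    {H : K →ₐ[k] PowerSeries K} (hH : LocRes.IsHasseFamily t H) (f : P.O) (j : ℕ) :
    expandO P h ht ⟨LocRes.hasseD H j f, val_hasseD_le h P ht hH f.2 j⟩ = hs j (expandO P h ht f) := by
  refine HahnSeries.ofPowerSeries_injective (Γ := ℤ) (R := k) ?_
  rw [← expand_hasseD h P ht hH, ← expand_coe]

/-- The value at `P` is the constant term of the expansion. -/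
theorem evalP_eq (h : FF k K) (P : Place k K) {t : K} (ht : P.1 t = WithZero.exp (-1)) (f : P.O) :
    evalP P (f : K) = algebraMap k _ (PowerSeries.constantCoeff (expandO P h ht f)) := by
  rw [evalP, dif_pos (show P.1 (f : K) ≤ 1 from f.2)]
  refine sub_eq_zero.1 ?_
  show IsLocalRing.residue P.O f - IsLocalRing.residue P.O (algebraMap k P.O _) = 0
  rw [← map_sub, residue_eq_zero_iff, ← constantCoeff_expandO_eq_zero_iff P h ht, map_sub, map_sub, AlgHom.commutes]
  simp [PowerSeries.algebraMap_apply]

theorem evalP_hasseD (h : FF k K) (P : Place k K) {t : K} (ht : P.1 t = WithZero.exp (-1))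
    {H : K →ₐ[k] PowerSeries K} (hH : LocRes.IsHasseFamily t H) (f : P.O) (j : ℕ) :
    evalP P (LocRes.hasseD H j f) = algebraMap k _ (PowerSeries.coeff j (expandO P h ht f)) := by
  refine (evalP_eq h P ht ⟨_, val_hasseD_le h P ht hH f.2 j⟩).trans ?_
  rw [expandO_hasseD h P ht hH, constantCoeff_hs]

theorem residue_bijective (h : FF k K) (P : Place k K) :
    Function.Bijective (algebraMap k (IsLocalRing.ResidueField P.O)) := by
  refine ⟨(algebraMap k _).injective, fun x => ?_⟩
  obtain ⟨a, rfl⟩ := IsLocalRing.residue_surjective x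
  obtain ⟨c, hc⟩ := exists_const_near h P a.2
  refine ⟨c, sub_eq_zero.1 ?_⟩
  show IsLocalRing.residue P.O (algebraMap k P.O c) - IsLocalRing.residue P.O a = 0
  rw [← map_sub, residue_eq_zero_iff]
  show P.1 (algebraMap k K c - (a : K)) < 1
  rw [Valuation.map_sub_swap]; exact hc

end Groth.Agent.Wronskian26
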