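import Groth.Agent.Lib.Wronskian26.Canonical
import Groth.Agent.Lib.FunField.Proj2
import Groth.Agent.Lib.FunField.Plucker

/-! # The Weierstrass divisor of a projective map -/

namespace Groth.Agent.Wronskian26

open FunFld FunField

variable {k K : Type*} [Field k] [Field K] [Algebra k K]

section mapDiv

variable {ι : Type*} [Fintype ι] [Nonempty ι]

theorem gen_unique {V : Submodule k K} {E E' : Divisor k K} (h : Gen V E) (h' : Gen V E') : E = E' := by
  suffices ∀ {E E' : Divisor k K}, Gen V E → Gen V E' → E ≤ E' from le_antisymm (this h h') (this h' h)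
  intro E E' h h' Q
  obtain ⟨f, hf, hv⟩ := h.ex Q
  have := h'.le hf Q
  rwa [hv, WithZero.exp_le_exp] at this

theorem mapDiv_congr_span (h : FF k K) {φ φ' : ι → K} (hφ : ∀ i, φ i ≠ 0) (hφ' : ∀ i, φ' i ≠ 0)
    (hspan : Submodule.span k (Set.range φ') = Submodule.span k (Set.range φ)) :
    mapDiv k φ' = mapDiv k φ :=
  gen_unique (hspan ▸ gen_mapDiv h hφ') (gen_mapDiv h hφ)

theorem mapDiv_smul (h : FF k K) {φ : ι → K} (hφ : ∀ i, φ i ≠ 0) {y : K} (hy : y ≠ 0) (P : Place k K) :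
    mapDiv k (y • φ) P = mapDiv k φ P - P.ord y := by
  rw [mapDiv_apply h, mapDiv_apply h,
    show (fun i => P.ord ((y • φ) i)) = fun i => P.ord y + P.ord (φ i) from funext fun i => ord_mul P hy (hφ i)]
  have e : Finset.univ.inf' Finset.univ_nonempty (fun i => P.ord y + P.ord (φ i)) =
      P.ord y + Finset.univ.inf' Finset.univ_nonempty (fun i => P.ord (φ i)) := by
    refine le_antisymm ?_ (Finset.le_inf' _ _ fun i hi => by
      have := Finset.inf'_le (fun i => P.ord (φ i)) hi; omega)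
    obtain ⟨i, hi, hie⟩ := Finset.exists_mem_eq_inf' Finset.univ_nonempty fun i => P.ord (φ i)
    rw [hie]
    exact Finset.inf'_le (fun i => P.ord y + P.ord (φ i)) hi
  rw [e]; ring

theorem val_le_exp_mapDiv (h : FF k K) (φ : ι → K) (P : Place k K) (i : ι) :
    P.1 (φ i) ≤ WithZero.exp (mapDiv k φ P) := by
  rcases eq_or_ne (φ i) 0 with h0 | h0
  · rw [h0, map_zero]; exact zero_le
  rw [val_le_exp_iff P h0, mapDiv_apply h]
  have := Finset.inf'_le (fun i => P.ord (φ i)) (Finset.mem_univ i)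
  omega

theorem mapDiv_nonneg_of_one (h : FF k K) {φ : ι → K} (heff : (1 : K) ∈ Submodule.span k (Set.range φ))
    (P : Place k K) : 0 ≤ mapDiv k φ P := by
  by_contra hneg
  obtain ⟨a, ha⟩ := (Submodule.mem_span_range_iff_exists_fun k).1 heff
  have : P.1 (∑ i, a i • φ i) ≤ WithZero.exp (mapDiv k φ P) := P.1.map_sum_le fun i _ => by
    rw [Algebra.smul_def, map_mul]
    exact (mul_le_mul' (val_const_le P (a i)) (val_le_exp_mapDiv h φ P i)).trans_eq (one_mul _)
  rw [ha, map_one, ← WithZero.exp_zero, WithZero.exp_le_exp] at this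
  omega

theorem mapDiv_eq_zero_of_normalized (h : FF k K) {φ : ι → K} (heff : (1 : K) ∈ Submodule.span k (Set.range φ))
    {P : Place k K} (hnorm : ∀ i, P.1 (φ i) ≤ 1) : mapDiv k φ P = 0 := by
  refine le_antisymm ?_ (mapDiv_nonneg_of_one h heff P)
  rw [mapDiv_apply h, neg_nonpos]
  exact Finset.le_inf' _ _ fun i _ => (ord_nonneg_iff P _).2 (hnorm i)

theorem one_mem_span_comp (τ : K →ₐ[k] K) {φ : ι → K} (heff : (1 : K) ∈ Submodule.span k (Set.range φ)) :
    (1 : K) ∈ Submodule.span k (Set.range (τ ∘ φ)) := by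
  rw [Set.range_comp, show (τ : K → K) = τ.toLinearMap from rfl, Submodule.span_image]
  exact ⟨1, heff, map_one τ⟩

omit [Fintype ι] [Nonempty ι] in
theorem comp_ne_zero (τ : K →ₐ[k] K) {φ : ι → K} (hφ : ∀ i, φ i ≠ 0) (i : ι) : (τ ∘ φ) i ≠ 0 :=
  fun h => hφ i (τ.toRingHom.injective (h.trans (map_zero τ).symm))

theorem mapDiv_comp_algebraMap {K' : Type*} [Field K'] [Algebra k K'] [Algebra K K'] [IsScalarTower k K K']
    [FiniteDimensional K K'] (h : FF k K) (φ : ι → K) :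
    mapDiv k (algebraMap K K' ∘ φ) = conorm K' (mapDiv k φ) := by
  ext Q
  rw [mapDiv_apply (ff_extend h), conorm_apply h, mapDiv_apply h, mul_neg, neg_inj]
  simp only [Function.comp_apply, ord_algebraMap h]
  set e : ℤ := (ramIdx Q (under h Q) : ℤ)
  have he : 0 ≤ e := Int.natCast_nonneg _
  refine le_antisymm ?_ (Finset.le_inf' _ _ fun i hi => mul_le_mul_of_nonneg_left
    (Finset.inf'_le (fun i => (under h Q).ord (φ i)) hi) he)
  obtain ⟨i, hi, hie⟩ := Finset.exists_mem_eq_inf' Finset.univ_nonempty fun i => (under h Q).ord (φ i)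
  rw [hie]
  exact Finset.inf'_le (fun i => e * (under h Q).ord (φ i)) hi

theorem deg_mapDiv_algebraMap {K' : Type*} [Field K'] [Algebra k K'] [Algebra K K'] [IsScalarTower k K K']
    [FiniteDimensional K K'] (h : FF k K) (φ : ι → K) :
    (mapDiv k (algebraMap K K' ∘ φ)).deg = Module.finrank K K' * (mapDiv k φ).deg := by
  rw [mapDiv_comp_algebraMap h, deg_conorm h]

/-- `K` as an extension of itself along `τ`. -/
def Tw (_τ : K →ₐ[k] K) : Type _ := K

namespace Tw

variable (τ : K →ₐ[k] K)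

instance : Field (Tw τ) := ‹Field K›

instance : Algebra k (Tw τ) := ‹Algebra k K›

instance : Algebra K (Tw τ) := τ.toRingHom.toAlgebra

instance : IsScalarTower k K (Tw τ) := IsScalarTower.of_algebraMap_eq fun c => (τ.commutes c).symm

end Tw

/-- The degree of the twisted map. -/
theorem deg_mapDiv_twist (h : FF k K) (τ : K →ₐ[k] K) (φ : ι → K) :
    (mapDiv k (τ ∘ φ)).deg = Module.finrank τ.fieldRange K * (mapDiv k φ).deg := by
  have hfin : FiniteDimensional τ.fieldRange K := by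
    obtain ⟨x, hx, -⟩ := id h
    have hτx : Transcendental k (τ x) := fun ha => hx ((isAlgebraic_algHom_iff τ τ.toRingHom.injective).1 ha)
    haveI := h.finiteDimensional hτx
    have hle : IntermediateField.adjoin k {τ x} ≤ τ.fieldRange :=
      IntermediateField.adjoin_simple_le_iff.2 ⟨x, rfl⟩
    letI := (IntermediateField.inclusion hle).toRingHom.toAlgebra
    haveI : IsScalarTower (IntermediateField.adjoin k {τ x}) τ.fieldRange K :=
      IsScalarTower.of_algebraMap_eq fun _ => rfl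
    exact Module.Finite.right (IntermediateField.adjoin k {τ x}) τ.fieldRange K
  let e : K ≃+* τ.fieldRange := (AlgEquiv.ofInjectiveField τ).toRingEquiv
  let i : K ≃+* Tw τ := RingEquiv.refl K
  have hrank : Module.finrank τ.fieldRange K = Module.finrank K (Tw τ) :=
    (Algebra.finrank_eq_of_equiv_equiv e i.symm (RingHom.ext fun _ => rfl)).symm
  haveI : FiniteDimensional K (Tw τ) := by
    refine Module.Finite.of_equiv_equiv e.symm i (RingHom.ext fun x => ?_)
    obtain ⟨a, rfl⟩ := e.surjective x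
    show τ (e.symm (e a)) = τ a
    rw [RingEquiv.symm_apply_apply]
  rw [hrank]
  exact deg_mapDiv_algebraMap (K' := Tw τ) h φ

end mapDiv

variable [IsAlgClosed k] {n : ℕ}

theorem dOrd_self (hK : FF k K) (P : Place k K) {t : K} (ht : P.1 t = WithZero.exp (-1)) :
    dOrd hK P t = 0 := by
  rw [dOrd_eq hK P ht, der_self, ord_one]

variable (hK : IsFunctionField k K) {Φ : Place k K → (K →ₐ[k] LaurentSeries k)}
  (hΦ : ∀ P : Place k K, LocRes.IsExpansionAt P.1 (Φ P))

include hK hΦ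

theorem divDiff_eq {s : K} {C : Divisor k K} (hC : ∀ P, C P = dOrd (ff hK) P s) :
    divDiff Φ 1 s = C := by
  have e : (fun P : Place k K => LocRes.ordDiff (Φ P) 1 s) = ⇑C :=
    funext fun P => by rw [ordDiff_one_eq (ff hK) P (hΦ P), hC]
  rw [divDiff, dif_pos (by rw [e]; exact C.hasFiniteSupport)]
  ext P
  exact congrFun e P

theorem divDiff_apply {s : K} (hs : Sep k s) (P : Place k K) : divDiff Φ 1 s P = dOrd (ff hK) P s := by
  obtain ⟨C, -, hC⟩ := exists_canonical_dOrd hK hs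
  rw [divDiff_eq hK hΦ hC, hC]

theorem deg_divDiff {s : K} (hs : Sep k s) : (divDiff Φ 1 s).deg = 2 * (genus k K : ℤ) - 2 := by
  obtain ⟨C, hCc, hC⟩ := exists_canonical_dOrd hK hs
  rw [divDiff_eq hK hΦ hC, (isCanonical_deg hK hCc).2]

theorem wDiv_apply (τ : K →ₐ[k] K) {s : K} {H : K →ₐ[k] PowerSeries K} (hH : LocRes.IsHasseFamily s H)
    (φ : Fin (n + 1) → K) (J : Fin n → ℕ) (P : Place k K) :
    wDiv τ H Φ s φ J P = P.ord (wrMat τ H φ J).det + mapDiv k (τ ∘ φ) P + n * mapDiv k φ P +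
      (∑ l, (J l : ℤ)) * dOrd (ff hK) P s := by
  simp only [wDiv, Finsupp.add_apply, Finsupp.smul_apply, smul_eq_mul, div_apply (ff hK),
    divDiff_apply hK hΦ (sep_of_hasse (ff hK) hH)]

theorem wDiv_invariant {φ : Fin (n + 1) → K} (hφ : LinearIndependent k φ) (τ : K →ₐ[k] K)
    {s : K} {Hs : K →ₐ[k] PowerSeries K} (hHs : LocRes.IsHasseFamily s Hs)
    {t : K} {Ht : K →ₐ[k] PowerSeries K} (hHt : LocRes.IsHasseFamily t Ht)
    {J : Fin n → ℕ} (hJ : IsOrders K (hcol τ Hs φ) J)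
    {A : Matrix (Fin (n + 1)) (Fin (n + 1)) k} (hA : A.det ≠ 0) {y : K} (hy : y ≠ 0)
    {φ' : Fin (n + 1) → K} (hφ' : ∀ i, φ' i = y * ∑ j, A i j • φ j) :
    wDiv τ Ht Φ t φ' J = wDiv τ Hs Φ s φ J := by
  classical
  have h := ff hK
  have hs := sep_of_hasse h hHs
  have ht := sep_of_hasse h hHt
  set ψ : Fin (n + 1) → K := fun i => ∑ j, A i j • φ j with hψdef
  obtain rfl : φ' = y • ψ := funext fun i => hφ' i
  have hψ : LinearIndependent k ψ := by
    rw [Fintype.linearIndependent_iff]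
    intro b hb
    have hz : ∑ j, (∑ i, b i * A i j) • φ j = 0 := by
      rw [← hb]
      simp only [ψ, Finset.smul_sum, Finset.sum_smul, smul_smul]
      exact Finset.sum_comm
    have hv : Matrix.vecMul b A = 0 := funext fun j => Fintype.linearIndependent_iff.1 hφ _ hz j
    exact fun i => congrFun (Matrix.eq_zero_of_vecMul_eq_zero hA hv) i
  haveI := FiniteDimensional.span_of_finite k (Set.finite_range φ)
  have hspan : Submodule.span k (Set.range ψ) = Submodule.span k (Set.range φ) := by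
    refine Submodule.eq_of_le_of_finrank_eq (Submodule.span_le.2 ?_) ?_
    · rintro _ ⟨i, rfl⟩
      exact Submodule.sum_mem _ fun j _ => Submodule.smul_mem _ _ (Submodule.subset_span ⟨j, rfl⟩)
    · rw [finrank_span_eq_card hψ, finrank_span_eq_card hφ]
  have hJψ : IsOrders K (hcol τ Hs ψ) J := (isOrders_linear τ Hs A hA (fun _ => rfl) J).2 hJ
  have hJy : IsOrders K (hcol τ Hs (y • ψ)) J := (isOrders_smul τ hHs.2 ψ hy J).2 hJψ
  set d := LocRes.hasseD Ht 1 s
  have hd : d = der h ht s := (der_eq_hasseD h ht hHt s).symm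
  have hd0 : d ≠ 0 := hd ▸ der_ne_zero h hs ht
  have hdet : (wrMat τ Ht (y • ψ) J).det =
      d ^ (∑ l, J l) * (τ y * y ^ n * (algebraMap k K A.det * (wrMat τ Hs φ J).det)) := by
    rw [wrMat_eq_colMat, det_colMat_triangular _ hJy (fun m => d ^ (m - 1)) (hasse_change h hHs hHt τ (y • ψ)),
      Fin.prod_univ_succ, det_colMat_triangular _ hJψ (fun m => if m = 0 then τ y else y) (hcol_smul_sub τ hHs.2 ψ y),
      Fin.prod_univ_succ, ← wrMat_eq_colMat, det_wrMat_linear τ Hs (φ := φ) (φ' := ψ) A (fun _ => rfl)]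
    simp [full, Finset.prod_pow_eq_pow_sum]
  have hne := det_wrMat_ne_zero hφ τ hJ
  have hτy : τ y ≠ 0 := fun h0 => hy (τ.toRingHom.injective (h0.trans (map_zero τ).symm))
  have hA' : algebraMap k K A.det ≠ 0 := (map_ne_zero _).2 hA
  ext P
  rw [wDiv_apply hK hΦ τ hHt, wDiv_apply hK hΦ τ hHs, hdet]
  have e1 : mapDiv k (y • ψ) P = mapDiv k φ P - P.ord y := by
    rw [mapDiv_smul h hψ.ne_zero hy, mapDiv_congr_span h hφ.ne_zero hψ.ne_zero hspan]
  have e2 : mapDiv k (τ ∘ (y • ψ)) P = mapDiv k (τ ∘ φ) P - P.ord (τ y) := by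
    have hτψ : τ ∘ (y • ψ) = τ y • (τ ∘ ψ) := funext fun i => map_mul τ _ _
    rw [hτψ, mapDiv_smul h (comp_ne_zero τ hψ.ne_zero) hτy,
      mapDiv_congr_span h (comp_ne_zero τ hφ.ne_zero) (comp_ne_zero τ hψ.ne_zero)]
    rw [Set.range_comp, Set.range_comp, show (τ : K → K) = τ.toLinearMap from rfl, Submodule.span_image,
      Submodule.span_image, hspan]
  rw [e1, e2, dOrd_chain h ht P s (hd ▸ hd0), ← hd,
    ord_mul P (pow_ne_zero _ hd0) (mul_ne_zero (mul_ne_zero hτy (pow_ne_zero _ hy)) (mul_ne_zero hA' hne)),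
    ord_mul P (mul_ne_zero hτy (pow_ne_zero _ hy)) (mul_ne_zero hA' hne), ord_mul P hτy (pow_ne_zero _ hy),
    ord_mul P hA' hne, ord_const, ord_pow, ord_pow]
  push_cast
  ring

theorem wDiv_change {φ : Fin (n + 1) → K} (hφ : LinearIndependent k φ) (τ : K →ₐ[k] K)
    {s : K} {Hs : K →ₐ[k] PowerSeries K} (hHs : LocRes.IsHasseFamily s Hs)
    {t : K} {Ht : K →ₐ[k] PowerSeries K} (hHt : LocRes.IsHasseFamily t Ht)
    {J : Fin n → ℕ} (hJ : IsOrders K (hcol τ Hs φ) J) {y : K} (hy : y ≠ 0) :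
    wDiv τ Ht Φ t (y • φ) J = wDiv τ Hs Φ s φ J :=
  wDiv_invariant hK hΦ hφ τ hHs hHt hJ (A := 1) (by simp) hy fun i => by
    simp [Matrix.one_apply, smul_eq_mul]

/-- The coefficient at a place at which the map is normalized. -/
theorem wDiv_normalized (τ : K →ₐ[k] K) (P : Place k K) {t : K} (ht : P.1 t = WithZero.exp (-1))
    {Ht : K →ₐ[k] PowerSeries K} (hHt : LocRes.IsHasseFamily t Ht) {φ : Fin (n + 1) → K}
    (heff : (1 : K) ∈ Submodule.span k (Set.range φ)) (hnorm : ∀ i, P.1 (φ i) ≤ 1) (J : Fin n → ℕ) :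
    wDiv τ Ht Φ t φ J P = P.ord (wrMat τ Ht φ J).det + mapDiv k (τ ∘ φ) P := by
  rw [wDiv_apply hK hΦ τ hHt, mapDiv_eq_zero_of_normalized (ff hK) heff hnorm, dOrd_self (ff hK) P ht]
  ring

/-- The coefficient at a fixed point at which the map is normalized. -/
theorem wDiv_normalized_fixed (τ : K →ₐ[k] K) (P : Place k K) (hP : IsFixedPt τ P) {t : K}
    (ht : P.1 t = WithZero.exp (-1))
    {Ht : K →ₐ[k] PowerSeries K} (hHt : LocRes.IsHasseFamily t Ht) {φ : Fin (n + 1) → K}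
    (heff : (1 : K) ∈ Submodule.span k (Set.range φ)) (hnorm : ∀ i, P.1 (φ i) ≤ 1) (J : Fin n → ℕ) :
    wDiv τ Ht Φ t φ J P = P.ord (wrMat τ Ht φ J).det := by
  rw [wDiv_normalized hK hΦ τ P ht hHt heff hnorm,
    mapDiv_eq_zero_of_normalized (ff hK) (one_mem_span_comp τ heff) fun i => val_tau_of_fixed (ff hK) τ hP (hnorm i),
    add_zero]

/-- A normal form at a place. -/
theorem exists_normal_form {φ : Fin (n + 1) → K} (hφ : LinearIndependent k φ) (τ : K →ₐ[k] K)
    {s : K} {H : K →ₐ[k] PowerSeries K} (hH : LocRes.IsHasseFamily s H) {J : Fin n → ℕ}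
    (hJ : IsOrders K (hcol τ H φ) J) (P : Place k K) :
    ∃ (t : K) (Ht : K →ₐ[k] PowerSeries K) (φ' : Fin (n + 1) → K) (y : K), y ≠ 0 ∧ φ' = y • φ ∧
      P.1 t = WithZero.exp (-1) ∧ LocRes.IsHasseFamily t Ht ∧ LinearIndependent k φ' ∧
      (1 : K) ∈ Submodule.span k (Set.range φ') ∧ (∀ i, P.1 (φ' i) ≤ 1) ∧
      IsOrders K (hcol τ Ht φ') J ∧ wDiv τ H Φ s φ J = wDiv τ Ht Φ t φ' J := by
  have h := ff hK
  obtain ⟨t, -, ht⟩ := exists_uniformizer P
  obtain ⟨Ht, hHt⟩ := exists_hasse h (sep_uniformizer h P ht)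
  obtain ⟨y, hy, heff, hnorm⟩ := exists_normalized h hφ P
  refine ⟨t, Ht, y • φ, y, hy, rfl, ht, hHt,
    hφ.map' (LinearMap.mulLeft k y) (LinearMap.ker_eq_bot.2 (mul_right_injective₀ hy)), heff, hnorm,
    (isOrders_congr _ fun _ => isJump_eq_of_sp _ (sp_hcol_change h hH hHt τ _) _).2 ((isOrders_smul τ hH.2 φ hy J).2 hJ),
    (wDiv_change hK hΦ hφ τ hH hHt hJ hy).symm⟩

theorem wDiv_nonneg {φ : Fin (n + 1) → K} (hφ : LinearIndependent k φ) (τ : K →ₐ[k] K)
    {s : K} {H : K →ₐ[k] PowerSeries K} (hH : LocRes.IsHasseFamily s H) {J : Fin n → ℕ}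
    (hJ : IsOrders K (hcol τ H φ) J) : 0 ≤ wDiv τ H Φ s φ J := by
  intro P
  have h := ff hK
  obtain ⟨t, Ht, φ', y, -, -, ht, hHt, hφ', heff, hnorm, hJ', e⟩ := exists_normal_form hK hΦ hφ τ hH hJ P
  rw [e, Finsupp.zero_apply, wDiv_normalized hK hΦ τ P ht hHt heff hnorm]
  have hb := val_det_le P (wrMat τ Ht φ' J) (fun _ => 0)
    (Fin.cases (mapDiv k (τ ∘ φ') P) fun _ => 0) fun i c => by
      induction c using Fin.cases with
      | zero => simpa [wrMat] using val_le_exp_mapDiv h (τ ∘ φ') P i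
      | succ l => simpa [wrMat] using val_hasseD_le h P ht hHt (hnorm i) (J l)
  rw [Finset.sum_const_zero, zero_add, Fin.sum_univ_succ] at hb
  simp only [Fin.cases_zero, Fin.cases_succ, Finset.sum_const_zero, add_zero] at hb
  rw [val_le_exp_iff P (det_wrMat_ne_zero hφ' τ hJ')] at hb
  omega

theorem deg_wDiv {φ : Fin (n + 1) → K} (τ : K →ₐ[k] K) {s : K} {H : K →ₐ[k] PowerSeries K}
    (hH : LocRes.IsHasseFamily s H) (J : Fin n → ℕ) :
    (wDiv τ H Φ s φ J).deg = ((Module.finrank τ.fieldRange K : ℤ) + n) * (mapDiv k φ).deg +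
      (2 * (genus k K : ℤ) - 2) * ∑ l, (J l : ℤ) := by
  have h := ff hK
  have hz : ∀ (m : ℤ) (D : Divisor k K), (m • D).deg = m * D.deg := fun m D => by
    rw [show (m • D).deg = degHom k K (m • D) from rfl, map_zsmul, smul_eq_mul]
    rfl
  rw [wDiv, deg_add, deg_add, deg_add, deg_div h, deg_mapDiv_twist h, hz, hz,
    deg_divDiff hK hΦ (sep_of_hasse h hH)]
  ring

end Groth.Agent.Wronskian26
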