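import Groth.Agent.Lib.Wronskian26.Expansion
import Groth.Prelude.Def_LocRes
import Mathlib.FieldTheory.SeparablyGenerated
import Mathlib.FieldTheory.IntermediateField.Adjoin.Algebra
import Mathlib.FieldTheory.PrimitiveElement
import Mathlib.RingTheory.Unramified.Field
import Mathlib.RingTheory.Henselian
import Mathlib.RingTheory.AdicCompletion.Completeness

/-! # Separating elements, differentials and Hasse families -/

namespace Groth.Agent.Wronskian26

open FunFld FunField Polynomial IntermediateField IntermediateField.algebraAdjoinAdjoin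

universe u v w

variable {k : Type u} {K : Type v} [Field k] [Field K] [Algebra k K]

variable (k) in
/-- `du` spans the differentials of `K/k`. -/
def Sep (u : K) : Prop := Submodule.span K {KaehlerDifferential.D k K u} = ⊤

theorem Sep.der_eq_zero {u : K} (hu : Sep k u) {M : Type w} [AddCommGroup M] [Module k M] [Module K M]
    [IsScalarTower k K M] (d : Derivation k K M) (hd : d u = 0) (y : K) : d y = 0 := by
  have hy : KaehlerDifferential.D k K y ∈ Submodule.span K {KaehlerDifferential.D k K u} := by rw [hu]; trivial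
  obtain ⟨c, hc⟩ := Submodule.mem_span_singleton.1 hy
  have := congrArg d.liftKaehlerDifferential hc
  rw [map_smul, Derivation.liftKaehlerDifferential_comp_D, Derivation.liftKaehlerDifferential_comp_D, hd,
    smul_zero] at this
  exact this.symm

/-- The derivation along a homomorphism into a commutative algebra. -/
theorem Sep.der_eq_zero' {u : K} (hu : Sep k u) {L : Type w} [CommRing L] [Algebra k L] (φ : K →ₐ[k] L)
    (d : K → L) (hadd : ∀ x y, d (x + y) = d x + d y) (hmul : ∀ x y, d (x * y) = φ x * d y + φ y * d x)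
    (hconst : ∀ c, d (algebraMap k K c) = 0) (hdu : d u = 0) (y : K) : d y = 0 := by
  letI := φ.toRingHom.toAlgebra
  haveI : IsScalarTower k K L := IsScalarTower.of_algebraMap_eq fun c => (φ.commutes c).symm
  let D : Derivation k K L := Derivation.mk'
    { toFun := d
      map_add' := hadd
      map_smul' := fun c x => by
        rw [Algebra.smul_def, hmul, hconst, mul_zero, add_zero, AlgHom.commutes, RingHom.id_apply, Algebra.smul_def] }
    hmul
  exact hu.der_eq_zero D hdu y

theorem der_adjoin_eq_zero (x : K) {M : Type w} [AddCommGroup M] [Module k M] [Module K M] (d : Derivation k K M)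
    (hd : d x = 0) {y : K} (hy : y ∈ k⟮x⟯) : d y = 0 := by
  let S : IntermediateField k K :=
    { carrier := {y | d y = 0}
      add_mem' := fun {a b} (ha : d a = 0) (hb : d b = 0) => show d (a + b) = 0 by rw [map_add, ha, hb, add_zero]
      mul_mem' := fun {a b} (ha : d a = 0) (hb : d b = 0) =>
        show d (a * b) = 0 by rw [Derivation.leibniz, ha, hb, smul_zero, smul_zero, add_zero]
      algebraMap_mem' := fun c => d.map_algebraMap c
      inv_mem' := fun a (ha : d a = 0) => show d a⁻¹ = 0 by rw [Derivation.leibniz_inv, ha, smul_zero] }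
  exact (adjoin_simple_le_iff.2 hd : k⟮x⟯ ≤ S) hy

theorem sep_of_isSeparable (x : K) [Algebra.IsSeparable k⟮x⟯ K] : Sep k x := by
  rw [Sep, eq_top_iff, ← KaehlerDifferential.span_range_derivation, Submodule.span_le]
  rintro _ ⟨y, rfl⟩
  let W := Submodule.span K {KaehlerDifferential.D k K x}
  let d : Derivation k K (Ω[K⁄k] ⧸ W) := W.mkQ.compDer (KaehlerDifferential.D k K)
  have hdx : d x = 0 := (Submodule.Quotient.mk_eq_zero W).2 (Submodule.mem_span_singleton_self _)
  let p := minpoly k⟮x⟯ y
  let d' : Derivation k⟮x⟯ K (Ω[K⁄k] ⧸ W) :=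
    { toLinearMap :=
        { toFun := d
          map_add' := map_add d
          map_smul' := fun c z => by
            rw [RingHom.id_apply, show c • z = (c : K) * z from rfl, Derivation.leibniz,
              der_adjoin_eq_zero x d hdx c.2, smul_zero, add_zero]
            rfl }
      map_one_eq_zero' := d.map_one_eq_zero
      leibniz' := d.leibniz }
  have h := d'.map_aeval p y
  rw [minpoly.aeval, map_zero] at h
  have hne : aeval y (derivative p) ≠ 0 := by
    have hs := Algebra.IsSeparable.isSeparable k⟮x⟯ y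
    exact hs.aeval_derivative_ne_zero (minpoly.aeval _ _)
  have : d y = 0 := by
    have := congrArg ((aeval y (derivative p))⁻¹ • ·) h.symm
    simpa [smul_smul, inv_mul_cancel₀ hne, d'] using this
  exact (Submodule.Quotient.mk_eq_zero W).1 this

variable [IsAlgClosed k]

omit [IsAlgClosed k] in
theorem essFiniteType (h : FF k K) : Algebra.EssFiniteType k K := by
  obtain ⟨x, hx, _⟩ := h
  haveI : Algebra.EssFiniteType k k⟮x⟯ := by
    rw [IntermediateField.essFiniteType_iff]; exact ⟨{x}, by simp⟩
  exact Algebra.EssFiniteType.comp k k⟮x⟯ K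

theorem exists_sep (h : FF k K) : ∃ x : K, Sep k x := by
  obtain ⟨x, hx, hfin⟩ := h
  haveI := essFiniteType (k := k) ⟨x, hx, hfin⟩
  obtain ⟨s, hs, hsep⟩ := exists_isTranscendenceBasis_and_isSeparable_of_perfectField k K
  have htr : Algebra.trdeg k K ≤ 1 := by
    haveI : Algebra.IsAlgebraic (Algebra.adjoin k ({x} : Set K)) K := by
      haveI : Algebra.IsAlgebraic k⟮x⟯ K := Algebra.IsAlgebraic.of_finite _ _
      exact (IsFractionRing.comap_isAlgebraic_iff (A := Algebra.adjoin k ({x} : Set K)) (K := k⟮x⟯) (C := K)).2 this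
    simpa using Algebra.IsAlgebraic.trdeg_le_cardinalMk (R := k) (A := K) (s := ({x} : Set K))
  have hcard : s.card ≤ 1 := by
    have := hs.cardinalMk_eq_trdeg
    rw [← this] at htr
    simpa using htr
  obtain ⟨y, hy⟩ : ∃ y, (s : Set K) ⊆ {y} := by
    rcases s.eq_empty_or_nonempty with rfl | ⟨y, hy⟩
    · exact ⟨0, by simp⟩
    · exact ⟨y, fun z hz => Finset.card_le_one.1 hcard z hz y hy⟩
  haveI : Algebra.IsSeparable k⟮y⟯ K := by
    have hle : IntermediateField.adjoin k (s : Set K) ≤ k⟮y⟯ := adjoin.mono _ _ _ hy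
    letI := (IntermediateField.inclusion hle).toRingHom.toAlgebra
    haveI : IsScalarTower (IntermediateField.adjoin k (s : Set K)) k⟮y⟯ K := IsScalarTower.of_algebraMap_eq fun _ => rfl
    exact Algebra.isSeparable_tower_top_of_isSeparable (IntermediateField.adjoin k (s : Set K)) k⟮y⟯ K
  exact ⟨y, sep_of_isSeparable y⟩

/-- An element with a nonvanishing derivative is separating. -/
theorem sep_of_der_ne_zero (h : FF k K) {u : K} {L : Type w} [Field L] [Algebra k L] (φ : K →ₐ[k] L)
    (d : K → L) (hadd : ∀ x y, d (x + y) = d x + d y) (hmul : ∀ x y, d (x * y) = φ x * d y + φ y * d x)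
    (hconst : ∀ c, d (algebraMap k K c) = 0) (hdu : d u ≠ 0) : Sep k u := by
  obtain ⟨x, hx⟩ := exists_sep h
  have hmem : KaehlerDifferential.D k K u ∈ Submodule.span K {KaehlerDifferential.D k K x} := by rw [hx]; trivial
  obtain ⟨c, hc⟩ := Submodule.mem_span_singleton.1 hmem
  have hc0 : c ≠ 0 := by
    rintro rfl
    letI := φ.toRingHom.toAlgebra
    haveI : IsScalarTower k K L := IsScalarTower.of_algebraMap_eq fun c => (φ.commutes c).symm
    let D : Derivation k K L := Derivation.mk'
      { toFun := d
        map_add' := hadd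
        map_smul' := fun c x => by
          rw [Algebra.smul_def, hmul, hconst, mul_zero, add_zero, AlgHom.commutes, RingHom.id_apply, Algebra.smul_def] }
      hmul
    have := congrArg D.liftKaehlerDifferential hc
    rw [zero_smul, map_zero, Derivation.liftKaehlerDifferential_comp_D] at this
    exact hdu this.symm
  rw [Sep, eq_top_iff, ← hx, Submodule.span_le, Set.singleton_subset_iff]
  refine Submodule.mem_span_singleton.2 ⟨c⁻¹, ?_⟩
  rw [← hc, smul_smul, inv_mul_cancel₀ hc0, one_smul]

theorem sep_uniformizer (h : FF k K) (P : Place k K) {t : K} (ht : P.1 t = WithZero.exp (-1)) : Sep k t := by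
  refine sep_of_der_ne_zero h (expand P h ht) (fun z => LocRes.D k (expand P h ht z))
    (fun x y => by simp only [map_add]) (fun x y => ?_) (fun c => ?_) ?_
  · rw [map_mul, Derivation.leibniz, smul_eq_mul, smul_eq_mul]
  · rw [AlgHom.commutes]; exact Derivation.map_algebraMap _ c
  · simp only [expand_t]
    intro h0
    have := congrArg (fun f : LaurentSeries k => f.coeff 0) h0
    rw [LocRes.D_coeff] at this
    simp at this

omit [IsAlgClosed k] in
theorem hasse_leibniz (H : K →ₐ[k] PowerSeries K) (hc : ∀ y, PowerSeries.constantCoeff (H y) = y) (x y : K) :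
    PowerSeries.coeff 1 (H (x * y)) = x * PowerSeries.coeff 1 (H y) + y * PowerSeries.coeff 1 (H x) := by
  rw [map_mul, PowerSeries.coeff_one_mul, hc, hc]
  ring

omit [IsAlgClosed k] in
theorem hasse_const (H : K →ₐ[k] PowerSeries K) (c : k) {j : ℕ} (hj : j ≠ 0) :
    PowerSeries.coeff j (H (algebraMap k K c)) = 0 := by
  rw [AlgHom.commutes, PowerSeries.algebraMap_apply, PowerSeries.coeff_C, if_neg hj]

theorem sep_of_hasse (h : FF k K) {s : K} {H : K →ₐ[k] PowerSeries K} (hH : LocRes.IsHasseFamily s H) : Sep k s := by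
  refine sep_of_der_ne_zero h (AlgHom.id k K) (fun z => PowerSeries.coeff 1 (H z)) (fun x y => by simp)
    (fun x y => hasse_leibniz H hH.2 x y) (fun c => hasse_const H c one_ne_zero) ?_
  simp [hH.1]

omit [IsAlgClosed k] in
/-- Uniqueness of Hasse-type homomorphisms. -/
theorem Sep.hom_ext {u : K} (hu : Sep k u) {L : Type w} [CommRing L] [Algebra k L] (φ : K →ₐ[k] L)
    (F G : K →+* PowerSeries L) (hF : ∀ y, PowerSeries.constantCoeff (F y) = φ y)
    (hG : ∀ y, PowerSeries.constantCoeff (G y) = φ y) (hk : ∀ c, F (algebraMap k K c) = G (algebraMap k K c))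
    (he : F u = G u) : F = G := by
  ext y j
  induction j using Nat.strong_induction_on generalizing y with
  | h j ih =>
    rcases Nat.eq_zero_or_pos j with rfl | hj
    · simp [hF, hG]
    have := hu.der_eq_zero' φ (fun z => PowerSeries.coeff j (F z) - PowerSeries.coeff j (G z))
      (fun a b => by simp only [map_add]; ring) (fun a b => ?_) (fun c => by rw [hk, sub_self])
      (by rw [he, sub_self]) y
    · exact sub_eq_zero.1 this
    rw [map_mul F, map_mul G, PowerSeries.coeff_mul, PowerSeries.coeff_mul, ← Finset.sum_sub_distrib]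
    have hne : ((0 : ℕ), j) ≠ (j, 0) := fun e => hj.ne (Prod.ext_iff.1 e).1
    rw [← Finset.sum_subset (s₁ := {((0 : ℕ), j), (j, 0)}) (by
        intro x hx; simp only [Finset.mem_insert, Finset.mem_singleton] at hx
        rcases hx with rfl | rfl <;> simp)
      (fun x hx hx' => by
        simp only [Finset.mem_insert, Finset.mem_singleton, not_or] at hx'
        have hx0 : x.1 + x.2 = j := by simpa using hx
        obtain ⟨x1, x2⟩ := x
        have h1 : x1 ≠ 0 := fun e => hx'.1 (by subst e; simp at hx0; simp [hx0])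
        have h2 : x2 ≠ 0 := fun e => hx'.2 (by subst e; simp at hx0; simp [hx0])
        simp only at hx0 ⊢
        rw [ih x1 (by omega) a, ih x2 (by omega) b, sub_self]),
      Finset.sum_pair hne]
    simp only [PowerSeries.coeff_zero_eq_constantCoeff, hF, hG]
    ring

omit [IsAlgClosed k] in
/-- Lifting a finite separable extension along a henselian surjection. -/
theorem exists_hensel_lift {F : Type*} {E : Type*} {S : Type*} [Field F] [Field E] [Algebra F E]
    [Module.Finite F E] [Algebra.IsSeparable F E] [CommRing S] [Algebra F S] (cc : S →+* E)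
    (hcc : ∀ z, cc (algebraMap F S z) = algebraMap F E z) (hsurj : Function.Surjective cc) (I : Ideal S)
    (hI : ∀ x, x ∈ I ↔ cc x = 0) (hhens : HenselianRing S I) :
    ∃ H : E →+* S, (∀ z, H (algebraMap F E z) = algebraMap F S z) ∧ ∀ y, cc (H y) = y := by
  let pb := Field.powerBasisOfFiniteOfSeparable F E
  obtain ⟨a, ha⟩ := hsurj pb.gen
  have hev : ∀ q : Polynomial F, cc ((q.map (algebraMap F S)).eval a) = aeval pb.gen q := by
    intro q
    rw [eval_map, hom_eval₂, show cc.comp (algebraMap F S) = algebraMap F E from RingHom.ext hcc, ha, aeval_def]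
  obtain ⟨β, hβ, hβ'⟩ := hhens.is_henselian ((minpoly F pb.gen).map (algebraMap F S))
    ((minpoly.monic pb.isIntegral_gen).map _) a (by rw [hI, hev, minpoly.aeval])
    (by
      have hne : aeval pb.gen (derivative (minpoly F pb.gen)) ≠ 0 :=
        (Algebra.IsSeparable.isSeparable F pb.gen).aeval_derivative_ne_zero (minpoly.aeval _ _)
      obtain ⟨b, hb⟩ := hsurj (aeval pb.gen (derivative (minpoly F pb.gen)))⁻¹
      rw [derivative_map]
      refine IsUnit.of_mul_eq_one (Ideal.Quotient.mk I b) ?_
      rw [← map_mul, ← map_one (Ideal.Quotient.mk I), Ideal.Quotient.eq, hI, map_sub, map_mul, hev, hb,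
        mul_inv_cancel₀ hne, map_one, sub_self])
  have hβr : aeval β (minpoly F pb.gen) = 0 := by rw [aeval_def, ← eval_map]; exact hβ
  have hβc : cc β = pb.gen := by
    rw [hI, map_sub, sub_eq_zero, ha] at hβ'
    exact hβ'
  let c : E →ₐ[F] E :=
    { cc.comp (pb.lift β hβr).toRingHom with
      commutes' := fun z => by
        show cc ((pb.lift β hβr) (algebraMap F E z)) = _
        rw [AlgHom.commutes]; exact hcc z }
  have hc : c = AlgHom.id F E := pb.algHom_ext (by
    show cc ((pb.lift β hβr) pb.gen) = pb.gen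
    rw [PowerBasis.lift_gen, hβc])
  exact ⟨(pb.lift β hβr).toRingHom, fun z => AlgHom.commutes _ z, fun y => AlgHom.congr_fun hc y⟩

variable (k K) in
/-- The constant coefficient as an algebra homomorphism. -/
noncomputable def ccAlg : PowerSeries K →ₐ[k] K :=
  { PowerSeries.constantCoeff with commutes' := fun c => by simp [PowerSeries.algebraMap_apply] }

omit [IsAlgClosed k] in
theorem exists_hasse (h : FF k K) {u : K} (hu : Sep k u) :
    ∃ H : K →ₐ[k] PowerSeries K, LocRes.IsHasseFamily u H := by
  classical
  haveI := essFiniteType h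
  haveI : Algebra.EssFiniteType k⟮u⟯ K := Algebra.EssFiniteType.of_comp k _ K
  haveI hun : Algebra.FormallyUnramified k⟮u⟯ K := by
    rw [Algebra.formallyUnramified_iff]
    refine (Submodule.subsingleton_iff K).1 ((subsingleton_iff_bot_eq_top).1 ?_)
    rw [← KaehlerDifferential.span_range_derivation, eq_comm, Submodule.span_eq_bot]
    rintro _ ⟨y, rfl⟩
    refine hu.der_eq_zero ((KaehlerDifferential.D k⟮u⟯ K).restrictScalars k) ?_ y
    exact Derivation.map_algebraMap (KaehlerDifferential.D k⟮u⟯ K) (AdjoinSimple.gen k u)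
  haveI : Algebra.IsSeparable k⟮u⟯ K := Algebra.FormallyUnramified.isSeparable _ _
  haveI : Module.Finite k⟮u⟯ K := Algebra.FormallyUnramified.finite_of_free _ _
  have htr : Transcendental k u := by
    intro halg
    haveI : FiniteDimensional k k⟮u⟯ := adjoin.finiteDimensional halg.isIntegral
    haveI : FiniteDimensional k K := FiniteDimensional.trans k k⟮u⟯ K
    obtain ⟨x, hx, -⟩ := h
    exact hx (Algebra.IsAlgebraic.isAlgebraic x)
  -- the homomorphism on `k(u)`
  let E : k[X] ≃ₐ[k] Algebra.adjoin k ({u} : Set K) :=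
    (AlgEquiv.ofInjective (Polynomial.aeval u) (transcendental_iff_injective.1 htr)).trans
      (Subalgebra.equivOfEq _ _ (Algebra.adjoin_singleton_eq_range_aeval k u).symm)
  have hE : ∀ q, (E q : K) = aeval u q := fun q => rfl
  let g : Algebra.adjoin k ({u} : Set K) →ₐ[k] PowerSeries K :=
    (Polynomial.aeval (PowerSeries.C u + PowerSeries.X : PowerSeries K)).comp E.symm.toAlgHom
  have hgE : ∀ q, g (E q) = aeval (PowerSeries.C u + PowerSeries.X : PowerSeries K) q := fun q => by
    show aeval _ (E.symm (E q)) = _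
    rw [AlgEquiv.symm_apply_apply]
  have hgc : ∀ z : Algebra.adjoin k ({u} : Set K), PowerSeries.constantCoeff (g z) = z := by
    intro z
    obtain ⟨q, rfl⟩ : ∃ q, E q = z := ⟨E.symm z, E.apply_symm_apply z⟩
    rw [hgE, hE]
    show ccAlg k K _ = _
    rw [← Polynomial.aeval_algHom_apply (ccAlg k K), show ccAlg k K (PowerSeries.C u + PowerSeries.X) = u by
      show PowerSeries.constantCoeff (PowerSeries.C u + PowerSeries.X) = u
      simp]
  have hunit : ∀ z : ↥(nonZeroDivisors ↥(Algebra.adjoin k ({u} : Set K))), IsUnit (g (z : ↥(Algebra.adjoin k ({u} : Set K)))) := fun z =>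
    PowerSeries.isUnit_iff_constantCoeff.2 (by
      rw [hgc]; exact isUnit_iff_ne_zero.2 fun e => nonZeroDivisors.ne_zero z.2 (Subtype.ext e))
  let ι : k⟮u⟯ →ₐ[k] PowerSeries K := IsLocalization.liftAlgHom (A := k) (R := ↥(Algebra.adjoin k ({u} : Set K))) (M := nonZeroDivisors ↥(Algebra.adjoin k ({u} : Set K))) (S := k⟮u⟯) (P := PowerSeries K) (f := g) hunit
  have hι : ι (AdjoinSimple.gen k u) = PowerSeries.C u + PowerSeries.X := by
    rw [show AdjoinSimple.gen k u = algebraMap (Algebra.adjoin k ({u} : Set K)) k⟮u⟯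
      ⟨u, Algebra.self_mem_adjoin_singleton k u⟩ from rfl]
    simp only [ι, IsLocalization.liftAlgHom_apply, IsLocalization.lift_eq]
    rw [show (⟨u, Algebra.self_mem_adjoin_singleton k u⟩ : Algebra.adjoin k ({u} : Set K)) = E X from
      Subtype.ext (by rw [hE, aeval_X])]
    show g (E X) = _
    rw [hgE, aeval_X]
  have hιc : ∀ z, PowerSeries.constantCoeff (ι z) = (z : K) := fun z => by
    have : (PowerSeries.constantCoeff).comp ι.toRingHom = algebraMap k⟮u⟯ K := by
      refine IsLocalization.ringHom_ext (nonZeroDivisors (Algebra.adjoin k ({u} : Set K))) (RingHom.ext fun w => ?_)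
      simp only [ι, RingHom.comp_apply, AlgHom.toRingHom_eq_coe, RingHom.coe_coe, IsLocalization.liftAlgHom_apply,
        IsLocalization.lift_eq]
      exact hgc w
    exact RingHom.congr_fun this z
  obtain ⟨H, hH, hHc⟩ := @exists_hensel_lift k⟮u⟯ K (PowerSeries K) _ _ _ _ _ _ ι.toRingHom.toAlgebra
    PowerSeries.constantCoeff hιc (fun x => ⟨PowerSeries.C x, PowerSeries.constantCoeff_C x⟩)
    (Ideal.span {PowerSeries.X}) (fun x => by rw [Ideal.mem_span_singleton, PowerSeries.X_dvd_iff])
    inferInstance
  refine ⟨{ H with commutes' := fun c => ?_ }, ?_, hHc⟩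
  · show H (algebraMap k K c) = _
    rw [IsScalarTower.algebraMap_apply k k⟮u⟯ K, hH]
    exact ι.commutes c
  · show H u = _
    rw [← hι]
    exact hH (AdjoinSimple.gen k u)

end Groth.Agent.Wronskian26
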