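import Groth.Agent.Lib.Wronskian26.Local
import Groth.Agent.Lib.FunField.GenusOne
import Groth.Agent.Lib.FunField.Genus
import Groth.Agent.Lib.FunField.Weights

/-! # Automorphisms and fixed places -/

namespace Groth.Agent.Wronskian26

open FunFld FunField

variable {k K : Type*} [Field k] [Field K] [Algebra k K]

/-- The place `P ∘ σ`. -/
def comapPlace (σ : K ≃ₐ[k] K) (P : Place k K) : Place k K :=
  ⟨P.1.comap (σ : K →+* K), fun c => by simpa using P.2.1 c, fun v => by
    obtain ⟨x, hx⟩ := P.2.2 v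
    exact ⟨σ.symm x, by simpa using hx⟩⟩

theorem comapPlace_apply (σ : K ≃ₐ[k] K) (P : Place k K) (x : K) : (comapPlace σ P).1 x = P.1 (σ x) := rfl

theorem comapPlace_symm (σ : K ≃ₐ[k] K) (P : Place k K) : comapPlace σ.symm (comapPlace σ P) = P :=
  Subtype.ext (Valuation.ext fun x => by simp [comapPlace_apply])

theorem comapPlace_injective (σ : K ≃ₐ[k] K) : Function.Injective (comapPlace σ : Place k K → Place k K) :=
  fun P Q h => by rw [← comapPlace_symm σ P, h, comapPlace_symm]

variable [IsAlgClosed k]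

theorem comapPlace_of_fixed (h : FF k K) (σ : K ≃ₐ[k] K) {P : Place k K}
    (hP : ∀ z : K, P.1 z < 1 → P.1 (σ z) < 1) : comapPlace σ P = P := by
  refine place_ext fun x => ⟨fun hx => ?_, fun hx => val_tau_of_fixed h (σ : K →ₐ[k] K) hP hx⟩
  by_contra hlt
  rw [not_le] at hlt
  have := hP x⁻¹ (by rw [map_inv₀]; exact inv_lt_one_of_one_lt₀ hlt)
  rw [map_inv₀, map_inv₀, ← comapPlace_apply, inv_lt_one_iff₀] at this
  rcases this with h0 | h1
  · rw [comapPlace_apply, le_zero_iff, Valuation.zero_iff, map_eq_zero_iff _ σ.injective] at h0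
    rw [h0, map_zero] at hlt
    exact not_lt.2 zero_le hlt
  · exact absurd hx (not_le.2 h1)

theorem val_map_of_fixed (h : FF k K) (σ : K ≃ₐ[k] K) {P : Place k K}
    (hP : ∀ z : K, P.1 z < 1 → P.1 (σ z) < 1) (x : K) : P.1 (σ x) = P.1 x := by
  rw [← comapPlace_apply, comapPlace_of_fixed h σ hP]

omit [IsAlgClosed k] in
theorem fixed_of_comapPlace (σ : K ≃ₐ[k] K) {P : Place k K} (hP : comapPlace σ P = P) :
    ∀ z : K, P.1 z < 1 → P.1 (σ z) < 1 := fun z hz => by
  rw [← comapPlace_apply, hP]; exact hz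

/-- An automorphism with many fixed places fixes the functions with a small pole at one of them. -/
theorem eq_self_of_fixed (h : FF k K) (σ : K ≃ₐ[k] K) (S : Finset (Place k K))
    (hS : ∀ P ∈ S, ∀ z : K, P.1 z < 1 → P.1 (σ z) < 1) {P₀ : Place k K} (hP₀ : P₀ ∈ S) {m : ℕ}
    (hm : m + 1 < S.card) {x : K} (hx : x ∈ FunFld.L (Finsupp.single P₀ (m : ℤ))) : σ x = x := by
  classical
  let D : Divisor k K := Finsupp.single P₀ (m : ℤ) - ∑ P ∈ S.erase P₀, Finsupp.single P 1
  have hdeg : D.deg < 0 := by
    have hsum : ∀ T : Finset (Place k K), (∑ P ∈ T, Finsupp.single P (1 : ℤ) : Divisor k K).deg = T.card := by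
      intro T
      induction T using Finset.induction_on with
      | empty => simp [deg_zero]
      | insert a T ha ih =>
        rw [Finset.sum_insert ha, deg_add, ih, deg_single, deg_eq_one h, Finset.card_insert_of_notMem ha]
        push_cast; ring
    simp only [D]
    rw [deg_sub, deg_single, deg_eq_one h, hsum, Finset.card_erase_of_mem hP₀]
    omega
  have hmem : σ x - x ∈ FunFld.L D := by
    intro Q
    have hσ : ∀ Q : Place k K, Q.1 (σ x) ≤ WithZero.exp (if Q = P₀ then (m : ℤ) else 0) := by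
      intro Q
      rw [← comapPlace_apply]
      refine (hx _).trans_eq ?_
      rw [Finsupp.single_apply]
      congr 1
      have hfix := comapPlace_of_fixed h σ (hS P₀ hP₀)
      by_cases e : Q = P₀
      · rw [if_pos e, e, hfix, if_pos rfl]
      · rw [if_neg e, if_neg fun e' => e (comapPlace_injective σ (e'.symm.trans hfix.symm))]
    have hx' : ∀ Q : Place k K, Q.1 x ≤ WithZero.exp (if Q = P₀ then (m : ℤ) else 0) := fun Q => by
      refine (hx Q).trans_eq ?_
      rw [Finsupp.single_apply]
      simp only [eq_comm]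
    simp only [D, Finsupp.sub_apply, Finsupp.finsetSum_apply, Finsupp.single_apply, Finset.sum_ite_eq']
    rcases eq_or_ne Q P₀ with rfl | hne
    · rw [if_pos rfl, if_neg (by simp), sub_zero]
      exact (Q.1.map_sub _ _).trans (max_le ((hσ Q).trans_eq (by rw [if_pos rfl]))
        ((hx' Q).trans_eq (by rw [if_pos rfl])))
    · rw [if_neg hne.symm]
      by_cases hQ : Q ∈ S
      · rw [if_pos (Finset.mem_erase.2 ⟨hne, hQ⟩)]
        obtain ⟨c, hc⟩ := exists_const_near h Q ((hx' Q).trans_eq (by rw [if_neg hne, WithZero.exp_zero]))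
        have hc' := hS Q hQ _ hc
        rw [map_sub, AlgEquiv.commutes] at hc'
        rw [show σ x - x = (σ x - algebraMap k K c) - (x - algebraMap k K c) by ring, zero_sub]
        exact (lt_one_iff_le _).1 ((Q.1.map_sub _ _).trans_lt (max_lt hc' hc))
      · rw [if_neg (fun h' => hQ (Finset.mem_of_mem_erase h')), sub_zero]
        exact (Q.1.map_sub _ _).trans (max_le ((hσ Q).trans_eq (by rw [if_neg hne]))
          ((hx' Q).trans_eq (by rw [if_neg hne])))
  rw [L_eq_bot_of_deg_neg h hdeg, Submodule.mem_bot, sub_eq_zero] at hmem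
  exact hmem

theorem not_gap_of_large (hK : IsFunctionField k K) (P : Place k K) {m : ℕ} (hm : 2 * genus k K ≤ m)
    (hm0 : 0 < m) : ¬ IsGap P m := by
  intro hgap
  have h1 := ell_of_large_deg hK (Finsupp.single P (m : ℤ)) (by rw [deg_single, deg_eq_one (ff hK)]; omega)
  have h2 := ell_of_large_deg hK (Finsupp.single P ((m : ℤ) - 1)) (by rw [deg_single, deg_eq_one (ff hK)]; omega)
  rw [deg_single, deg_eq_one (ff hK), ell, hgap] at h1
  rw [deg_single, deg_eq_one (ff hK), ell] at h2
  omega

theorem eq_one_of_fixed (hK : IsFunctionField k K) (σ : K ≃ₐ[k] K) (S : Finset (Place k K))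
    (hS : ∀ P ∈ S, ∀ z : K, P.1 z < 1 → P.1 (σ z) < 1) (hcard : 2 * genus k K + 2 < S.card) : σ = 1 := by
  have h := ff hK
  obtain ⟨P₀, hP₀⟩ : S.Nonempty := Finset.card_pos.1 (by omega)
  obtain ⟨x, -, hxL, hxo⟩ := not_gap_iff.1
    (not_gap_of_large hK P₀ (m := max (2 * genus k K) 1) (le_max_left _ _) (by omega))
  obtain ⟨y, -, hyL, hyo⟩ := not_gap_iff.1
    (not_gap_of_large hK P₀ (m := 2 * genus k K + 1) (by omega) (by omega))
  have hgen := adjoin_pair_eq_top h (deg_eq_one h P₀) (m := max (2 * genus k K) 1) (n := 2 * genus k K + 1)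
    (by omega) (by omega) (by
      rcases Nat.eq_zero_or_pos (genus k K) with e | e
      · simp [e]
      · rw [max_eq_left (by omega), Nat.coprime_self_add_right]
        exact Nat.coprime_one_right _) hxL hxo hyL hyo
  have hx := eq_self_of_fixed h σ S hS hP₀ (by omega) hxL
  have hy := eq_self_of_fixed h σ S hS hP₀ (by omega) hyL
  let F : IntermediateField k K :=
    { carrier := {z | σ z = z}
      add_mem' := fun {a b} (ha : σ a = a) (hb : σ b = b) => show σ (a + b) = _ by rw [map_add, ha, hb]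
      mul_mem' := fun {a b} (ha : σ a = a) (hb : σ b = b) => show σ (a * b) = _ by rw [map_mul, ha, hb]
      algebraMap_mem' := σ.commutes
      inv_mem' := fun a (ha : σ a = a) => show σ a⁻¹ = _ by rw [map_inv₀, ha] }
  have hle : IntermediateField.adjoin k ({x, y} : Set K) ≤ F :=
    IntermediateField.adjoin_le_iff.2 (Set.insert_subset hx (Set.singleton_subset_iff.2 hy))
  ext z
  exact hle (hgen ▸ IntermediateField.mem_top : z ∈ IntermediateField.adjoin k ({x, y} : Set K))

end Groth.Agent.Wronskian26
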