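import Groth.Agent.Lib.Wronskian26.Global

/-! # Orders at a place as orders of functions; orders of a twisted map -/

namespace Groth.Agent.Wronskian26

open FunFld FunField

variable {k K : Type*} [Field k] [Field K] [Algebra k K] {n : ℕ}

omit [Algebra k K] in
theorem val_eq_of_sub_lt {v : Valuation K (WithZero (Multiplicative ℤ))} {a b : K} (h : v (a - b) < v b) : v a = v b := by
  rw [show a = (a - b) + b by ring, Valuation.map_add_eq_of_lt_right _ h]

theorem evalP_eq_one (P : Place k K) {z : K} (h : P.1 (z - 1) < 1) : evalP P z = 1 := by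
  have hz : P.1 z = 1 := (val_eq_of_sub_lt (by rwa [map_one])).trans (map_one _)
  rw [evalP, dif_pos hz.le, ← map_one (IsLocalRing.residue P.O), ← sub_eq_zero, ← map_sub, residue_eq_zero_iff]
  exact h

variable [IsAlgClosed k] (hK : FF k K) (P : Place k K) {t : K} (ht : P.1 t = WithZero.exp (-1))

omit [IsAlgClosed k] in
include ht in
theorem val_sub_pow {f : K} {e : PowerSeries k} (he : IsExp P t f e) {J : ℕ}
    (hlow : ∀ m < J, PowerSeries.coeff m e = 0) (hone : PowerSeries.coeff J e = 1) :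
    P.1 (f - t ^ J) ≤ WithZero.exp (-((J + 1 : ℕ) : ℤ)) ∧ P.1 f = WithZero.exp (-(J : ℤ)) ∧
      evalP P (f / t ^ J) = 1 := by
  have htr : PowerSeries.trunc (J + 1) e = Polynomial.monomial J 1 := by
    ext m
    rw [PowerSeries.coeff_trunc, Polynomial.coeff_monomial]
    rcases lt_trichotomy m J with h | rfl | h
    · rw [if_pos (by omega), if_neg (by omega), hlow m h]
    · simp [hone]
    · rw [if_neg (by omega), if_neg (by omega)]
  have h1 := he (J + 1)
  rw [htr, Polynomial.aeval_monomial, map_one, one_mul] at h1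
  have hlt : P.1 (f - t ^ J) < P.1 (t ^ J) :=
    lt_of_le_of_lt h1 (by rw [val_pow ht, WithZero.exp_lt_exp]; omega)
  refine ⟨h1, (val_eq_of_sub_lt hlt).trans (val_pow ht J), evalP_eq_one P ?_⟩
  have ht0 : t ^ J ≠ 0 := pow_ne_zero _ (ne_zero_of_val ht)
  rw [show f / t ^ J - 1 = (f - t ^ J) / t ^ J by field_simp, map_div₀]
  exact (div_lt_one₀ ((zero_le).trans_lt hlt)).2 hlt

variable {Ht : K →ₐ[k] PowerSeries K} (hHt : LocRes.IsHasseFamily t Ht) (φ : Fin (n + 1) → K)
  (hnorm : ∀ i, P.1 (φ i) ≤ 1)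

include hK ht in
theorem adapted_basis (hφ : LinearIndependent k φ) (heff : (1 : K) ∈ Submodule.span k (Set.range φ))
    {J : Fin n → ℕ} (hJ : IsOrders k (ecol (expTuple hK P ht φ hnorm)) J) :
    ∃ φ' : Fin (n + 1) → K,
      Submodule.span k (Set.range φ') = Submodule.span k (Set.range φ) ∧
      P.1 (φ' 0) = 1 ∧ evalP P (φ' 0) = 1 ∧
      ∀ l : Fin n, P.1 (φ' l.succ) = WithZero.exp (-(J l : ℤ)) ∧ evalP P (φ' l.succ / t ^ J l) = 1 := by
  obtain ⟨A, hA, hA0, e, he, hlow, hone⟩ := exists_adapted hK P ht φ hnorm heff hJ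
  refine ⟨fun i => ∑ j, A i j • φ j, ?_, by simp only [hA0, map_one], ?_, fun l =>
    ⟨(val_sub_pow P ht (he l) (hlow l) (hone l)).2.1, (val_sub_pow P ht (he l) (hlow l) (hone l)).2.2⟩⟩
  · haveI := FiniteDimensional.span_of_finite k (Set.finite_range φ)
    refine Submodule.eq_of_le_of_finrank_eq (Submodule.span_le.2 ?_) ?_
    · rintro _ ⟨i, rfl⟩
      exact Submodule.sum_mem _ fun j _ => Submodule.smul_mem _ _ (Submodule.subset_span ⟨j, rfl⟩)
    · have hli : LinearIndependent k (fun i => ∑ j, A i j • φ j) := by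
        rw [Fintype.linearIndependent_iff]
        intro b hb
        have hz : ∑ j, (∑ i, b i * A i j) • φ j = 0 := by
          rw [← hb]
          simp only [Finset.smul_sum, Finset.sum_smul, smul_smul]
          exact Finset.sum_comm
        have hv : Matrix.vecMul b A = 0 := funext fun j => Fintype.linearIndependent_iff.1 hφ _ hz j
        exact fun i => congrFun (Matrix.eq_zero_of_vecMul_eq_zero hA hv) i
      rw [finrank_span_eq_card hli, finrank_span_eq_card hφ]
  · simp only [hA0]
    exact evalP_eq_one P (by simp)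

include hK ht in
theorem mem_range_iff_exists_order (heff : (1 : K) ∈ Submodule.span k (Set.range φ))
    {J : Fin n → ℕ} (hJ : IsOrders k (ecol (expTuple hK P ht φ hnorm)) J) (j : ℕ) :
    (j = 0 ∨ j ∈ Set.range J) ↔ ∃ f ∈ Submodule.span k (Set.range φ), P.1 f = WithZero.exp (-(j : ℤ)) := by
  have key : (j ∈ Set.range J ∧ j ≠ 0) ↔ (j ≠ 0 ∧ ∃ f ∈ Submodule.span k (Set.range φ), P.1 f = WithZero.exp (-(j : ℤ))) := by
    constructor
    · rintro ⟨⟨l, rfl⟩, hne⟩
      obtain ⟨A, hA, hA0, e, he, hlow, hone⟩ := exists_adapted hK P ht φ hnorm heff hJ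
      exact ⟨hne, _, Submodule.sum_mem _ fun i _ => Submodule.smul_mem _ (A l.succ i) (Submodule.subset_span ⟨i, rfl⟩),
        (val_sub_pow P ht (he l) (hlow l) (hone l)).2.1⟩
    · rintro ⟨hne, f, hf, hv⟩
      refine ⟨(hJ.2 j).2 ((isJump_iff_exists_dot _ _).2 ?_), hne⟩
      obtain ⟨a, rfl⟩ := (Submodule.mem_span_range_iff_exists_fun k).1 hf
      have hE := expTuple_comb hK P ht φ hnorm a
      let p := ∑ i, a i • expTuple hK P ht φ hnorm i
      have hp : ∀ m, ∑ i, a i * ecol (expTuple hK P ht φ hnorm) (m + 1) i = PowerSeries.coeff m p := fun m => by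
        simp [p, ecol]
      have hval : Valued.v ((p : PowerSeries k) : LaurentSeries k) = WithZero.exp (-(j : ℤ)) := by
        have hz : P.1 (∑ i, a i • φ i) ≤ 1 := by
          rw [hv, ← WithZero.exp_zero, WithZero.exp_le_exp]; omega
        rw [← hv, ← valued_expand P hK ht, show (∑ i, a i • φ i) = ((⟨_, hz⟩ : P.O) : K) from rfl, expand_coe,
          (isExp_expandO P hK ht _).unique ht hE]
      have hlow : ∀ m < j, PowerSeries.coeff m p = 0 := fun m hm => by
        have := (LaurentSeries.valuation_le_iff_coeff_lt_eq_zero k).1 hval.le (m : ℤ) (by exact_mod_cast hm)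
        rw [PowerSeries.coeff_coe, if_neg (by omega)] at this
        simpa using this
      refine ⟨a, fun m hm => ?_, ?_⟩
      · rcases m with _ | m
        · have := hlow 0 (Nat.pos_of_ne_zero hne)
          rw [← hp] at this
          simpa [ecol, PowerSeries.coeff_zero_eq_constantCoeff_apply] using this
        · rw [hp]; exact hlow m (by omega)
      · rw [hp]
        intro h0
        have hle : Valued.v ((p : PowerSeries k) : LaurentSeries k) ≤ WithZero.exp (-((j + 1 : ℕ) : ℤ)) := by
          rw [LaurentSeries.valuation_le_iff_coeff_lt_eq_zero]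
          intro m hm
          rw [PowerSeries.coeff_coe]
          split_ifs with hneg
          · rfl
          · rcases lt_or_eq_of_le (show m.natAbs ≤ j by omega) with h | h
            · exact hlow _ h
            · rw [h]; exact h0
        rw [hval, WithZero.exp_le_exp] at hle
        omega
  rcases eq_or_ne j 0 with rfl | hne
  · exact iff_of_true (Or.inl rfl) ⟨1, heff, by simp⟩
  · constructor
    · rintro (h | h)
      · exact absurd h hne
      · exact (key.1 ⟨h, hne⟩).2
    · exact fun h => Or.inr (key.2 ⟨hne, h⟩).1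

/-- The jumps after twisting by `τ`. -/
theorem isJump_twist {c c' : ℕ → Fin (n + 1) → K} (htail : ∀ j, c' (j + 1) = c (j + 1)) (hc0 : c 0 = c 1)
    (hc1 : IsJump K c' 1) (h0' : c' 0 ≠ 0) (hspan : Submodule.span K (Set.range c) = ⊤) {J : Fin n → ℕ}
    (hJ : IsOrders K c J) :
    ∃ m : Fin n, ∀ j : ℕ, IsJump K c' (j + 1) ↔ (j = 0 ∨ ∃ l, l ≠ m ∧ J l = j) := by
  classical
  have hc1v : ∀ N, 1 ≤ N → Submodule.span K (c' '' Set.Iio (N + 1)) = Submodule.span K {c' 0} ⊔ sp (R := K) c (N + 1) := by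
    intro N hN
    apply le_antisymm
    · rw [Submodule.span_le]
      rintro _ ⟨m, hm, rfl⟩
      rcases m with _ | m
      · exact Submodule.mem_sup_left (Submodule.mem_span_singleton_self _)
      · rw [htail]
        exact Submodule.mem_sup_right (mem_sp _ hm)
    · refine sup_le ((Submodule.span_singleton_le_iff_mem _ _).2 (Submodule.subset_span ⟨0, by simp, rfl⟩)) ?_
      rw [sp, Submodule.span_le]
      rintro _ ⟨m, hm, rfl⟩
      rcases m with _ | m
      · rw [hc0, ← htail 0]
        exact Submodule.subset_span ⟨1, by simp; omega, rfl⟩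
      · rw [← htail m]
        exact Submodule.subset_span ⟨m + 1, hm, rfl⟩
  have hex : ∃ N, c' 0 ∈ sp (R := K) c N := by
    have hle : Submodule.span K (Set.range c) ≤ ⨆ N, sp (R := K) c N := by
      rw [Submodule.span_le]
      rintro _ ⟨m, rfl⟩
      exact le_iSup (fun N => sp (R := K) c N) (m + 1) (mem_sp c (Nat.lt_succ_self m))
    exact (Submodule.mem_iSup_of_directed _ (Monotone.directed_le fun a b h => sp_mono c h)).1
      (hle (hspan ▸ Submodule.mem_top))
  have hm3 : ∀ N ≤ 2, c' 0 ∉ sp (R := K) c N := by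
    intro N hN hmem
    have h2 : sp (R := K) c 2 ≤ Submodule.span K {c 1} := by
      rw [sp, Submodule.span_le]
      rintro _ ⟨m, hm, rfl⟩
      have hm' : m < 2 := hm
      interval_cases m
      · rw [hc0]; exact Submodule.mem_span_singleton_self _
      · exact Submodule.mem_span_singleton_self _
    obtain ⟨a, ha⟩ := Submodule.mem_span_singleton.1 (h2 (sp_mono c hN hmem))
    have ha0 : a ≠ 0 := by
      rintro rfl
      rw [zero_smul] at ha
      exact h0' ha.symm
    refine hc1 (?_ : c' 1 ∈ Submodule.span K (c' '' Set.Iio 1))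
    rw [show c' 1 = c 1 from htail 0, show c 1 = a⁻¹ • c' 0 by rw [← ha, smul_smul, inv_mul_cancel₀ ha0, one_smul]]
    exact Submodule.smul_mem _ _ (Submodule.subset_span ⟨0, by simp, rfl⟩)
  obtain ⟨i0, hi0, hi2, hmem0, hnot⟩ : ∃ i0, i0 + 1 = Nat.find hex ∧ 2 ≤ i0 ∧ c' 0 ∈ sp (R := K) c (i0 + 1) ∧
      c' 0 ∉ sp (R := K) c i0 := by
    have h3 : 3 ≤ Nat.find hex := by
      by_contra h
      exact hm3 _ (by omega) (Nat.find_spec hex)
    refine ⟨Nat.find hex - 1, by omega, by omega, ?_, Nat.find_min hex (by omega)⟩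
    rw [Nat.sub_add_cancel (by omega)]
    exact Nat.find_spec hex
  have hjump0 : IsJump K c i0 := (isJump_iff_sp c i0).2 fun e => hnot (e ▸ hmem0)
  obtain ⟨j0, rfl⟩ : ∃ j0, j0 + 1 = i0 := ⟨i0 - 1, by omega⟩
  obtain ⟨m, hm⟩ := (hJ.2 j0).2 hjump0
  refine ⟨m, fun j => ?_⟩
  rcases Nat.eq_zero_or_pos j with rfl | hj
  · exact iff_of_true hc1 (Or.inl rfl)
  have hiff : IsJump K c' (j + 1) ↔ c (j + 1) ∉ Submodule.span K {c' 0} ⊔ sp (R := K) c (j + 1) := by
    rw [IsJump, hc1v j hj, htail]
  rw [hiff, or_iff_right hj.ne']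
  rcases lt_trichotomy j j0 with hlt | rfl | hgt
  · have hout : c' 0 ∉ sp (R := K) c (j + 1 + 1) := fun h => hnot (sp_mono c (by omega) h)
    constructor
    · intro h
      obtain ⟨l, hl⟩ := (hJ.2 j).2 (show IsJump K c (j + 1) from fun h' => h (Submodule.mem_sup_right h'))
      exact ⟨l, fun e => by subst e; omega, hl⟩
    · rintro ⟨l, -, hl⟩ hmem
      obtain ⟨x, hx, v, hv, e⟩ := Submodule.mem_sup.1 hmem
      obtain ⟨a, rfl⟩ := Submodule.mem_span_singleton.1 hx
      rcases eq_or_ne a 0 with rfl | ha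
      · rw [zero_smul, zero_add] at e
        exact (hJ.2 j).1 ⟨l, hl⟩ (e ▸ hv)
      · refine hout ?_
        rw [show c' 0 = a⁻¹ • (c (j + 1) - v) by rw [← e, add_sub_cancel_right, smul_smul, inv_mul_cancel₀ ha, one_smul]]
        exact Submodule.smul_mem _ _ (sub_mem (mem_sp c (Nat.lt_succ_self _)) (sp_mono c (Nat.le_succ _) hv))
  · refine iff_of_false (not_not.2 ?_) fun ⟨l, hl, e⟩ => hl (hJ.1.injective (e.trans hm.symm))
    rw [sp_succ] at hmem0
    obtain ⟨x, hx, v, hv, e⟩ := Submodule.mem_sup.1 hmem0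
    obtain ⟨a, rfl⟩ := Submodule.mem_span_singleton.1 hx
    have ha : a ≠ 0 := by rintro rfl; rw [zero_smul, zero_add] at e; exact hnot (e ▸ hv)
    rw [show c (j + 1) = a⁻¹ • (c' 0 - v) by rw [← e, add_sub_cancel_right, smul_smul, inv_mul_cancel₀ ha, one_smul]]
    exact Submodule.smul_mem _ _ (sub_mem (Submodule.mem_sup_left (Submodule.mem_span_singleton_self _))
      (Submodule.mem_sup_right hv))
  · have hin : c' 0 ∈ sp (R := K) c (j + 1) := sp_mono c (by omega) hmem0
    rw [sup_eq_right.2 ((Submodule.span_singleton_le_iff_mem _ _).2 hin)]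
    constructor
    · intro h
      obtain ⟨l, hl⟩ := (hJ.2 j).2 h
      exact ⟨l, fun e => by subst e; omega, hl⟩
    · rintro ⟨l, -, hl⟩
      exact (hJ.2 j).1 ⟨l, hl⟩

end Groth.Agent.Wronskian26
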