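import Groth.Agent.Lib.Wronskian26.Weierstrass
import Mathlib.LinearAlgebra.Dimension.Free

/-! # Finiteness of the automorphism group, hyperelliptic function fields -/

namespace Groth.Agent.Wronskian26

open FunFld FunField IntermediateField

variable {k K : Type*} [Field k] [Field K] [Algebra k K] [IsAlgClosed k] (hK : IsFunctionField k K)

include hK

theorem exists_canonical_map (hg : 0 < genus k K) :
    ∃ (n : ℕ) (C : Divisor k K) (φ : Fin (n + 1) → K), IsCanonical k K C ∧ LinearIndependent k φ ∧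
      Submodule.span k (Set.range φ) = FunFld.L C := by
  obtain ⟨C, hC⟩ := exists_isCanonical hK
  haveI := finiteDimensional_L (ff hK) C
  have hr : Module.finrank k (FunFld.L C) = genus k K - 1 + 1 := by
    rw [← ell, (isCanonical_deg hK hC).1]; omega
  let b := Module.finBasisOfFinrankEq k (FunFld.L C) hr
  refine ⟨genus k K - 1, C, fun i => (b i : K), hC,
    b.linearIndependent.map' (FunFld.L C).subtype (Submodule.ker_subtype _), ?_⟩
  rw [show Set.range (fun i => (b i : K)) = (FunFld.L C).subtype '' Set.range b by rw [← Set.range_comp]; rfl,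
    Submodule.span_image, b.span_eq, Submodule.map_top, Submodule.range_subtype]

theorem exists_nonconst (P : Place k K) : ∃ x ∈ FunFld.L (Finsupp.single P ((genus k K + 1 : ℕ) : ℤ)),
    Transcendental k x := by
  classical
  obtain ⟨m, hm1, hm2, hm⟩ : ∃ m, 1 ≤ m ∧ m ≤ genus k K + 1 ∧ ¬ IsGap P m := by
    by_contra! hall
    have h := ncard_gaps hK (deg_eq_one (ff hK) P) (genus k K + 1)
    have e : {i : ℕ | 1 ≤ i ∧ i ≤ genus k K + 1 ∧ IsGap P i} = ↑(Finset.Icc 1 (genus k K + 1)) := by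
      ext i
      simp only [Set.mem_ofPred_eq, Finset.coe_Icc, Set.mem_Icc]
      exact ⟨fun h => ⟨h.1, h.2.1⟩, fun h => ⟨h.1, h.2, hall i h.1 h.2⟩⟩
    rw [e, Set.ncard_coe_finset, Nat.card_Icc] at h
    obtain ⟨C, hC⟩ := exists_isCanonical hK
    have := riemann_roch hK hC (Finsupp.single P ((genus k K + 1 : ℕ) : ℤ))
    rw [deg_single, deg_eq_one (ff hK)] at this
    push_cast at h this
    omega
  obtain ⟨f, -, hf, hord⟩ := not_gap_iff.1 hm
  exact ⟨f, L_mono (single_le_single P (by omega)) hf, transcendental_of_pole P (by omega)⟩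

omit [IsAlgClosed k] in
theorem finite_fixing {x : K} (hx : Transcendental k x) : Finite {ρ : K ≃ₐ[k] K // ρ x = x} := by
  haveI := (ff hK).finiteDimensional hx
  have hfix : ∀ ρ : {ρ : K ≃ₐ[k] K // ρ x = x}, ∀ a ∈ k⟮x⟯, ρ.1 a = a := by
    intro ρ
    let F : IntermediateField k K :=
      { carrier := {z | ρ.1 z = z}
        add_mem' := fun {a b} (ha : ρ.1 a = a) (hb : ρ.1 b = b) => show ρ.1 (a + b) = _ by rw [map_add, ha, hb]
        mul_mem' := fun {a b} (ha : ρ.1 a = a) (hb : ρ.1 b = b) => show ρ.1 (a * b) = _ by rw [map_mul, ha, hb]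
        algebraMap_mem' := ρ.1.commutes
        inv_mem' := fun a (ha : ρ.1 a = a) => show ρ.1 a⁻¹ = _ by rw [map_inv₀, ha] }
    exact fun a ha => (adjoin_simple_le_iff.2 ρ.2 : k⟮x⟯ ≤ F) ha
  let f : {ρ : K ≃ₐ[k] K // ρ x = x} → (K →ₐ[k⟮x⟯] K) := fun ρ =>
    { toRingHom := (ρ.1 : K →+* K)
      commutes' := fun a => hfix ρ a a.2 }
  exact Finite.of_injective f fun a b e => Subtype.ext (AlgEquiv.ext fun z => DFunLike.congr_fun e z)

theorem finite_algEquiv (hg : 1 < genus k K) (hchar : ringChar k = 0 ∨ 2 * genus k K - 2 < ringChar k) :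
    Finite (K ≃ₐ[k] K) := by
  classical
  have h := ff hK
  obtain ⟨n, C, φ, hC, hφ, hspan⟩ := exists_canonical_map hK (by omega)
  obtain ⟨s, hs⟩ := exists_sep h
  obtain ⟨H, hH⟩ := exists_hasse h hs
  obtain ⟨J, hJ⟩ := exists_orders h hφ (AlgHom.id k K) hH
  obtain ⟨Φ, hΦ⟩ := exists_expansions h
  obtain ⟨hfin, hcard, -⟩ := support_spec hK hC hφ hspan hchar hH hJ hΦ hg
  set S := {P : Place k K | wDiv (AlgHom.id k K) H Φ s φ J P ≠ 0}
  have hinv : ∀ (σ : K ≃ₐ[k] K) (P : Place k K), P ∈ S → comapPlace σ P ∈ S := by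
    intro σ P hP
    simp only [S, Set.mem_ofPred_eq, Ne, (weight_spec hK hC hφ hspan hchar hH hJ hΦ _).2.2,
      ordinary_comapPlace] at hP ⊢
    exact hP
  haveI : Finite S := hfin.to_subtype
  obtain ⟨P₀, hP₀⟩ : S.Nonempty := (Set.ncard_pos hfin).1 (by omega)
  obtain ⟨x, hxL, hx⟩ := exists_nonconst hK P₀
  haveI := finite_fixing hK hx
  let f : (K ≃ₐ[k] K) → (S → S) := fun σ P => ⟨comapPlace σ P.1, hinv σ P.1 P.2⟩
  have hfibre : ∀ g : S → S, Finite {σ : K ≃ₐ[k] K // f σ = g} := by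
    intro g
    rcases isEmpty_or_nonempty {σ : K ≃ₐ[k] K // f σ = g} with he | ⟨⟨τ, hτ⟩⟩
    · infer_instance
    have hfix : ∀ σ : {σ : K ≃ₐ[k] K // f σ = g}, (τ.symm.trans σ.1) x = x := by
      intro σ
      refine eq_self_of_fixed h _ hfin.toFinset (fun P hP => ?_) (hfin.mem_toFinset.2 hP₀)
        (m := genus k K + 1) (by rw [← Set.ncard_eq_toFinset_card S hfin]; omega) hxL
      rw [hfin.mem_toFinset] at hP
      refine fixed_of_comapPlace _ (Subtype.ext (Valuation.ext fun z => ?_))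
      have e : comapPlace σ.1 P = comapPlace τ P :=
        congrArg Subtype.val (congrFun (σ.2.trans hτ.symm) ⟨P, hP⟩)
      rw [comapPlace_apply, AlgEquiv.trans_apply, ← comapPlace_apply, e, comapPlace_apply,
        AlgEquiv.apply_symm_apply]
    exact Finite.of_injective (fun σ => (⟨_, hfix σ⟩ : {ρ : K ≃ₐ[k] K // ρ x = x})) fun a b e =>
      Subtype.ext (AlgEquiv.ext fun z => by
        have := DFunLike.congr_fun (congrArg Subtype.val e) (τ z)
        simpa using this)
  exact Finite.of_equiv _ (Equiv.sigmaFiberEquiv f)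

/-- `(2g-2)P` is canonical when `2` is a nongap at `P`. -/
theorem canonical_of_not_gap_two {P : Place k K} (hg : 0 < genus k K) {x : K} (hx0 : x ≠ 0)
    (hxL : x ∈ FunFld.L (Finsupp.single P ((2 : ℕ) : ℤ))) (hord : P.ord x = -((2 : ℕ) : ℤ)) :
    IsCanonical k K (Finsupp.single P (((genus k K - 1) * 2 : ℕ) : ℤ)) ∧
    FunFld.L (Finsupp.single P (((genus k K - 1) * 2 : ℕ) : ℤ)) ≤
      Submodule.span k (Set.range fun i : Fin (genus k K) => x ^ (i : ℕ)) := by
  set D : Divisor k K := Finsupp.single P (((genus k K - 1) * 2 : ℕ) : ℤ) with hD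
  have hdeg : D.deg = 2 * (genus k K : ℤ) - 2 := by
    rw [hD, deg_single, deg_eq_one (ff hK)]
    obtain ⟨g, hg'⟩ : ∃ g, genus k K = g + 1 := ⟨genus k K - 1, by omega⟩
    rw [hg', Nat.add_sub_cancel]
    push_cast
    ring
  have hmem : ∀ i : Fin (genus k K), x ^ (i : ℕ) ∈ FunFld.L D := by
    intro i Q
    rw [map_pow]
    refine (pow_le_pow_left' (hxL Q) _).trans ?_
    rw [← WithZero.exp_nsmul, WithZero.exp_le_exp, nsmul_eq_mul]
    rcases eq_or_ne Q P with rfl | hne
    · rw [hD, Finsupp.single_eq_same, Finsupp.single_eq_same]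
      exact_mod_cast Nat.mul_le_mul_right 2 (by omega : (i : ℕ) ≤ genus k K - 1)
    · rw [hD, Finsupp.single_eq_of_ne hne, Finsupp.single_eq_of_ne hne, mul_zero]
  have hli : LinearIndependent k fun i : Fin (genus k K) => x ^ (i : ℕ) :=
    linearIndependent_of_ord P _ (fun i => pow_ne_zero _ hx0) fun a b e => Fin.ext (by
      simp only [ord_pow, hord] at e
      omega)
  have hle : Submodule.span k (Set.range fun i : Fin (genus k K) => x ^ (i : ℕ)) ≤ FunFld.L D :=
    Submodule.span_le.2 (Set.range_subset_iff.2 hmem)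
  haveI := finiteDimensional_L (ff hK) D
  have hge := Submodule.finrank_mono hle
  rw [finrank_span_eq_card hli, Fintype.card_fin] at hge
  have hcl := clifford hK (D := D) (by omega) (by omega)
  have hell : ell D = genus k K := by rw [ell] at hcl ⊢; omega
  refine ⟨isCanonical_of_ell_deg hK hell hdeg, ?_⟩
  refine (Submodule.eq_of_le_of_finrank_eq hle ?_).ge
  rw [finrank_span_eq_card hli, Fintype.card_fin]
  exact hell.symm

theorem dichotomy (hg : 1 < genus k K) (hchar : ringChar k = 0 ∨ 2 * genus k K - 2 < ringChar k)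
    {C : Divisor k K} (hC : IsCanonical k K C) {n : ℕ} {φ : Fin (n + 1) → K} (hφ : LinearIndependent k φ)
    (hspan : Submodule.span k (Set.range φ) = FunFld.L C) {s : K} {H : K →ₐ[k] PowerSeries K}
    (hH : LocRes.IsHasseFamily s H) {J : Fin n → ℕ} (hJ : IsOrders K (hcol (AlgHom.id k K) H φ) J)
    {Φ : Place k K → (K →ₐ[k] LaurentSeries k)} (hΦ : ∀ P : Place k K, LocRes.IsExpansionAt P.1 (Φ P)) :
    (2 * genus k K + 2 < Set.ncard {P : Place k K | wDiv (AlgHom.id k K) H Φ s φ J P ≠ 0} ∧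
      ∀ σ : K ≃ₐ[k] K, (∀ P : Place k K, wDiv (AlgHom.id k K) H Φ s φ J P ≠ 0 →
        IsFixedPt (σ : K →ₐ[k] K) P) → σ = AlgEquiv.refl) ∨
    (Set.ncard {P : Place k K | wDiv (AlgHom.id k K) H Φ s φ J P ≠ 0} = 2 * genus k K + 2 ∧
      ∃ x : K, Module.finrank k⟮x⟯ K = 2 ∧
        ∀ σ : K ≃ₐ[k] K, (∀ P : Place k K, wDiv (AlgHom.id k K) H Φ s φ J P ≠ 0 →
          IsFixedPt (σ : K →ₐ[k] K) P) ↔ σ x = x) := by
  classical
  have h := ff hK
  obtain ⟨hfin, hcard, hmax⟩ := support_spec hK hC hφ hspan hchar hH hJ hΦ hg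
  set S := {P : Place k K | wDiv (AlgHom.id k K) H Φ s φ J P ≠ 0} with hS
  have hcardS := Set.ncard_eq_toFinset_card S hfin
  rcases lt_or_eq_of_le hcard with hlt | heq
  · refine Or.inl ⟨hlt, fun σ hσ => ?_⟩
    exact eq_one_of_fixed hK σ hfin.toFinset (fun P hP => hσ P (hfin.mem_toFinset.1 hP)) (by omega)
  refine Or.inr ⟨heq.symm, ?_⟩
  have hng := hmax heq.symm
  obtain ⟨P₀, hP₀⟩ : S.Nonempty := (Set.ncard_pos hfin).1 (by omega)
  obtain ⟨x, hx0, hxL, hxo⟩ := not_gap_iff.1 (hng P₀ hP₀)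
  have htr := transcendental_of_pole P₀ (f := x) (by omega)
  have hrank := deg_poleDiv h htr
  rw [poleDiv_eq_single h hx0 hxL hxo, deg_single, deg_eq_one h] at hrank
  refine ⟨x, by push_cast at hrank; omega, fun σ => ⟨fun hσ => ?_, fun hσx Q hQ => ?_⟩⟩
  · exact eq_self_of_fixed h σ hfin.toFinset (fun P hP => hσ P (hfin.mem_toFinset.1 hP))
      (hfin.mem_toFinset.2 hP₀) (m := 2) (by omega) hxL
  refine fixed_of_comapPlace σ ?_
  by_cases hQP : Q = P₀
  · subst hQP
    by_contra hne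
    have h1 := hxL (comapPlace σ Q)
    rw [comapPlace_apply, hσx, Finsupp.single_eq_of_ne hne, val_eq_exp_neg_ord Q hx0, hxo,
      WithZero.exp_le_exp] at h1
    omega
  obtain ⟨y, hy0, hyL, hyo⟩ := not_gap_iff.1 (hng Q hQ)
  obtain ⟨hcP, hspanx⟩ := canonical_of_not_gap_two hK (by omega) hx0 hxL hxo
  obtain ⟨hcQ, -⟩ := canonical_of_not_gap_two hK (by omega) hy0 hyL hyo
  obtain ⟨z, hz0, hz⟩ := isCanonical_sub_isCanonical hK hcP hcQ
  set m : ℤ := (((genus k K - 1) * 2 : ℕ) : ℤ) with hm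
  have hm0 : 0 < m := by simp only [m]; push_cast; omega
  have hzord : ∀ R : Place k K, R.ord z = (Finsupp.single Q m : Divisor k K) R - (Finsupp.single P₀ m : Divisor k K) R := by
    intro R
    have := DFunLike.congr_fun hz R
    rw [Finsupp.add_apply, div_apply h] at this
    omega
  have hzmem : z ∈ FunFld.L (Finsupp.single P₀ m : Divisor k K) := by
    rw [mem_L_iff_ord hz0]
    intro R
    rw [hzord]
    have : 0 ≤ (Finsupp.single Q m : Divisor k K) R := by
      rw [Finsupp.single_apply]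
      split_ifs <;> omega
    omega
  have hσz : σ z = z := by
    have hF : Submodule.span k (Set.range fun i : Fin (genus k K) => x ^ (i : ℕ)) ≤
        LinearMap.eqLocus (σ : K →ₐ[k] K).toLinearMap LinearMap.id :=
      Submodule.span_le.2 (Set.range_subset_iff.2 fun i => by
        show σ (x ^ (i : ℕ)) = x ^ (i : ℕ)
        rw [map_pow, hσx])
    exact hF (hspanx hzmem)
  by_contra hne
  have h1 : (comapPlace σ Q).ord z = Q.ord z := by
    simp only [Place.ord, comapPlace_apply, hσz]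
  rw [hzord, hzord, Finsupp.single_eq_same, Finsupp.single_eq_of_ne hne, Finsupp.single_eq_of_ne hQP] at h1
  have : 0 ≤ (Finsupp.single P₀ m : Divisor k K) (comapPlace σ Q) := by
    rw [Finsupp.single_apply]
    split_ifs <;> omega
  omega

end Groth.Agent.Wronskian26
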