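import Groth.Agent.Lib.Wronskian26.Different
import Groth.Agent.Lib.FunField.Genus

/-! # The divisor of a differential is canonical -/

namespace Groth.Agent.Wronskian26

open FunFld FunField
open scoped Multiplicative

section ext

variable {k K K' : Type*} [Field k] [Field K] [Field K'] [Algebra k K] [Algebra K K'] [Algebra k K']
  [IsScalarTower k K K'] [FiniteDimensional K K'] [Algebra.IsSeparable K K'] [IsAlgClosed k]

/-- The different exponent. -/
noncomputable def dd (h : FF k K) (Q : Place k K') : ℤ :=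
  dOrd (ff_extend h) Q (algebraMap K K' (exists_uniformizer (under h Q)).choose)

theorem trace_le (h : FF k K) (P : Place k K) (z : K')
    (hz : ∀ Q, IsOver Q P → Q.1 z ≤ WithZero.exp (dd h Q)) (r : K') (hr : ∀ Q, IsOver Q P → Q.1 r ≤ 1) :
    P.1 (Algebra.trace K K' (z * r)) ≤ 1 := by
  refine (trace_le_iff h (ff_extend h) P (exists_uniformizer P).choose_spec.2 z).2 (fun Q hQ => ?_) r hr
  obtain rfl := (isOver_iff h).1 hQ
  exact hz Q hQ

theorem val_trace_le_one (h : FF k K) (P : Place k K) {r : K'} (hr : ∀ Q, IsOver Q P → Q.1 r ≤ 1) :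
    P.1 (Algebra.trace K K' r) ≤ 1 := by
  letI : Algebra P.O K' := ((algebraMap K K').comp P.O.subtype).toAlgebra
  haveI : IsScalarTower P.O K K' := IsScalarTower.of_algebraMap_eq' rfl
  haveI : IsDiscreteValuationRing P.O := h.isDiscreteValuationRing P.O P.2.1 (not_isField_O P)
  have := Algebra.isIntegral_trace (L := K) ((isIntegral_iff h P r).2 hr)
  obtain ⟨a, ha⟩ := IsIntegrallyClosed.isIntegral_iff.1 this
  exact ha ▸ a.2

theorem dd_nonneg (h : FF k K) (Q : Place k K') : 0 ≤ dd h Q := by
  have := (trace_le_iff h (ff_extend h) (under h Q) (exists_uniformizer (under h Q)).choose_spec.2 (1 : K')).1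
    (fun r hr => by rw [one_mul]; exact val_trace_le_one h _ hr) Q (isOver_under h Q)
  rw [map_one] at this
  exact WithZero.exp_le_exp.1 (WithZero.exp_zero.trans_le this)

theorem finite_dd (h : FF k K) : {Q : Place k K' | dd h Q ≠ 0}.Finite := by
  classical
  obtain ⟨α, hα⟩ := Field.exists_primitive_element K K'
  let g := minpoly K α
  have hα' : Algebra.adjoin K {α} = ⊤ := by
    have := congrArg IntermediateField.toSubalgebra hα
    rwa [IntermediateField.adjoin_simple_toSubalgebra_of_isAlgebraic (Algebra.IsAlgebraic.isAlgebraic α),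
      IntermediateField.top_toSubalgebra] at this
  have hgm : g.Monic := minpoly.monic (Algebra.IsIntegral.isIntegral α)
  let u := Polynomial.aeval α (Polynomial.derivative g)
  have hu0 : u ≠ 0 := (Algebra.IsSeparable.isSeparable K α).aeval_derivative_ne_zero (minpoly.aeval _ _)
  let S : Set (Place k K) := (⋃ i ∈ Finset.range (g.natDegree + 1), {P : Place k K | P.ord (g.coeff i) ≠ 0}) ∪
    (under h) '' {Q : Place k K' | Q.ord u ≠ 0}
  have hS : S.Finite := by
    refine Set.Finite.union ((Finset.finite_toSet _).biUnion fun i _ => ?_) (Set.Finite.image _ ?_)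
    · exact finite_support_ord h _
    · exact finite_support_ord (ff_extend h) _
  refine (hS.biUnion fun P _ => finite_fibre (K' := K') h P).subset fun Q hQ => ?_
  simp only [Set.mem_iUnion]
  refine ⟨under h Q, ?_, isOver_under h Q⟩
  by_contra hgood
  apply hQ
  set P := under h Q
  have hcoef : ∀ i, P.1 (g.coeff i) ≤ 1 := by
    intro i
    rcases lt_or_ge i (g.natDegree + 1) with hi | hi
    · rw [← ord_nonneg_iff]
      by_contra hne
      exact hgood (Or.inl (Set.mem_biUnion (Finset.mem_range.2 hi) (ne_of_lt (not_le.1 hne))))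
    · rw [Polynomial.coeff_eq_zero_of_natDegree_lt (by omega), map_zero]; exact zero_le
  have hu1 : ∀ Q', IsOver Q' P → Q'.1 u = 1 := by
    intro Q' hQ'
    by_contra hne
    refine hgood (Or.inr ⟨Q', ?_, (isOver_iff h).1 hQ'⟩)
    intro h0
    rw [val_eq_exp_neg_ord Q' hu0, h0, neg_zero, WithZero.exp_zero] at hne
    exact hne rfl
  letI : Algebra P.O K' := ((algebraMap K K').comp P.O.subtype).toAlgebra
  haveI : IsScalarTower P.O K K' := IsScalarTower.of_algebraMap_eq' rfl
  haveI : IsDiscreteValuationRing P.O := h.isDiscreteValuationRing P.O P.2.1 (not_isField_O P)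
  obtain ⟨g₀, hg₀, -, hg₀m⟩ := Polynomial.lifts_and_degree_eq_and_monic
    (show g ∈ Polynomial.lifts (algebraMap P.O K) from (Polynomial.lifts_iff_coeff_lifts g).2 fun i => ⟨⟨_, hcoef i⟩, rfl⟩) hgm
  have hint : IsIntegral P.O α := ⟨g₀, hg₀m, by
    rw [← Polynomial.aeval_def, ← Polynomial.aeval_map_algebraMap K α g₀, hg₀]; exact minpoly.aeval K α⟩
  have hmem : ∀ r ∈ Algebra.adjoin P.O {α}, ∀ Q', IsOver Q' P → Q'.1 r ≤ 1 := fun r hr =>
    (isIntegral_iff h P r).1 (adjoin_le_integralClosure hint hr)
  have hdual := traceForm_dualSubmodule_adjoin (A := P.O) (K := K) hα' hint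
  obtain ⟨z, hz⟩ := weak_approx_eq (finite_fibre (K' := K') h P).toFinset (fun _ => 0) (fun Q' => -dd h Q')
  have hz' : ∀ Q', IsOver Q' P → Q'.1 z = WithZero.exp (dd h Q') := fun Q' hQ' => by
    have := hz Q' ((Set.Finite.mem_toFinset _).2 hQ')
    rwa [sub_zero, neg_neg] at this
  have hzd : z ∈ (Algebra.traceForm K K').dualSubmodule (Subalgebra.toSubmodule (Algebra.adjoin P.O {α})) := by
    intro r hr
    rw [Algebra.traceForm_apply, Submodule.mem_one]
    exact ⟨⟨_, trace_le h P z (fun Q' hQ' => (hz' Q' hQ').le) r (hmem r hr)⟩, rfl⟩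
  rw [hdual] at hzd
  obtain ⟨r, hr, e⟩ := hzd
  have hle : Q.1 z ≤ 1 := by
    rw [← e]
    show Q.1 (u⁻¹ * r) ≤ 1
    rw [map_mul, map_inv₀, hu1 Q (isOver_under h Q), inv_one, one_mul]
    exact hmem r hr Q (isOver_under h Q)
  rw [hz' Q (isOver_under h Q), ← WithZero.exp_zero, WithZero.exp_le_exp] at hle
  exact le_antisymm hle (dd_nonneg h Q)

/-- The pullback of a canonical divisor, corrected by the different, is canonical. -/
theorem exists_canonical_pullback (hK : IsFunctionField k K) (hK' : IsFunctionField k K') {C : Divisor k K}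
    (hC : IsCanonical k K C) :
    ∃ C' : Divisor k K', IsCanonical k K' C' ∧
      ∀ Q, C' Q = dd (ff hK) Q + ramIdx Q (under (ff hK) Q) * C (under (ff hK) Q) := by
  classical
  have h := ff hK
  let cf : Place k K' → ℤ := fun Q => dd h Q + ramIdx Q (under h Q) * C (under h Q)
  have hfin : (Function.support cf).Finite := by
    refine ((finite_dd h).union (C.support.finite_toSet.biUnion fun P _ => finite_fibre (K' := K') h P)).subset ?_
    intro Q hQ
    by_cases h0 : C (under h Q) = 0
    · left
      simpa [cf, h0] using hQ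
    · right
      simp only [Set.mem_iUnion]
      exact ⟨under h Q, Finsupp.mem_support_iff.2 h0, isOver_under h Q⟩
  let C' : Divisor k K' := Finsupp.ofSupportFinite cf hfin
  have hC' : ∀ Q, C' Q = cf Q := fun Q => rfl
  have hloc : ∀ (P : Place k K) (z : K'), (∀ Q, IsOver Q P → Q.1 z ≤ WithZero.exp (C' Q)) →
      P.1 (Algebra.trace K K' z) ≤ WithZero.exp (C P) := by
    intro P z hz
    obtain ⟨π, hπ0, hπ⟩ := exists_uniformizer P
    have h1 := trace_le h P (algebraMap K K' (π ^ C P) * z) (fun Q hQ => by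
      rw [map_mul, isOverWith_ramIdx hQ, map_zpow₀, hπ]
      refine (mul_le_mul' le_rfl (hz Q hQ)).trans (le_of_eq ?_)
      rw [← WithZero.exp_zsmul, ← WithZero.exp_nsmul, ← WithZero.exp_add]
      congr 1
      rw [hC']
      simp only [cf, (isOver_iff h).1 hQ]
      simp) 1 (fun Q _ => by simp)
    rw [mul_one, ← Algebra.smul_def, map_smul, smul_eq_mul, map_mul, map_zpow₀, hπ, ← WithZero.exp_zsmul,
      smul_eq_mul, mul_neg, mul_one, WithZero.exp_neg, inv_mul_le_one₀ WithZero.exp_pos] at h1
    exact h1
  have hex : ∀ (E : Divisor k K') (Q₀ : Place k K'), C' Q₀ < E Q₀ → ∃ z : K',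
      (∀ Q, IsOver Q (under h Q₀) → Q.1 z ≤ WithZero.exp (E Q)) ∧
      ¬ (under h Q₀).1 (Algebra.trace K K' z) ≤ WithZero.exp (C (under h Q₀)) := by
    intro E Q₀ hlt
    set P := under h Q₀ with hPdef
    let π := (exists_uniformizer P).choose
    have hπ : P.1 π = WithZero.exp (-1) := (exists_uniformizer P).choose_spec.2
    obtain ⟨z, hz⟩ := weak_approx_eq (finite_fibre (K' := K') h P).toFinset (fun _ => 0) (fun Q => -E Q)
    have hz' : ∀ Q, IsOver Q P → Q.1 z = WithZero.exp (E Q) := fun Q hQ => by
      have := hz Q ((Set.Finite.mem_toFinset _).2 hQ)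
      rwa [sub_zero, neg_neg] at this
    have hne : ¬ ∀ Q, IsOver Q P → Q.1 (algebraMap K K' (π ^ C P) * z) ≤
        WithZero.exp (dOrd (ff_extend h) Q (algebraMap K K' π)) := by
      intro hall
      have hQ₀ := isOver_under (K' := K') h Q₀
      rw [← hPdef] at hQ₀
      have := hall Q₀ hQ₀
      rw [map_mul, isOverWith_ramIdx hQ₀, map_zpow₀, hπ, hz' Q₀ hQ₀, ← WithZero.exp_zsmul, ← WithZero.exp_nsmul,
        ← WithZero.exp_add, WithZero.exp_le_exp] at this
      rw [hC'] at hlt
      simp only [cf, dd] at hlt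
      simp only [← hPdef] at hlt
      simp at this
      linarith
    rw [← trace_le_iff h (ff_extend h) P hπ] at hne
    push Not at hne
    obtain ⟨r, hr, hgt⟩ := hne
    refine ⟨z * r, fun Q hQ => ?_, fun hle => hgt.not_ge ?_⟩
    · rw [map_mul]
      exact (mul_le_mul' (hz' Q hQ).le (hr Q hQ)).trans_eq (mul_one _)
    · rw [mul_assoc, ← Algebra.smul_def, map_smul, smul_eq_mul, map_mul, map_zpow₀, hπ, ← WithZero.exp_zsmul]
      refine (mul_le_mul' le_rfl hle).trans (le_of_eq ?_)
      rw [← WithZero.exp_add, ← WithZero.exp_zero]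
      congr 1; simp
  obtain ⟨ω₀, hω₀, hdiv₀⟩ := hC
  have hkill0 : ∀ (b : adele k K), (b : Place k K → K) ∈ AD C ⊔ LinearMap.range (diag k K) → ω₀ b = 0 := fun b hb =>
    (Submodule.mem_dualAnnihilator ω₀).1 ((hdiv₀ C).2 le_rfl) b hb
  let Appr : (Place k K' → K') → (Place k K → K') → Prop := fun a w =>
    ∀ Q, Q.1 (a Q - w (under h Q)) ≤ WithZero.exp (C' Q)
  have hexw : ∀ a : Place k K' → K', ∃ w, Appr a w := by
    intro a
    choose w hw using fun P : Place k K => weak_approx (finite_fibre (K' := K') h P).toFinset a (fun Q => -C' Q)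
    refine ⟨w, fun Q => ?_⟩
    have := hw (under h Q) Q ((Set.Finite.mem_toFinset _).2 (isOver_under h Q))
    rwa [Valuation.map_sub_swap, neg_neg] at this
  have htr : ∀ {a : Place k K' → K'} {w}, a ∈ adele k K' → Appr a w →
      (fun P => Algebra.trace K K' (w P)) ∈ adele k K := by
    intro a w ha hw
    have hbad : ({Q : Place k K' | ¬ Q.1 (a Q) ≤ 1} ∪ C'.support).Finite := Set.Finite.union ha C'.support.finite_toSet
    refine (hbad.image (under h)).subset fun P hP => ?_
    by_contra hgood
    refine hP (val_trace_le_one h P fun Q hQ => ?_)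
    obtain rfl := (isOver_iff h).1 hQ
    have h1 : Q.1 (a Q) ≤ 1 := by
      by_contra hne
      exact hgood ⟨Q, Or.inl hne, rfl⟩
    have h2 : C' Q = 0 := by
      by_contra hne
      exact hgood ⟨Q, Or.inr (Finsupp.mem_support_iff.2 hne), rfl⟩
    have h3 := hw Q
    rw [h2, WithZero.exp_zero] at h3
    rw [show w (under h Q) = a Q - (a Q - w (under h Q)) by ring]
    exact (Q.1.map_sub _ _).trans (max_le h1 h3)
  choose w hw using hexw
  let T : adele k K' → adele k K := fun a => ⟨_, htr a.2 (hw a.1)⟩
  have huniq : ∀ (a : adele k K') (v : Place k K → K') (hv : Appr a.1 v), ω₀ (T a) = ω₀ ⟨_, htr a.2 hv⟩ := by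
    intro a v hv
    rw [← sub_eq_zero, ← map_sub]
    refine hkill0 _ (Submodule.mem_sup_left fun P => ?_)
    show P.1 (Algebra.trace K K' (w a.1 P) - Algebra.trace K K' (v P)) ≤ _
    rw [← map_sub]
    refine hloc P _ fun Q hQ => ?_
    obtain rfl := (isOver_iff h).1 hQ
    rw [show w a.1 (under h Q) - v (under h Q) = (a.1 Q - v (under h Q)) - (a.1 Q - w a.1 (under h Q)) by ring]
    exact (Q.1.map_sub _ _).trans (max_le (hv Q) (hw a.1 Q))
  let ω : Module.Dual k (adele k K') :=
    { toFun := fun a => ω₀ (T a)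
      map_add' := fun a b => by
        have hv : Appr (a + b).1 (w a.1 + w b.1) := fun Q => by
          show Q.1 ((a.1 Q + b.1 Q) - (w a.1 _ + w b.1 _)) ≤ _
          rw [show (a.1 Q + b.1 Q) - (w a.1 (under h Q) + w b.1 (under h Q)) =
            (a.1 Q - w a.1 (under h Q)) + (b.1 Q - w b.1 (under h Q)) by ring]
          exact (Q.1.map_add _ _).trans (max_le (hw a.1 Q) (hw b.1 Q))
        rw [huniq _ _ hv, ← map_add]
        congr 1
        exact Subtype.ext (funext fun P => map_add _ _ _)
      map_smul' := fun c a => by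
        have hv : Appr (c • a).1 (c • w a.1) := fun Q => by
          show Q.1 (c • a.1 Q - c • w a.1 _) ≤ _
          rw [← smul_sub, Algebra.smul_def, map_mul]
          exact (mul_le_mul' (val_const_le Q c) (hw a.1 Q)).trans_eq (one_mul _)
        rw [huniq _ _ hv, ← map_smul]
        congr 1
        refine Subtype.ext (funext fun P => ?_)
        show Algebra.trace K K' (c • w a.1 P) = c • Algebra.trace K K' (w a.1 P)
        rw [← algebraMap_smul K c (w a.1 P), map_smul, algebraMap_smul] }
  have hmain : IsDivOf ω C' := by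
    intro E
    constructor
    · intro hE
      by_contra hle
      obtain ⟨Q₀, hQ₀⟩ : ∃ Q, C' Q < E Q := by
        by_contra! hc
        exact hle fun Q => hc Q
      obtain ⟨z, hz, hzt⟩ := hex E Q₀ hQ₀
      set P := under h Q₀
      have hy : ∀ y : K, P.1 y ≤ WithZero.exp (C P + 1) →
          ∀ hmem : (Pi.single P y : Place k K → K) ∈ adele k K, ω₀ ⟨_, hmem⟩ = 0 := by
        intro y hy hmem
        have hgt : WithZero.exp (C P + 1) ≤ P.1 (Algebra.trace K K' z) := by
          by_contra hlt
          rw [not_le, lt_exp_iff, add_sub_cancel_right] at hlt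
          exact hzt hlt
        have hne : Algebra.trace K K' z ≠ 0 := fun h0 => hzt (by rw [h0, map_zero]; exact zero_le)
        let c := y / Algebra.trace K K' z
        have hc1 : P.1 c ≤ 1 := by
          rw [map_div₀, div_le_one₀ (zero_lt_iff.2 ((Valuation.ne_zero_iff _).2 hne))]
          exact hy.trans hgt
        let aF : Place k K' → K' := fun Q => if under h Q = P then algebraMap K K' c * z else 0
        have haE : aF ∈ AD E := fun Q => by
          simp only [aF]
          split_ifs with hQ
          · rw [map_mul, isOverWith_ramIdx ((isOver_iff h).2 hQ)]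
            exact (mul_le_mul' (pow_le_one₀ zero_le hc1) (hz Q ((isOver_iff h).2 hQ))).trans_eq (one_mul _)
          · rw [map_zero]; exact zero_le
        have hv : Appr aF (Pi.single P (algebraMap K K' c * z)) := fun Q => by
          simp only [aF, Pi.single_apply]
          split_ifs <;> simp
        have h0 : ω₀ (T ⟨aF, AD_le_adele E haE⟩) = 0 :=
          (Submodule.mem_dualAnnihilator ω).1 hE ⟨aF, AD_le_adele E haE⟩ (Submodule.mem_sup_left haE)
        rw [huniq _ _ hv] at h0
        rw [← h0]
        congr 1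
        refine Subtype.ext (funext fun P' => ?_)
        show (Pi.single P y : Place k K → K) P' = _
        simp only [Pi.single_apply]
        split_ifs
        · rw [← Algebra.smul_def, map_smul, smul_eq_mul, div_mul_cancel₀ _ hne]
        · rw [map_zero]
      have hbig : ω₀ ∈ WD (C + Finsupp.single P 1) := by
        refine (Submodule.mem_dualAnnihilator ω₀).2 ?_
        intro a ha
        obtain ⟨b, hb, d, hd, e⟩ := Submodule.mem_sup.1 ha
        have hb1 : (Pi.single P (b P) : Place k K → K) ∈ AD (C + Finsupp.single P 1) := fun P' => by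
          simp only [Pi.single_apply]
          split_ifs with hP'
          · exact hP' ▸ hb P
          · rw [map_zero]; exact zero_le
        have h1 := hy (b P) (by simpa using hb P) (AD_le_adele _ hb1)
        have hd' : d ∈ adele k K := by
          obtain ⟨x, rfl⟩ := hd
          exact diag_mem_adele h x
        have hb2 : (b - Pi.single P (b P)) ∈ AD C := fun P' => by
          show P'.1 (b P' - (Pi.single P (b P) : Place k K → K) P') ≤ _
          rcases eq_or_ne P' P with rfl | hne
          · simp
          · simpa [Pi.single_eq_of_ne hne, Finsupp.single_eq_of_ne hne] using hb P'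
        have h2 := hkill0 ⟨_, AD_le_adele C hb2⟩ (Submodule.mem_sup_left hb2)
        have h3 := hkill0 ⟨d, hd'⟩ (Submodule.mem_sup_right hd)
        have : a = (⟨_, AD_le_adele C hb2⟩ : adele k K) + ⟨_, AD_le_adele _ hb1⟩ + ⟨d, hd'⟩ := by
          refine Subtype.ext ?_
          show (a : Place k K → K) = b - Pi.single P (b P) + Pi.single P (b P) + d
          rw [sub_add_cancel]
          exact e.symm
        rw [this, map_add, map_add, h2, h1, h3, add_zero, add_zero]
      have := (hdiv₀ _).1 hbig P
      simp at this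
    · intro hle
      refine (Submodule.mem_dualAnnihilator ω).2 ?_
      intro a ha
      obtain ⟨b, hb, d, ⟨x, rfl⟩, e⟩ := Submodule.mem_sup.1 ha
      have hv : Appr a.1 (fun _ => x) := fun Q => by
        show Q.1 (a.1 Q - x) ≤ _
        rw [show a.1 Q = b Q + x from (congrFun e Q).symm, add_sub_cancel_right]
        exact (hb Q).trans (WithZero.exp_le_exp.2 (hle Q))
      show ω₀ (T a) = 0
      rw [huniq a (fun _ => x) hv]
      exact hkill0 _ (Submodule.mem_sup_right ⟨Algebra.trace K K' x, rfl⟩)
  refine ⟨C', ⟨ω, fun h0 => ?_, hmain⟩, fun Q => rfl⟩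
  obtain ⟨Q⟩ := nonempty_place (ff_extend (K' := K') h)
  have := (hmain (C' + Finsupp.single Q 1)).1 (h0 ▸ Submodule.zero_mem _) Q
  simp at this

end ext

variable {k K : Type*} [Field k] [IsAlgClosed k] [Field K] [Algebra k K]

open IntermediateField in
/-- The divisor of `ds` is canonical. -/
theorem exists_canonical_dOrd (hK : IsFunctionField k K) {u : K} (hu : Sep k u) :
    ∃ C : Divisor k K, IsCanonical k K C ∧ ∀ P, C P = dOrd (ff hK) P u := by
  classical
  have h := ff hK
  obtain ⟨H, hH⟩ := exists_hasse h hu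
  haveI := essFiniteType h
  haveI : Algebra.EssFiniteType k⟮u⟯ K := Algebra.EssFiniteType.of_comp k _ K
  haveI hun : Algebra.FormallyUnramified k⟮u⟯ K := by
    rw [Algebra.formallyUnramified_iff]
    refine (Submodule.subsingleton_iff K).1 ((subsingleton_iff_bot_eq_top).1 ?_)
    rw [← KaehlerDifferential.span_range_derivation, eq_comm, Submodule.span_eq_bot]
    rintro _ ⟨y, rfl⟩
    refine hu.der_eq_zero ((KaehlerDifferential.D k⟮u⟯ K).restrictScalars k) ?_ y
    exact Derivation.map_algebraMap (KaehlerDifferential.D k⟮u⟯ K) (AdjoinSimple.gen k u)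
  haveI : Algebra.IsSeparable k⟮u⟯ K := Algebra.FormallyUnramified.isSeparable _ _
  haveI : Module.Finite k⟮u⟯ K := Algebra.FormallyUnramified.finite_of_free _ _
  have htr : Transcendental k u := by
    intro halg
    haveI : FiniteDimensional k k⟮u⟯ := adjoin.finiteDimensional halg.isIntegral
    haveI : FiniteDimensional k K := FiniteDimensional.trans k k⟮u⟯ K
    obtain ⟨x, hx, -⟩ := h
    exact hx (Algebra.IsAlgebraic.isAlgebraic x)
  let g : k⟮u⟯ := AdjoinSimple.gen k u
  have hg : Transcendental k g := fun ha => htr (ha.algebraMap (A := K))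
  have htop : IntermediateField.adjoin k ({g} : Set k⟮u⟯) = ⊤ := by
    refine IntermediateField.map_injective k⟮u⟯.val ?_
    rw [adjoin_map, Set.image_singleton, ← AlgHom.fieldRange_eq_map, fieldRange_val]
    rfl
  have hK₀ : IsFunctionField k k⟮u⟯ := by
    refine ⟨⟨g, hg, ?_⟩, fun y hy => ?_⟩
    · exact Module.finite_of_finrank_eq_succ (n := 0) (IntermediateField.finrank_eq_one_iff_eq_top.2 htop)
    · obtain ⟨c, hc⟩ := hK.2 (y : K) (hy.algebraMap (A := K))
      exact ⟨c, Subtype.ext hc⟩
  have h0 := ff hK₀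
  obtain ⟨R, hR1, hRord, hRoth⟩ := exists_simple_pole_of_adjoin_top hK₀ htop
  have hgsep : Sep k g := by
    haveI : Algebra.IsSeparable (IntermediateField.adjoin k ({g} : Set k⟮u⟯)) k⟮u⟯ := by
      rw [htop]
      exact ⟨fun x => (IsSeparable.tower_top _ (show IsSeparable (⊤ : IntermediateField k k⟮u⟯) x from isSeparable_algebraMap (⟨x, trivial⟩ : (⊤ : IntermediateField k k⟮u⟯))))⟩
    exact sep_of_isSeparable g
  have hdg : ∀ P : Place k k⟮u⟯, dOrd h0 P g = (Finsupp.single R (-2) : Divisor k k⟮u⟯) P := by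
    intro P
    have hg0 : g ≠ 0 := fun e => hg (e ▸ isAlgebraic_zero)
    rcases eq_or_ne P R with rfl | hne
    · have ht : P.1 g⁻¹ = WithZero.exp (-1) := by
        rw [map_inv₀, val_eq_exp_neg_ord P hg0, hRord, ← WithZero.exp_neg]; simp
      rw [Finsupp.single_eq_same, dOrd_eq h0 P ht]
      set D := der h0 (sep_uniformizer h0 P ht)
      have hd1 := der_mul h0 (sep_uniformizer h0 P ht) g g⁻¹
      rw [mul_inv_cancel₀ hg0, der_self, mul_one,
        show (1 : k⟮u⟯) = algebraMap k k⟮u⟯ 1 from (map_one _).symm, der_const] at hd1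
      have hD : D g = -(g * g) := by
        have h2 := eq_neg_of_add_eq_zero_right hd1.symm
        rw [inv_mul_eq_iff_eq_mul₀ hg0] at h2
        simp only [D]
        linear_combination h2
      rw [hD, Place.ord, Valuation.map_neg, map_mul, val_eq_exp_neg_ord P hg0, hRord, ← WithZero.exp_add,
        WithZero.log_exp]
      norm_num
    · rw [Finsupp.single_eq_of_ne hne]
      obtain ⟨c, hc⟩ := exists_const_near h0 P ((ord_nonneg_iff P g).1 (hRoth P hne))
      have hne0 : g - algebraMap k k⟮u⟯ c ≠ 0 := fun e => hg (by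
        rw [sub_eq_zero.1 e]; exact isAlgebraic_algebraMap c)
      have hpos : 1 ≤ P.ord (g - algebraMap k k⟮u⟯ c) := (val_lt_one_iff' P hne0).1 hc
      have hord : P.ord (g - algebraMap k k⟮u⟯ c) = 1 := by
        have hd := deg_poleDiv h0 (transcendental_inv (x := g - algebraMap k k⟮u⟯ c) fun ha => hg (by
          have := ha.add (isAlgebraic_algebraMap (R := k) (A := k⟮u⟯) c)
          rwa [sub_add_cancel] at this))
        rw [IntermediateField.finrank_eq_one_iff_eq_top.2 (by
          rw [eq_top_iff, ← htop, adjoin_simple_le_iff]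
          have h1 := inv_mem (mem_adjoin_simple_self k (g - algebraMap k k⟮u⟯ c)⁻¹)
          rw [inv_inv] at h1
          simpa using add_mem h1 (IntermediateField.algebraMap_mem _ c))] at hd
        have hle : Finsupp.single P (P.ord (g - algebraMap k k⟮u⟯ c)) ≤ poleDiv (k := k) (g - algebraMap k k⟮u⟯ c)⁻¹ := by
          intro Q
          rw [poleDiv_apply h0, Finsupp.single_apply]
          split_ifs with e
          · subst e
            simp only [Place.ord, map_inv₀, WithZero.log_inv]
            omega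
          · omega
        have h2 := deg_mono hle
        rw [deg_single, hd, deg_eq_one h0] at h2
        push_cast at h2
        omega
      have ht : P.1 (g - algebraMap k k⟮u⟯ c) = WithZero.exp (-1) := by rw [val_eq_exp_neg_ord P hne0, hord]
      rw [dOrd_eq h0 P ht]
      have : der h0 (sep_uniformizer h0 P ht) g = 1 := by
        have h1 := der_add h0 (sep_uniformizer h0 P ht) (g - algebraMap k k⟮u⟯ c) (algebraMap k k⟮u⟯ c)
        rwa [sub_add_cancel, der_self, der_const, add_zero] at h1
      rw [this, Place.ord, map_one]; simp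
  have hg2 : genus k k⟮u⟯ = 0 := genus_eq_zero_of_adjoin_top hK₀ htop
  have hC₀ : IsCanonical k k⟮u⟯ (Finsupp.single R (-2)) := by
    refine isCanonical_of_ell_deg hK₀ ?_ ?_
    · rw [hg2, ell, L_eq_bot_of_deg_neg h0 (by rw [deg_single, hR1]; norm_num), finrank_bot]
    · rw [deg_single, hR1, hg2]; norm_num
  obtain ⟨C, hC, hCv⟩ := exists_canonical_pullback hK₀ hK hC₀
  refine ⟨C, hC, fun Q => ?_⟩
  rw [hCv, ← hdg]
  set P := under h0 Q
  obtain ⟨π, hπ⟩ : ∃ π, π = (exists_uniformizer P).choose := ⟨_, rfl⟩
  have hπv : P.1 π = WithZero.exp (-1) := hπ ▸ (exists_uniformizer P).choose_spec.2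
  have hgne : der h0 (sep_uniformizer h0 P hπv) g ≠ 0 := der_ne_zero h0 hgsep _
  obtain ⟨t, -, ht⟩ := exists_uniformizer Q
  have hchain : der h (sep_uniformizer h Q ht) u =
      algebraMap k⟮u⟯ K (der h0 (sep_uniformizer h0 P hπv) g) * der h (sep_uniformizer h Q ht) (algebraMap k⟮u⟯ K π) :=
    der_chain h0 (sep_uniformizer h0 P hπv) (IsScalarTower.toAlgHom k k⟮u⟯ K)
      (fun a => der h (sep_uniformizer h Q ht) (algebraMap k⟮u⟯ K a))
      (fun a b => by simp only [map_add, der_add]) (fun a b => by rw [map_mul]; exact der_mul h _ _ _)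
      (fun cc => by rw [← IsScalarTower.algebraMap_apply k k⟮u⟯ K]; exact der_const h _ cc) g
  rw [dd, ← hπ, dOrd_eq (ff_extend h0) Q ht, dOrd_eq h0 P hπv, dOrd_eq h Q ht, hchain,
    ord_mul Q (by simpa using hgne) (der_ne_zero h (sep_map h0 (sep_uniformizer h0 P hπv)) _),
    ord_of_isOverWith (isOverWith_ramIdx (isOver_under h0 Q))]
  ring

end Groth.Agent.Wronskian26
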