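import Groth.Agent.Lib.Wronskian26.Points
import Mathlib.LinearAlgebra.Vandermonde
import Mathlib.RingTheory.Polynomial.Pochhammer

/-! # Classical maps -/

namespace Groth.Agent.Wronskian26

open FunFld FunField

variable {k K : Type*} [Field k] [Field K] [Algebra k K] {n : ℕ}

theorem cast_injective_of_lt {p : ℕ} (hp : ringChar k = p) {a b : ℕ} (ha : p = 0 ∨ a < p) (hb : p = 0 ∨ b < p)
    (h : (a : k) = b) : a = b := by
  haveI : CharP k p := ringChar.eq_iff.1 hp
  have := (CharP.natCast_eq_natCast k p).1 h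
  rcases Nat.eq_zero_or_pos p with rfl | hpos
  · simpa [Nat.ModEq] using this
  · rwa [Nat.ModEq, Nat.mod_eq_of_lt (ha.resolve_left hpos.ne'), Nat.mod_eq_of_lt (hb.resolve_left hpos.ne')] at this

theorem det_binom_range_ne_zero {J : Fin n → ℕ} (hJ : StrictMono J)
    (hp : ringChar k = 0 ∨ ∀ l, J l < ringChar k) :
    (binomMat k J (fun l => (l : ℕ))).det ≠ 0 := by
  intro h0
  have hv : (Matrix.vandermonde fun r => (J r : k)).det ≠ 0 :=
    Matrix.det_vandermonde_ne_zero_iff.2 fun a b e => hJ.injective (cast_injective_of_lt rfl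
      (hp.imp id fun h => h a) (hp.imp id fun h => h b) e)
  refine hv ?_
  rw [Matrix.det_eval_matrixOfPolynomials_eq_det_vandermonde _ (fun s => descPochhammer k s)
    (fun s => descPochhammer_natDegree k s) (fun s => monic_descPochhammer k s)]
  have e : (Matrix.of fun r s : Fin n => (descPochhammer k s).eval (J r : k)) =
      Matrix.of fun r s : Fin n => ((Nat.factorial s : ℕ) : k) * binomMat k J (fun l => (l : ℕ)) r s := by
    ext r s
    simp only [binomMat, Matrix.of_apply]
    rw [descPochhammer_eval_eq_descFactorial, Nat.descFactorial_eq_factorial_mul_choose, Nat.cast_mul]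
  rw [e, Matrix.det_mul_row, h0, mul_zero]

theorem det_binom_succ_ne_zero {J : Fin n → ℕ} (hJ : StrictMono J) (h1 : ∀ l, 1 ≤ J l)
    (hp : ringChar k = 0 ∨ ∀ l, J l < ringChar k) :
    (binomMat k J (fun l => (l : ℕ) + 1)).det ≠ 0 := by
  intro h0
  let I : Fin n → ℕ := fun l => J l - 1
  have hI : StrictMono I := fun a b h => by have := hJ h; have := h1 a; simp only [I]; omega
  have hI' : ringChar k = 0 ∨ ∀ l, I l < ringChar k := hp.imp id fun h l => by have := h l; simp only [I]; omega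
  have hcast : ∀ r, (J r : k) ≠ 0 := fun r e => by
    have := cast_injective_of_lt rfl (hp.imp id fun h => h r)
      (hp.imp id fun h => lt_of_le_of_lt (Nat.zero_le _) (h r)) (e.trans Nat.cast_zero.symm)
    have := h1 r
    omega
  refine det_binom_range_ne_zero hI hI' ?_
  have key : Matrix.of (fun r s : Fin n => (((s : ℕ) + 1 : ℕ) : k) * binomMat k J (fun l => (l : ℕ) + 1) r s) =
      Matrix.of fun r s : Fin n => (J r : k) * binomMat k I (fun l => (l : ℕ)) r s := by
    ext r s
    simp only [binomMat, Matrix.of_apply, I]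
    rw [← Nat.cast_mul, ← Nat.cast_mul]
    congr 1
    obtain ⟨m, hm⟩ : ∃ m, J r = m + 1 := ⟨J r - 1, by have := h1 r; omega⟩
    rw [hm, Nat.add_sub_cancel, mul_comm ((s : ℕ) + 1)]
    exact (Nat.add_one_mul_choose_eq m s).symm
  have := congrArg Matrix.det key
  rw [Matrix.det_mul_row, Matrix.det_mul_column, h0, mul_zero, eq_comm, mul_eq_zero] at this
  exact this.resolve_left (Finset.prod_ne_zero_iff.2 fun r _ => hcast r)

theorem deg_mapDiv_smul (h : FF k K) {φ : Fin (n + 1) → K} (hφ : LinearIndependent k φ) {y : K} (hy : y ≠ 0) :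
    (mapDiv k (y • φ)).deg = (mapDiv k φ).deg := by
  rw [show mapDiv k (y • φ) = mapDiv k φ - FunFld.div k y from Finsupp.ext fun P => by
    rw [Finsupp.sub_apply, mapDiv_smul h hφ.ne_zero hy, div_apply h], deg_sub, deg_div h, sub_zero]

variable [IsAlgClosed k]

theorem orders_le_deg (hK : FF k K) (P : Place k K) {t : K} (ht : P.1 t = WithZero.exp (-1))
    {φ : Fin (n + 1) → K} (hφ : LinearIndependent k φ) (heff : (1 : K) ∈ Submodule.span k (Set.range φ))
    (hnorm : ∀ i, P.1 (φ i) ≤ 1) {J : Fin n → ℕ} (hJ : IsOrders k (ecol (expTuple hK P ht φ hnorm)) J)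
    (l : Fin n) : (J l : ℤ) ≤ (mapDiv k φ).deg := by
  classical
  obtain ⟨f, hf, hv⟩ := (mem_range_iff_exists_order hK P ht φ hnorm heff hJ (J l)).1 (Or.inr ⟨l, rfl⟩)
  have hf0 : f ≠ 0 := ne_zero_of_val hv
  have hge : Finsupp.single P (J l : ℤ) ≤ mapDiv k φ + FunFld.div k f := by
    intro Q
    rw [Finsupp.add_apply, div_apply hK]
    have := (mem_L_iff_ord hf0).1 ((gen_mapDiv hK hφ.ne_zero).le hf) Q
    rcases eq_or_ne Q P with rfl | hne
    · rw [Finsupp.single_eq_same, mapDiv_eq_zero_of_normalized hK heff hnorm,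
        ord_eq_of_val_eq Q hv]
      simp
    · rw [Finsupp.single_eq_of_ne hne]
      omega
  have := deg_mono hge
  rw [deg_single, deg_eq_one hK, deg_add, deg_div hK] at this
  simpa using this

theorem char_cond (hK : FF k K) (P : Place k K) {t : K} (ht : P.1 t = WithZero.exp (-1))
    {φ : Fin (n + 1) → K} (hφ : LinearIndependent k φ) (heff : (1 : K) ∈ Submodule.span k (Set.range φ))
    (hnorm : ∀ i, P.1 (φ i) ≤ 1) {J : Fin n → ℕ} (hJ : IsOrders k (ecol (expTuple hK P ht φ hnorm)) J)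
    (hchar : ringChar k = 0 ∨ (mapDiv k φ).deg < ringChar k) : ringChar k = 0 ∨ ∀ l, J l < ringChar k :=
  hchar.imp id fun h l => by have := orders_le_deg hK P ht hφ heff hnorm hJ l; omega

theorem isOrders_eq_of_det (hK : FF k K) (P : Place k K) {t : K} (ht : P.1 t = WithZero.exp (-1))
    {Ht : K →ₐ[k] PowerSeries K} (hHt : LocRes.IsHasseFamily t Ht) (τ : K →ₐ[k] K) (hP : IsFixedPt τ P)
    {φ : Fin (n + 1) → K} (heff : (1 : K) ∈ Submodule.span k (Set.range φ)) (hnorm : ∀ i, P.1 (φ i) ≤ 1)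
    {J' : Fin n → ℕ} (hJ' : IsOrders k (ecol (expTuple hK P ht φ hnorm)) J')
    {J I : Fin n → ℕ} (hJ : IsOrders K (hcol τ Ht φ) J) (hI : StrictMono I)
    (hcase : (∀ l, 0 < I l) ∨ IsStrongFixedPt τ P) (hdet : (binomMat k J' I).det ≠ 0)
    (hmin : ∀ l, I l ≤ J l) : J = I := by
  refine funext fun l => le_antisymm ?_ (hmin l)
  refine isOrders_le _ hJ hI ?_ l
  rw [linearIndependent_iff_det, ← wrMat_eq_colMat]
  intro h0
  have h := ((val_det_wrMat hK P ht hHt φ hnorm τ hP heff hJ' I).2 hcase).2 hdet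
  rw [h0, map_zero] at h
  exact WithZero.exp_ne_zero h.symm

theorem strictMono_le_apply {J : Fin n → ℕ} (h : StrictMono J) (l : Fin n) : (l : ℕ) ≤ J l := by
  obtain ⟨l, hl⟩ := l
  induction l with
  | zero => exact Nat.zero_le _
  | succ m ih =>
    have := h (show (⟨m, by omega⟩ : Fin n) < ⟨m + 1, hl⟩ by simp [Fin.lt_def])
    have := ih (by omega)
    simp only at *
    omega

theorem strictMono_succ_le_apply {J : Fin n → ℕ} (h : StrictMono J) (h1 : ∀ l, 1 ≤ J l) (l : Fin n) :
    (l : ℕ) + 1 ≤ J l := by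
  have := strictMono_le_apply (J := fun l => J l - 1) (fun a b hab => by
    have := h hab; have := h1 a; simp only; omega) l
  have := h1 l
  omega

variable (hK : IsFunctionField k K) {φ : Fin (n + 1) → K} (hφ : LinearIndependent k φ)
  (hchar : ringChar k = 0 ∨ (mapDiv k φ).deg < ringChar k) {s : K} {H : K →ₐ[k] PowerSeries K}
  (hH : LocRes.IsHasseFamily s H)

include hK hφ hchar hH

theorem classical_id : IsOrders K (hcol (AlgHom.id k K) H φ) (fun l : Fin n => (l : ℕ) + 1) := by
  have h := ff hK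
  obtain ⟨J, hJ⟩ := exists_orders h hφ (AlgHom.id k K) hH
  obtain ⟨Φ, hΦ⟩ := exists_expansions h
  obtain ⟨P⟩ := nonempty_place h
  obtain ⟨t, Ht, φ', y, hy, rfl, ht, hHt, hφ', heff, hnorm, hJt, -⟩ := exists_normal_form hK hΦ hφ _ hH hJ P
  obtain ⟨J', hJ'⟩ := exists_isOrders_at h P ht _ hnorm hφ' heff
  have hc := char_cond h P ht hφ' heff hnorm hJ' (by rwa [deg_mapDiv_smul h hφ hy])
  have := isOrders_eq_of_det h P ht hHt _ (fun z hz => hz) heff hnorm hJ' hJt (I := fun l => (l : ℕ) + 1)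
    (fun a b hab => by simpa using hab) (Or.inl fun l => Nat.succ_pos _)
    (det_binom_succ_ne_zero hJ'.1 (one_le_orders h P ht _ hnorm hJ') hc)
    (strictMono_succ_le_apply hJ.1 (orders_pos_of_id hH.2 hJ))
  exact this ▸ hJ

theorem classical_strong (τ : K →ₐ[k] K) (P : Place k K) (hP : IsStrongFixedPt τ P) :
    IsOrders K (hcol τ H φ) (fun l : Fin n => (l : ℕ)) := by
  have h := ff hK
  obtain ⟨J, hJ⟩ := exists_orders h hφ τ hH
  obtain ⟨Φ, hΦ⟩ := exists_expansions h
  obtain ⟨t, Ht, φ', y, hy, rfl, ht, hHt, hφ', heff, hnorm, hJt, -⟩ := exists_normal_form hK hΦ hφ _ hH hJ P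
  obtain ⟨J', hJ'⟩ := exists_isOrders_at h P ht _ hnorm hφ' heff
  have hc := char_cond h P ht hφ' heff hnorm hJ' (by rwa [deg_mapDiv_smul h hφ hy])
  have := isOrders_eq_of_det h P ht hHt _ (isFixedPt_of_strong hP) heff hnorm hJ' hJt (I := fun l => (l : ℕ))
    (fun a b hab => by simpa using hab) (Or.inr hP) (det_binom_range_ne_zero hJ'.1 hc)
    (strictMono_le_apply hJ.1)
  exact this ▸ hJ

end Groth.Agent.Wronskian26
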