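import Groth.Agent.Lib.Wronskian26.Differential
import Groth.Agent.Lib.FunField.NormValue
import Mathlib.RingTheory.DedekindDomain.Different

/-! # The different at the places over a place -/

namespace Groth.Agent.Wronskian26

open FunFld FunField Polynomial
open scoped Multiplicative

variable {k K K' : Type*} [Field k] [Field K] [Field K'] [Algebra k K] [Algebra K K'] [Algebra k K']
  [IsScalarTower k K K'] [FiniteDimensional K K'] [Algebra.IsSeparable K K'] [IsAlgClosed k]

theorem sep_map (h : FF k K) {u : K} (hu : Sep k u) : Sep k (algebraMap K K' u) := by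
  have hK' : FF k K' := ff_extend h
  obtain ⟨y, hy⟩ := exists_sep hK'
  refine sep_of_der_ne_zero hK' (AlgHom.id k K') (der hK' hy) (der_add hK' hy) (fun a b => der_mul hK' hy a b)
    (der_const hK' hy) fun h0 => ?_
  have hz : ∀ a : K, der hK' hy (algebraMap K K' a) = 0 := fun a =>
    hu.der_eq_zero' (IsScalarTower.toAlgHom k K K') (fun a => der hK' hy (algebraMap K K' a))
      (fun a b => by simp only [map_add, der_add]) (fun a b => by rw [map_mul]; exact der_mul hK' hy _ _)
      (fun c => by rw [← IsScalarTower.algebraMap_apply k K K']; exact der_const hK' hy c) h0 a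
  let D : Derivation K K' K' := Derivation.mk'
    { toFun := der hK' hy
      map_add' := der_add hK' hy
      map_smul' := fun a z => by
        rw [Algebra.smul_def, der_mul, hz, mul_zero, add_zero, RingHom.id_apply, Algebra.smul_def] }
    (fun a b => der_mul hK' hy a b)
  haveI : Algebra.FormallyUnramified K K' := Algebra.FormallyUnramified.of_isSeparable K K'
  have hD : D y = 0 := by
    have : KaehlerDifferential.D K K' y = 0 := Subsingleton.elim _ _
    rw [← D.liftKaehlerDifferential_comp_D y, this, map_zero]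
  exact one_ne_zero ((der_self hK' hy).symm.trans hD)

theorem not_isField_O (P : Place k K) : ¬ IsField P.O := fun hF => by
  obtain ⟨t, ht0, ht⟩ := exists_uniformizer P
  obtain ⟨b, hb⟩ := hF.mul_inv_cancel (a := (⟨t, val_t_le ht⟩ : P.O)) fun e => ht0 (congrArg Subtype.val e)
  have h1 : P.1 t * P.1 (b : K) = 1 := by
    rw [← map_mul, show t * (b : K) = 1 from congrArg Subtype.val hb, map_one]
  have h2 : P.1 t * P.1 (b : K) < 1 := by
    refine (mul_le_of_le_one_right' b.2).trans_lt ?_
    rw [ht, ← WithZero.exp_zero, WithZero.exp_lt_exp]; norm_num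
  exact h2.ne h1

/-- A good local generator at the places over `P`. -/
theorem exists_generator (h : FF k K) (P : Place k K) (s : Finset (Place k K')) (hs : ∀ Q, Q ∈ s ↔ IsOver Q P) :
    ∃ θ : K', Algebra.adjoin K {θ} = ⊤ ∧ (∀ Q ∈ s, Q.1 θ ≤ 1) ∧
      (∀ z : K', (∀ Q ∈ s, Q.1 z ≤ 1) → ∃ b : Fin (Module.finrank K K') → K, (∀ i, P.1 (b i) ≤ 1) ∧
        z = ∑ i, algebraMap K K' (b i) * θ ^ (i : ℕ)) ∧
      ∀ (hff : FF k K') (Q : Place k K'), Q ∈ s → ∀ t : K, ∀ ht : P.1 t = WithZero.exp (-1),
        Q.1 (aeval θ (derivative (minpoly K θ))) = WithZero.exp (-dOrd hff Q (algebraMap K K' t)) := by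
  classical
  have hK' : FF k K' := ff_extend h
  have hn : ∑ Q ∈ s, ramIdx Q P = Module.finrank K K' := by
    have h' := sum_fibre h P s hs
    rw [deg_eq_one h P, mul_one] at h'
    rw [← h']
    exact Finset.sum_congr rfl fun Q _ => by rw [deg_eq_one hK' Q, mul_one]
  obtain ⟨c, hc⟩ : ∃ c : Place k K' → k, ∀ Q ∈ s, ∀ Q' ∈ s, c Q = c Q' → Q = Q' := by
    obtain ⟨f⟩ : Nonempty (s ↪ k) := ⟨(Fintype.equivFin s).toEmbedding.trans
      (Fin.valEmbedding.trans (Infinite.natEmbedding k))⟩
    refine ⟨fun Q => if hQ : Q ∈ s then f ⟨Q, hQ⟩ else 0, fun Q hQ Q' hQ' e => ?_⟩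
    simp only [dif_pos hQ, dif_pos hQ'] at e
    exact congrArg Subtype.val (f.injective e)
  obtain ⟨θ, hθ⟩ := weak_approx_eq s (fun Q => algebraMap k K' (c Q)) (fun _ => 1)
  have hθ1 : ∀ Q ∈ s, Q.1 θ ≤ 1 := fun Q hQ => by
    rw [show θ = (θ - algebraMap k K' (c Q)) + algebraMap k K' (c Q) by ring]
    refine (Q.1.map_add _ _).trans (max_le ?_ (val_const_le Q _))
    rw [hθ Q hQ, ← WithZero.exp_zero, WithZero.exp_le_exp]; norm_num
  have hvalq : ∀ q : k[X], q ≠ 0 → ∀ Q ∈ s, Q.1 (aeval θ q) = WithZero.exp (-(q.rootMultiplicity (c Q) : ℤ)) := by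
    intro q hq Q hQ
    obtain ⟨r, hr, hnd⟩ := Polynomial.exists_eq_pow_rootMultiplicity_mul_and_not_dvd q hq (c Q)
    rw [Polynomial.dvd_iff_isRoot, Polynomial.IsRoot.def] at hnd
    conv_lhs => rw [hr]
    rw [map_mul, map_pow, map_mul, map_pow, map_sub, aeval_X, aeval_C, hθ Q hQ]
    have h1 : Q.1 (aeval θ r - algebraMap k K' (r.eval (c Q))) < 1 := by
      obtain ⟨w, hw⟩ := Polynomial.X_sub_C_dvd_sub_C_eval (p := r) (a := c Q)
      have : aeval θ r - algebraMap k K' (r.eval (c Q)) = (θ - algebraMap k K' (c Q)) * aeval θ w := by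
        have := congrArg (aeval θ) hw
        simpa [map_mul, map_sub] using this
      rw [this, map_mul]
      refine (mul_le_of_le_one_right' (val_aeval_le Q (hθ1 Q hQ) w)).trans_lt ?_
      rw [hθ Q hQ, ← WithZero.exp_zero, WithZero.exp_lt_exp]; norm_num
    have h2 : Q.1 (aeval θ r) = 1 := by
      rw [val_eq_of_sub_lt (a := aeval θ r) (b := algebraMap k K' (r.eval (c Q))) (by rwa [val_const Q hnd]),
        val_const Q hnd]
    rw [h2, mul_one, ← WithZero.exp_nsmul]
    simp
  obtain ⟨π, hπ0, hπ⟩ := exists_uniformizer P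
  let e : Place k K' → ℕ := fun Q => ramIdx Q P
  have hvπ : ∀ Q ∈ s, ∀ a : K, Q.1 (algebraMap K K' a) = P.1 a ^ e Q := fun Q hQ a =>
    isOverWith_ramIdx ((hs Q).1 hQ) a
  have hm : ∀ Q ∈ s, ∀ a : K, P.1 a < 1 → Q.1 (algebraMap K K' a) ≤ WithZero.exp (-(e Q : ℤ)) := by
    intro Q hQ a ha
    rw [hvπ Q hQ]
    refine (pow_le_pow_left' ((lt_one_iff_le _).1 ha) _).trans (le_of_eq ?_)
    rw [← WithZero.exp_nsmul]; simp
  have hsmall : ∀ b : Fin (Module.finrank K K') → K, (∀ i, P.1 (b i) ≤ 1) →
      (∀ Q ∈ s, Q.1 (∑ i, algebraMap K K' (b i) * θ ^ (i : ℕ)) ≤ WithZero.exp (-(e Q : ℤ))) → ∀ i, P.1 (b i) < 1 := by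
    intro b hb hsum
    choose r hr using fun i => exists_const_near h P (hb i)
    let q : k[X] := ∑ i : Fin (Module.finrank K K'), monomial (i : ℕ) (r i)
    suffices hq0 : q = 0 by
      intro i
      have h0 := congrArg (fun p => Polynomial.coeff p (i : ℕ)) hq0
      simp only [q, Polynomial.finsetSum_coeff, coeff_monomial, coeff_zero] at h0
      rw [Finset.sum_eq_single i (fun j _ hj => if_neg fun e => hj (Fin.ext e)) (by simp), if_pos rfl] at h0
      have := hr i
      rwa [h0, map_zero, sub_zero] at this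
    by_contra hq0
    have hmult : ∀ Q ∈ s, e Q ≤ q.rootMultiplicity (c Q) := by
      intro Q hQ
      have hle : Q.1 (aeval θ q) ≤ WithZero.exp (-(e Q : ℤ)) := by
        rw [show aeval θ q = (∑ i, algebraMap K K' (b i) * θ ^ (i : ℕ)) -
            ∑ i, algebraMap K K' (b i - algebraMap k K (r i)) * θ ^ (i : ℕ) by
          rw [← Finset.sum_sub_distrib, map_sum]
          refine Finset.sum_congr rfl fun i _ => ?_
          rw [aeval_monomial, map_sub, ← IsScalarTower.algebraMap_apply k K K']; ring]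
        refine (Q.1.map_sub _ _).trans (max_le (hsum Q hQ) (Q.1.map_sum_le fun i _ => ?_))
        rw [map_mul, map_pow]
        exact (mul_le_mul' (hm Q hQ _ (hr i)) (pow_le_one₀ zero_le (hθ1 Q hQ))).trans_eq (mul_one _)
      rw [hvalq q hq0 Q hQ, WithZero.exp_le_exp] at hle
      omega
    have hdvd : (∏ Q ∈ s, (X - C (c Q)) ^ e Q) ∣ q := by
      refine Finset.prod_dvd_of_coprime (fun Q hQ Q' hQ' hne => ?_) fun Q hQ => ?_
      · exact ((isCoprime_X_sub_C_of_isUnit_sub (isUnit_iff_ne_zero.2 (sub_ne_zero.2 fun e => hne (hc Q hQ Q' hQ' e)))).pow)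
      · exact (le_rootMultiplicity_iff hq0).1 (hmult Q hQ)
    have h1 := Polynomial.natDegree_le_of_dvd hdvd hq0
    rw [Polynomial.natDegree_prod _ _ fun Q _ => pow_ne_zero _ (X_sub_C_ne_zero _)] at h1
    simp only [natDegree_pow, natDegree_X_sub_C, mul_one, e, hn] at h1
    have h2 : q.natDegree < Module.finrank K K' := by
      rcases Nat.eq_zero_or_pos (Module.finrank K K') with h0 | h0
      · exact absurd h0 Module.finrank_pos.ne'
      refine Nat.lt_of_le_of_lt (natDegree_sum_le_of_forall_le _ _ (n := Module.finrank K K' - 1) fun i _ =>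
        (natDegree_monomial_le _).trans ?_) (by omega)
      have := i.2
      omega
    omega
  have hscale : ∀ (b : Fin (Module.finrank K K') → K) (hb : b ≠ 0), ∃ j, b j ≠ 0 ∧ ∀ i, P.1 (b i / b j) ≤ 1 := by
    intro b hb
    haveI : Nonempty (Fin (Module.finrank K K')) := ⟨⟨0, Module.finrank_pos⟩⟩
    obtain ⟨j, -, hj⟩ := Finset.exists_max_image Finset.univ (fun i => P.1 (b i)) Finset.univ_nonempty
    have hbj : b j ≠ 0 := fun h0 => hb (funext fun i => by
      by_contra hne
      have := hj i (Finset.mem_univ i)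
      rw [h0, map_zero, le_zero_iff, map_eq_zero] at this
      exact hne this)
    refine ⟨j, hbj, fun i => ?_⟩
    rw [map_div₀, div_le_one₀ (zero_lt_iff.2 ((Valuation.ne_zero_iff _).2 hbj))]
    exact hj i (Finset.mem_univ i)
  have hli : LinearIndependent K (fun i : Fin (Module.finrank K K') => θ ^ (i : ℕ)) := by
    rw [Fintype.linearIndependent_iff]
    by_contra! hcon
    obtain ⟨b, hb0, i0, hi0⟩ := hcon
    obtain ⟨j, hbj, hle⟩ := hscale b fun e => hi0 (congrFun e i0)
    have hz : ∑ i, algebraMap K K' (b i / b j) * θ ^ (i : ℕ) = 0 := by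
      simp only [Algebra.smul_def] at hb0
      rw [show (∑ i, algebraMap K K' (b i / b j) * θ ^ (i : ℕ)) =
        (algebraMap K K' (b j))⁻¹ * ∑ i, algebraMap K K' (b i) * θ ^ (i : ℕ) by
        rw [Finset.mul_sum]; refine Finset.sum_congr rfl fun i _ => ?_; rw [map_div₀]; ring, hb0, mul_zero]
    have := hsmall _ hle (fun Q _ => by rw [hz, map_zero]; exact zero_le) j
    rw [div_self hbj, map_one] at this
    exact lt_irrefl _ this
  haveI : Nonempty (Fin (Module.finrank K K')) := ⟨⟨0, Module.finrank_pos⟩⟩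
  have hspan := hli.span_eq_top_of_card_eq_finrank (Fintype.card_fin _)
  have hadj : Algebra.adjoin K {θ} = ⊤ := by
    rw [eq_top_iff]
    intro z _
    have hz : z ∈ Submodule.span K (Set.range fun i : Fin (Module.finrank K K') => θ ^ (i : ℕ)) := hspan ▸ Submodule.mem_top
    refine (Submodule.span_le (p := Subalgebra.toSubmodule (Algebra.adjoin K {θ}))).2 ?_ hz
    rintro _ ⟨i, rfl⟩
    exact pow_mem (Algebra.self_mem_adjoin_singleton K θ) _
  have hR : ∀ z : K', (∀ Q ∈ s, Q.1 z ≤ 1) → ∃ b : Fin (Module.finrank K K') → K, (∀ i, P.1 (b i) ≤ 1) ∧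
      z = ∑ i, algebraMap K K' (b i) * θ ^ (i : ℕ) := by
    intro z hz
    obtain ⟨b, hb⟩ := (Submodule.mem_span_range_iff_exists_fun K).1 (hspan ▸ Submodule.mem_top : z ∈ _)
    simp only [Algebra.smul_def] at hb
    refine ⟨b, ?_, hb.symm⟩
    by_contra! hcon
    obtain ⟨i0, hi0⟩ := hcon
    obtain ⟨j, hbj, hle⟩ := hscale b fun e => by
      rw [congrFun e i0, Pi.zero_apply, map_zero] at hi0; exact not_lt.2 zero_le hi0
    have hgt : 1 < P.1 (b j) := by
      have := hle i0
      rw [map_div₀, div_le_one₀ (zero_lt_iff.2 ((Valuation.ne_zero_iff _).2 hbj))] at this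
      exact hi0.trans_le this
    have hinv : P.1 (b j)⁻¹ < 1 := by rw [map_inv₀]; exact inv_lt_one_of_one_lt₀ hgt
    have := hsmall _ hle (fun Q hQ => by
      rw [show (∑ i, algebraMap K K' (b i / b j) * θ ^ (i : ℕ)) = algebraMap K K' (b j)⁻¹ * z by
        rw [← hb, Finset.mul_sum]; refine Finset.sum_congr rfl fun i _ => ?_; rw [map_div₀, map_inv₀]; ring, map_mul]
      exact (mul_le_mul' (hm Q hQ _ hinv) (hz Q hQ)).trans_eq (mul_one _)) j
    rw [div_self hbj, map_one] at this
    exact lt_irrefl _ this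
  refine ⟨θ, hadj, hθ1, hR, fun hff Q hQ t ht => ?_⟩
  -- the minimal polynomial
  letI : Algebra P.O K' := ((algebraMap K K').comp P.O.subtype).toAlgebra
  haveI : IsScalarTower P.O K K' := IsScalarTower.of_algebraMap_eq' rfl
  haveI : IsDiscreteValuationRing P.O := h.isDiscreteValuationRing P.O P.2.1 (not_isField_O P)
  have hint : IsIntegral P.O θ := (isIntegral_iff h P θ).2 fun Q' hQ' => hθ1 Q' ((hs Q').2 hQ')
  have hf := minpoly.isIntegrallyClosed_eq_field_fractions' K hint
  let f := minpoly K θ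
  have hfm : f.Monic := minpoly.monic (Algebra.IsIntegral.isIntegral θ)
  have hfd : f.natDegree = Module.finrank K K' := by
    have hint' : IsIntegral K θ := Algebra.IsIntegral.isIntegral θ
    rw [← IntermediateField.adjoin.finrank hint',
      show IntermediateField.adjoin K {θ} = ⊤ from IntermediateField.adjoin_eq_top_of_algebra K _ hadj,
      IntermediateField.finrank_top']
  let G : k[X] := ∏ Q ∈ s, (X - C (c Q)) ^ e Q
  have hGm : G.Monic := monic_prod_of_monic _ _ fun Q _ => (monic_X_sub_C _).pow _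
  have hGd : G.natDegree = Module.finrank K K' := by
    rw [natDegree_prod _ _ fun Q _ => pow_ne_zero _ (X_sub_C_ne_zero _)]
    simp [e, hn]
  let π' := algebraMap K K' t
  have hGval : ∀ Q ∈ s, Q.1 (aeval θ G) = WithZero.exp (-(e Q : ℤ)) := by
    intro Q' hQ'
    rw [hvalq G hGm.ne_zero Q' hQ']
    congr 3
    rw [← count_roots, show G.roots = s.val.bind fun Q => ((X - C (c Q)) ^ e Q).roots from
      roots_prod _ _ (Finset.prod_ne_zero_iff.2 fun Q _ => pow_ne_zero _ (X_sub_C_ne_zero _)), Multiset.count_bind]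
    simp only [roots_pow, roots_X_sub_C, Multiset.count_nsmul, Multiset.count_singleton]
    show ∑ Q ∈ s, _ = _
    rw [Finset.sum_eq_single Q' (fun Q'' hQ'' hne => by rw [if_neg fun e => hne (hc Q'' hQ'' Q' hQ' e.symm), mul_zero])
      (fun hn => (hn hQ').elim), if_pos rfl, mul_one]
  let rem : Fin (Module.finrank K K') → K := fun i => f.coeff i - algebraMap k K (G.coeff i)
  have hfG : f = G.map (algebraMap k K) + ∑ i : Fin (Module.finrank K K'), monomial (i : ℕ) (rem i) := by
    ext m
    simp only [coeff_add, coeff_map, finsetSum_coeff, coeff_monomial]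
    rcases lt_trichotomy m (Module.finrank K K') with hlt | rfl | hgt
    · rw [Finset.sum_eq_single ⟨m, hlt⟩ (fun j _ hj => if_neg fun e => hj (Fin.ext e)) (by simp), if_pos rfl]
      simp [rem]
    · rw [Finset.sum_eq_zero fun j _ => if_neg j.2.ne, add_zero, ← hfd, hfm.coeff_natDegree, hfd, ← hGd,
        hGm.coeff_natDegree, map_one]
    · rw [Finset.sum_eq_zero fun j _ => if_neg (j.2.trans hgt).ne, add_zero, coeff_eq_zero_of_natDegree_lt (by omega),
        coeff_eq_zero_of_natDegree_lt (by omega : G.natDegree < m), map_zero]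
  have hrem1 : ∀ i, P.1 (rem i) ≤ 1 := by
    intro i
    refine (P.1.map_sub _ _).trans (max_le ?_ (val_const_le P _))
    simp only [f, hf, coeff_map]
    exact ((minpoly P.O θ).coeff i).2
  have heq : aeval θ G + ∑ i, algebraMap K K' (rem i) * θ ^ (i : ℕ) = 0 := by
    have h0 : aeval θ f = 0 := minpoly.aeval K θ
    rw [hfG, map_add, aeval_map_algebraMap, map_sum] at h0
    simpa [aeval_monomial] using h0
  have hrem : ∀ i, P.1 (rem i) < 1 := hsmall rem hrem1 fun Q' hQ' => by
    rw [show ∑ i, algebraMap K K' (rem i) * θ ^ (i : ℕ) = -aeval θ G from eq_neg_of_add_eq_zero_right heq,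
      Valuation.map_neg, hGval Q' hQ']
  let b : Fin (Module.finrank K K') → K := fun i => rem i / t
  have ht0 : t ≠ 0 := ne_zero_of_val ht
  have hb : ∀ i, P.1 (b i) ≤ 1 := fun i => by
    rw [map_div₀, ht, div_le_one₀ WithZero.exp_pos]
    exact (lt_one_iff_le _).1 (hrem i)
  let hθv := ∑ i, algebraMap K K' (b i) * θ ^ (i : ℕ)
  have hrel : aeval θ G + π' * hθv = 0 := by
    rw [← heq, Finset.mul_sum]
    congr 1
    refine Finset.sum_congr rfl fun i _ => ?_
    rw [← mul_assoc, ← map_mul, mul_div_cancel₀ _ ht0]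
  have hπ'v : Q.1 π' = WithZero.exp (-(e Q : ℤ)) := by
    rw [hvπ Q hQ, ht, ← WithZero.exp_nsmul]; simp
  have hhv : Q.1 hθv = 1 := by
    have := congrArg Q.1 (eq_neg_of_add_eq_zero_left hrel)
    rw [Valuation.map_neg, map_mul, hGval Q hQ, hπ'v] at this
    exact (mul_eq_left₀ WithZero.exp_ne_zero).1 this.symm
  -- differentiate
  obtain ⟨tQ, -, htQ⟩ := exists_uniformizer Q
  let δ := der hff (sep_uniformizer hff Q htQ)
  have hst := sep_uniformizer h P ht
  let Dd := der h hst
  have hδK : ∀ a : K, δ (algebraMap K K' a) = algebraMap K K' (Dd a) * δ π' := fun a =>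
    der_chain h hst (IsScalarTower.toAlgHom k K K') (fun a => δ (algebraMap K K' a))
      (fun a b => by simp only [map_add, δ, der_add]) (fun a b => by rw [map_mul]; exact der_mul hff _ _ _)
      (fun cc => by rw [← IsScalarTower.algebraMap_apply k K K']; exact der_const hff _ cc) a
  have hD : ∀ (p : k[X]), δ (aeval θ p) = aeval θ (derivative p) * δ θ := by
    intro p
    induction p using Polynomial.induction_on with
    | C a => simp [δ, der_const]
    | add p q hp hq => simp only [map_add, δ, der_add] at hp hq ⊢; rw [hp, hq]; ring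
    | monomial m a ih =>
      rw [pow_succ, ← mul_assoc, map_mul (aeval θ), aeval_X]
      simp only [δ] at ih ⊢
      rw [der_mul, ih, derivative_mul (f := C a * X ^ m), derivative_X, mul_one, map_add, map_mul (aeval θ), map_mul (aeval θ) (derivative (C a * X ^ m)), aeval_X]
      ring
  have hDpow : ∀ i : ℕ, δ (θ ^ i) = (i : K') * θ ^ (i - 1) * δ θ := by
    intro i
    have := hD (X ^ i)
    simpa [derivative_X_pow] using this
  let hd := ∑ i, algebraMap K K' (Dd (b i)) * θ ^ (i : ℕ)
  let h' := ∑ i : Fin (Module.finrank K K'), algebraMap K K' (b i) * ((i : ℕ) * θ ^ ((i : ℕ) - 1))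
  have hδh : δ hθv = h' * δ θ + hd * δ π' := by
    have : ∀ S : Finset (Fin (Module.finrank K K')), δ (∑ i ∈ S, algebraMap K K' (b i) * θ ^ (i : ℕ)) =
        (∑ i ∈ S, algebraMap K K' (b i) * ((i : ℕ) * θ ^ ((i : ℕ) - 1))) * δ θ +
          (∑ i ∈ S, algebraMap K K' (Dd (b i)) * θ ^ (i : ℕ)) * δ π' := by
      intro S
      induction S using Finset.induction_on with
      | empty =>
        simp only [Finset.sum_empty, zero_mul, add_zero]
        simpa [δ] using der_const hff (sep_uniformizer hff Q htQ) (0 : k)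
      | insert a S ha ih =>
        simp only [Finset.sum_insert ha, δ] at ih hδK hDpow ⊢
        rw [der_add, ih, der_mul, hδK, hDpow]; ring
    exact this Finset.univ
  have hfd' : aeval θ (derivative f) = aeval θ (derivative G) + π' * h' := by
    rw [hfG, derivative_add, map_add, derivative_map, aeval_map_algebraMap, derivative_sum, map_sum, Finset.mul_sum]
    congr 1
    refine Finset.sum_congr rfl fun i _ => ?_
    rw [derivative_monomial, aeval_monomial, map_mul, map_natCast, map_div₀]
    have : algebraMap K K' t ≠ 0 := by simpa using ht0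
    simp only [π']
    field_simp
  have hmain : aeval θ (derivative f) * δ θ = -(δ π' * (hθv + π' * hd)) := by
    have h0 : δ (aeval θ G + π' * hθv) = 0 := by
      rw [hrel]; simpa [δ] using der_const hff (sep_uniformizer hff Q htQ) (0 : k)
    simp only [δ, der_add, der_mul] at h0 hδh hD
    rw [hD, hδh] at h0
    rw [hfd']
    linear_combination h0
  have hδθ : Q.1 (δ θ) = 1 := by
    have h1 : δ θ = δ (θ - algebraMap k K' (c Q)) := by
      have := der_add hff (sep_uniformizer hff Q htQ) (θ - algebraMap k K' (c Q)) (algebraMap k K' (c Q))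
      rw [sub_add_cancel, der_const, add_zero] at this
      exact this
    rw [h1]
    exact val_der_uniformizer hff Q htQ (hθ Q hQ)
  have hunit : Q.1 (hθv + π' * hd) = 1 := by
    rw [Valuation.map_add_eq_of_lt_left, hhv]
    rw [map_mul, hhv]
    refine (mul_le_of_le_one_right' (Q.1.map_sum_le fun i _ => ?_)).trans_lt ?_
    · rw [map_mul, map_pow, hvπ Q hQ]
      exact mul_le_one' (pow_le_one₀ zero_le (val_hasseD_le h P ht (exists_hasse h hst).choose_spec (hb i) 1))
        (pow_le_one₀ zero_le (hθ1 Q hQ))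
    · rw [hπ'v, ← WithZero.exp_zero, WithZero.exp_lt_exp]
      have := isOverWith_pos (isOverWith_ramIdx ((hs Q).1 hQ))
      simp only [e]; omega
  have hv := congrArg Q.1 hmain
  rw [map_mul, hδθ, mul_one, Valuation.map_neg, map_mul, hunit, mul_one] at hv
  rw [hv, dOrd_eq hff Q htQ]
  exact val_eq_exp_neg_ord Q (der_ne_zero hff (sep_map h hst) _)

/-- Integrality of traces at `P` is measured by the different. -/
theorem trace_le_iff (h : FF k K) (hff : FF k K') (P : Place k K) {t : K} (ht : P.1 t = WithZero.exp (-1)) (z : K') :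
    (∀ r : K', (∀ Q, IsOver Q P → Q.1 r ≤ 1) → P.1 (Algebra.trace K K' (z * r)) ≤ 1) ↔
      ∀ Q, IsOver Q P → Q.1 z ≤ WithZero.exp (dOrd hff Q (algebraMap K K' t)) := by
  classical
  let s := (finite_fibre (K' := K') h P).toFinset
  have hs : ∀ Q, Q ∈ s ↔ IsOver Q P := fun Q => by
    rw [Set.Finite.mem_toFinset]; rfl
  obtain ⟨θ, hadj, hθ1, hR, hd⟩ := exists_generator h P s hs
  letI : Algebra P.O K' := ((algebraMap K K').comp P.O.subtype).toAlgebra
  haveI : IsScalarTower P.O K K' := IsScalarTower.of_algebraMap_eq' rfl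
  haveI : IsDiscreteValuationRing P.O := h.isDiscreteValuationRing P.O P.2.1 (not_isField_O P)
  have hint : IsIntegral P.O θ := (isIntegral_iff h P θ).2 fun Q' hQ' => hθ1 Q' ((hs Q').2 hQ')
  have hmem : ∀ r : K', r ∈ Algebra.adjoin P.O {θ} ↔ ∀ Q, IsOver Q P → Q.1 r ≤ 1 := by
    intro r
    constructor
    · intro hr Q hQ
      refine Algebra.adjoin_induction (fun x hx => ?_) (fun a => ?_) (fun x y _ _ hx hy => ?_) (fun x y _ _ hx hy => ?_) hr
      · rw [Set.mem_singleton_iff.1 hx]; exact hθ1 Q ((hs Q).2 hQ)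
      · rw [show algebraMap P.O K' a = algebraMap K K' (a : K) from rfl, isOverWith_ramIdx hQ]
        exact pow_le_one₀ zero_le a.2
      · exact (Q.1.map_add _ _).trans (max_le hx hy)
      · rw [map_mul]; exact mul_le_one' hx hy
    · intro hr
      obtain ⟨b, hb, rfl⟩ := hR r fun Q hQ => hr Q ((hs Q).1 hQ)
      exact sum_mem fun i _ => mul_mem (Subalgebra.algebraMap_mem _ (⟨b i, hb i⟩ : P.O))
        (pow_mem (Algebra.self_mem_adjoin_singleton _ θ) _)
  have hdual := traceForm_dualSubmodule_adjoin (A := P.O) (K := K) hadj hint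
  have h1 : ∀ a : K, a ∈ (1 : Submodule P.O K) ↔ P.1 a ≤ 1 := fun a => by
    rw [Submodule.mem_one]
    exact ⟨fun ⟨y, hy⟩ => hy ▸ y.2, fun ha => ⟨⟨a, ha⟩, rfl⟩⟩
  have hiff : (∀ r : K', (∀ Q, IsOver Q P → Q.1 r ≤ 1) → P.1 (Algebra.trace K K' (z * r)) ≤ 1) ↔
      z ∈ (Algebra.traceForm K K').dualSubmodule (Subalgebra.toSubmodule (Algebra.adjoin P.O {θ})) := by
    simp only [LinearMap.BilinForm.mem_dualSubmodule, Algebra.traceForm_apply, h1, Subalgebra.mem_toSubmodule, hmem]
  rw [hiff, hdual]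
  have hne : ∀ Q, IsOver Q P → Q.1 (aeval θ (derivative (minpoly K θ))) =
      WithZero.exp (-dOrd hff Q (algebraMap K K' t)) := fun Q hQ => hd hff Q ((hs Q).2 hQ) t ht
  have hfne : aeval θ (derivative (minpoly K θ)) ≠ 0 :=
    (Algebra.IsSeparable.isSeparable K θ).aeval_derivative_ne_zero (minpoly.aeval _ _)
  constructor
  · intro hz Q hQ
    obtain ⟨r, hr, rfl⟩ := hz
    show Q.1 ((aeval θ (derivative (minpoly K θ)))⁻¹ * r) ≤ _
    rw [map_mul, map_inv₀, hne Q hQ, ← WithZero.exp_neg, neg_neg]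
    exact mul_le_of_le_one_right' ((hmem r).1 hr Q hQ)
  · intro hz
    refine ⟨aeval θ (derivative (minpoly K θ)) * z, (hmem _).2 fun Q hQ => ?_, inv_mul_cancel_left₀ hfne z⟩
    rw [map_mul, hne Q hQ]
    refine (mul_le_mul' le_rfl (hz Q hQ)).trans (le_of_eq ?_)
    rw [← WithZero.exp_add, neg_add_cancel, WithZero.exp_zero]

end Groth.Agent.Wronskian26
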