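import Groth.Agent.Lib.Wronskian26.Adapted

/-! # Orders of differentials -/

namespace Groth.Agent.Wronskian26

open FunFld FunField

variable {k K : Type*} [Field k] [IsAlgClosed k] [Field K] [Algebra k K]

/-- Differentiation with respect to a separating element. -/
noncomputable def der (hK : FF k K) {u : K} (hu : Sep k u) (z : K) : K :=
  LocRes.hasseD (exists_hasse hK hu).choose 1 z

variable (hK : FF k K) {u : K} (hu : Sep k u)

theorem der_self : der hK hu u = 1 := by
  simp [der, (exists_hasse hK hu).choose_spec.1]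

theorem der_add (x y : K) : der hK hu (x + y) = der hK hu x + der hK hu y := by simp [der]

theorem der_mul (x y : K) : der hK hu (x * y) = x * der hK hu y + y * der hK hu x :=
  hasse_leibniz _ (exists_hasse hK hu).choose_spec.2 x y

theorem der_const (c : k) : der hK hu (algebraMap k K c) = 0 :=
  hasse_const _ c one_ne_zero

/-- `dz = (dz/du) du`. -/
theorem der_chain {L : Type*} [CommRing L] [Algebra k L] (φ : K →ₐ[k] L) (d : K → L)
    (hadd : ∀ x y, d (x + y) = d x + d y) (hmul : ∀ x y, d (x * y) = φ x * d y + φ y * d x)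
    (hconst : ∀ c, d (algebraMap k K c) = 0) (z : K) : d z = φ (der hK hu z) * d u := by
  refine sub_eq_zero.1 (hu.der_eq_zero' φ (fun z => d z - φ (der hK hu z) * d u) ?_ ?_ ?_ ?_ z)
  · intro x y; simp only [hadd, der_add, map_add]; ring
  · intro x y; simp only [hmul, der_mul, map_add, map_mul]; ring
  · intro c; rw [hconst, der_const, map_zero, zero_mul, sub_self]
  · rw [der_self, map_one, one_mul, sub_self]

theorem hasseD_one_eq {s : K} {H : K →ₐ[k] PowerSeries K} (hH : LocRes.IsHasseFamily s H) (z : K) :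
    LocRes.hasseD H 1 z = der hK hu z * LocRes.hasseD H 1 u :=
  der_chain hK hu (AlgHom.id k K) (fun z => LocRes.hasseD H 1 z) (fun x y => by simp)
    (fun x y => hasse_leibniz H hH.2 x y) (fun c => hasse_const H c one_ne_zero) z

theorem der_der {v : K} (hv : Sep k v) (z : K) : der hK hv z = der hK hu z * der hK hv u :=
  der_chain hK hu (AlgHom.id k K) (der hK hv) (der_add hK hv) (fun x y => der_mul hK hv x y) (der_const hK hv) z

include hu in
theorem der_ne_zero {v : K} (hv : Sep k v) : der hK hv u ≠ 0 := by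
  intro h
  have := der_der hK hu hv v
  rw [der_self, h, mul_zero] at this
  exact one_ne_zero this

theorem der_eq_hasseD {H : K →ₐ[k] PowerSeries K} (hH : LocRes.IsHasseFamily u H) (z : K) :
    der hK hu z = LocRes.hasseD H 1 z := by
  rw [hasseD_one_eq hK hu hH z, LocRes.hasseD_apply, hH.1]
  simp

variable (P : Place k K)

/-- The order of `ds` at `P`. -/
noncomputable def dOrd (s : K) : ℤ :=
  P.ord (der hK (sep_uniformizer hK P (exists_uniformizer P).choose_spec.2) s)

theorem val_der_uniformizer {t t' : K} (ht : P.1 t = WithZero.exp (-1)) (ht' : P.1 t' = WithZero.exp (-1)) :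
    P.1 (der hK (sep_uniformizer hK P ht) t') = 1 := by
  have hle : ∀ {a b : K} (ha : P.1 a = WithZero.exp (-1)) (hb : P.1 b = WithZero.exp (-1)),
      P.1 (der hK (sep_uniformizer hK P ha) b) ≤ 1 := fun {a b} ha hb =>
    val_hasseD_le hK P ha (exists_hasse hK (sep_uniformizer hK P ha)).choose_spec (val_t_le hb) 1
  have h := der_der hK (sep_uniformizer hK P ht') (sep_uniformizer hK P ht) t
  rw [der_self] at h
  have h' := congrArg P.1 h
  rw [map_one, map_mul] at h'
  exact le_antisymm (hle ht ht') (by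
    calc (1 : WithZero (Multiplicative ℤ)) = _ * _ := h'
      _ ≤ 1 * _ := mul_le_mul' (hle ht' ht) le_rfl
      _ = _ := one_mul _)

theorem dOrd_eq {t : K} (ht : P.1 t = WithZero.exp (-1)) (s : K) :
    dOrd hK P s = P.ord (der hK (sep_uniformizer hK P ht) s) := by
  have hs := (exists_uniformizer P).choose_spec.2
  rw [dOrd, der_der hK (sep_uniformizer hK P ht) (sep_uniformizer hK P hs) s, Place.ord, Place.ord, map_mul,
    val_der_uniformizer hK P hs ht, mul_one]

theorem dOrd_eq_hasseD {t : K} (ht : P.1 t = WithZero.exp (-1)) {H : K →ₐ[k] PowerSeries K}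
    (hH : LocRes.IsHasseFamily t H) (s : K) : dOrd hK P s = P.ord (LocRes.hasseD H 1 s) := by
  rw [dOrd_eq hK P ht, der_eq_hasseD hK _ hH]

include hu in
theorem dOrd_chain (s : K) (hs : der hK hu s ≠ 0) :
    dOrd hK P s = P.ord (der hK hu s) + dOrd hK P u := by
  have ht := (exists_uniformizer P).choose_spec.2
  rw [dOrd, dOrd, der_der hK hu (sep_uniformizer hK P ht) s, ord_mul P hs (der_ne_zero hK hu _)]

theorem valued_D_expansion {φ : K →ₐ[k] LaurentSeries k} (hφ : LocRes.IsExpansionAt P.1 φ) {t : K}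
    (ht : P.1 t = WithZero.exp (-1)) : Valued.v (LocRes.D k (φ t)) = 1 := by
  have hv : Valued.v (φ t) = WithZero.exp (-(1 : ℤ)) := (hφ.1 t).trans ht
  obtain ⟨q, hq⟩ := (LaurentSeries.val_le_one_iff_eq_coe k (φ t)).1 (hv.le.trans (by
    rw [← WithZero.exp_zero, WithZero.exp_le_exp]; norm_num))
  refine le_antisymm ((LaurentSeries.val_le_one_iff_eq_coe k _).2 ⟨PowerSeries.derivative k q, by
    rw [← hq, LocRes.D_coe]⟩) (not_lt.1 fun hlt => ?_)
  have h0 := (LaurentSeries.valuation_le_iff_coeff_lt_eq_zero k).1 ((lt_one_iff_le _).1 hlt) 0 one_pos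
  rw [LocRes.D_coeff, zero_add, one_smul] at h0
  have hle : Valued.v (φ t) ≤ WithZero.exp (-(2 : ℤ)) := by
    rw [LaurentSeries.valuation_le_iff_coeff_lt_eq_zero]
    intro n hn
    rcases lt_or_eq_of_le (show n ≤ 1 by omega) with h | rfl
    · exact (LaurentSeries.valuation_le_iff_coeff_lt_eq_zero k).1 hv.le n h
    · exact h0
  rw [hv, WithZero.exp_le_exp] at hle
  omega

theorem vDiff_eq {φ : K →ₐ[k] LaurentSeries k} (hφ : LocRes.IsExpansionAt P.1 φ) {t : K}
    (ht : P.1 t = WithZero.exp (-1)) (a v : K) :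
    LocRes.vDiff φ a v = P.1 (a * der hK (sep_uniformizer hK P ht) v) := by
  rw [LocRes.vDiff, der_chain hK (sep_uniformizer hK P ht) φ (fun z => LocRes.D k (φ z))
    (fun x y => by simp only [map_add]) (fun x y => by rw [map_mul, Derivation.leibniz, smul_eq_mul, smul_eq_mul])
    (fun c => by rw [AlgHom.commutes]; exact Derivation.map_algebraMap _ c) v, ← mul_assoc, ← map_mul, map_mul,
    valued_D_expansion P hφ ht, mul_one, hφ.1]

theorem ordDiff_one_eq {φ : K →ₐ[k] LaurentSeries k} (hφ : LocRes.IsExpansionAt P.1 φ) (v : K) :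
    LocRes.ordDiff φ 1 v = dOrd hK P v := by
  rw [LocRes.ordDiff, vDiff_eq hK P hφ (exists_uniformizer P).choose_spec.2, one_mul]
  rfl

end Groth.Agent.Wronskian26
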