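import Groth.Agent.Lib.FunField.Embed
import Mathlib.RingTheory.LaurentSeries
import Mathlib.RingTheory.PowerSeries.Trunc

/-! # Expansions at a place in a local parameter -/

namespace Groth.Agent.Wronskian26

open WithZero FunFld FunField Polynomial
open scoped Multiplicative

variable {k K : Type*} [Field k] [Field K] [Algebra k K]

/-- `p` is the expansion of `f` in powers of `t` at `P`. -/
def IsExp (P : Place k K) (t f : K) (p : PowerSeries k) : Prop :=
  ∀ N : ℕ, P.1 (f - aeval t (PowerSeries.trunc N p)) ≤ exp (-(N : ℤ))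

theorem val_pow {P : Place k K} {t : K} (ht : P.1 t = exp (-1)) (n : ℕ) : P.1 (t ^ n) = exp (-(n : ℤ)) := by
  rw [map_pow, ht, ← exp_nsmul]; simp

theorem val_t_le {P : Place k K} {t : K} (ht : P.1 t = exp (-1)) : P.1 t ≤ 1 := by
  rw [ht, ← exp_zero, exp_le_exp]; norm_num

theorem IsExp.val_le {P : Place k K} {t f : K} {p : PowerSeries k} (hp : IsExp P t f p) : P.1 f ≤ 1 := by
  simpa using hp 0

theorem val_aeval_of_dvd {P : Place k K} {t : K} (ht : P.1 t = exp (-1)) {N : ℕ} {q : k[X]} (h : X ^ N ∣ q) :
    P.1 (aeval t q) ≤ exp (-(N : ℤ)) := by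
  obtain ⟨r, rfl⟩ := h
  rw [map_mul, map_pow, aeval_X, map_mul, val_pow ht]
  exact (mul_le_mul' le_rfl (val_aeval_le P (val_t_le ht) r)).trans_eq (mul_one _)

theorem IsExp.mul {P : Place k K} {t f g : K} {p q : PowerSeries k} (ht : P.1 t = exp (-1))
    (hp : IsExp P t f p) (hq : IsExp P t g q) : IsExp P t (f * g) (p * q) := by
  intro N
  have hd : X ^ N ∣ PowerSeries.trunc N p * PowerSeries.trunc N q - PowerSeries.trunc N (p * q) := by
    rw [Polynomial.X_pow_dvd_iff]
    intro d hd
    rw [Polynomial.coeff_sub, sub_eq_zero, PowerSeries.coeff_trunc, if_pos hd, Polynomial.coeff_mul,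
      PowerSeries.coeff_mul]
    refine Finset.sum_congr rfl fun x hx => ?_
    have hx : x.1 + x.2 = d := by simpa using hx
    rw [PowerSeries.coeff_trunc, PowerSeries.coeff_trunc, if_pos (by omega), if_pos (by omega)]
  have e : f * g - aeval t (PowerSeries.trunc N (p * q)) =
      (f - aeval t (PowerSeries.trunc N p)) * g +
        aeval t (PowerSeries.trunc N p) * (g - aeval t (PowerSeries.trunc N q)) +
        aeval t (PowerSeries.trunc N p * PowerSeries.trunc N q - PowerSeries.trunc N (p * q)) := by
    rw [map_sub (aeval (R := k) t), map_mul (aeval (R := k) t)]; ring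
  rw [e]
  refine (P.1.map_add _ _).trans (max_le ((P.1.map_add _ _).trans (max_le ?_ ?_)) (val_aeval_of_dvd ht hd))
  · rw [map_mul]; exact (mul_le_mul' (hp N) hq.val_le).trans_eq (mul_one _)
  · rw [map_mul]; exact (mul_le_mul' (val_aeval_le P (val_t_le ht) _) (hq N)).trans_eq (one_mul _)

theorem IsExp.add {P : Place k K} {t f g : K} {p q : PowerSeries k}
    (hp : IsExp P t f p) (hq : IsExp P t g q) : IsExp P t (f + g) (p + q) := by
  intro N
  rw [map_add, map_add, show f + g - (aeval t (PowerSeries.trunc N p) + aeval t (PowerSeries.trunc N q)) =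
    (f - aeval t (PowerSeries.trunc N p)) + (g - aeval t (PowerSeries.trunc N q)) by ring]
  exact (P.1.map_add _ _).trans (max_le (hp N) (hq N))

theorem isExp_poly {P : Place k K} {t : K} (ht : P.1 t = exp (-1)) (q : k[X]) :
    IsExp P t (aeval t q) (q : PowerSeries k) := by
  intro N
  rw [← map_sub]
  refine val_aeval_of_dvd ht ?_
  rw [Polynomial.X_pow_dvd_iff]
  intro d hd
  rw [Polynomial.coeff_sub, PowerSeries.coeff_trunc, if_pos hd, Polynomial.coeff_coe, sub_self]

theorem IsExp.unique {P : Place k K} {t f : K} {p q : PowerSeries k} (ht : P.1 t = exp (-1))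
    (hp : IsExp P t f p) (hq : IsExp P t f q) : p = q := by
  ext n
  induction n using Nat.strong_induction_on with
  | h n ih =>
    by_contra hne
    have hd : PowerSeries.trunc (n + 1) q - PowerSeries.trunc (n + 1) p =
        Polynomial.monomial n (PowerSeries.coeff n q - PowerSeries.coeff n p) := by
      ext m
      rw [Polynomial.coeff_sub, PowerSeries.coeff_trunc, PowerSeries.coeff_trunc, Polynomial.coeff_monomial]
      rcases lt_trichotomy m n with h | rfl | h
      · rw [if_pos (by omega), if_pos (by omega), if_neg (by omega), ih m h, sub_self]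
      · simp
      · rw [if_neg (by omega), if_neg (by omega), if_neg (by omega), sub_self]
    have h1 : P.1 (aeval t (PowerSeries.trunc (n + 1) q - PowerSeries.trunc (n + 1) p)) ≤ exp (-((n + 1 : ℕ) : ℤ)) := by
      rw [show aeval t (PowerSeries.trunc (n + 1) q - PowerSeries.trunc (n + 1) p) =
        (f - aeval t (PowerSeries.trunc (n + 1) p)) - (f - aeval t (PowerSeries.trunc (n + 1) q)) by rw [map_sub]; ring]
      exact (P.1.map_sub _ _).trans (max_le (hp _) (hq _))
    rw [hd, aeval_monomial, map_mul, val_const P (sub_ne_zero.2 (Ne.symm hne)), one_mul, val_pow ht, exp_le_exp] at h1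
    omega

theorem IsExp.eq_zero {P : Place k K} {t f : K} (h : IsExp P t f 0) : f = 0 := by
  by_contra hf
  have h' := h ((P.ord f).toNat + 1)
  rw [map_zero, map_zero, sub_zero, val_eq_exp_neg_ord P hf, exp_le_exp] at h'
  omega

variable [IsAlgClosed k]

theorem exists_isExp (h : FF k K) (P : Place k K) {t : K} (ht : P.1 t = exp (-1)) {f : K} (hf : P.1 f ≤ 1) :
    ∃ p, IsExp P t f p := by
  classical
  choose c hc using fun g : {g : K // P.1 g ≤ 1} => exists_const_near h P g.2
  have ht0 : t ≠ 0 := ne_zero_of_val ht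
  have step : ∀ g : {g : K // P.1 g ≤ 1}, P.1 ((g.1 - algebraMap k K (c g)) / t) ≤ 1 := by
    intro g
    rw [map_div₀, div_le_one₀ (by rw [ht]; exact exp_pos), ht]
    exact (lt_one_iff_le _).1 (hc g)
  let G : ℕ → {g : K // P.1 g ≤ 1} := fun n => n.rec ⟨f, hf⟩ fun _ g => ⟨_, step g⟩
  refine ⟨PowerSeries.mk fun n => c (G n), fun N => ?_⟩
  have e : f - aeval t (PowerSeries.trunc N (PowerSeries.mk fun n => c (G n))) = t ^ N * (G N).1 := by
    induction N with
    | zero => simp [G]
    | succ n ih =>
      rw [PowerSeries.trunc_succ, map_add, aeval_monomial, PowerSeries.coeff_mk, ← sub_sub, ih]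
      show _ = t ^ (n + 1) * (((G n).1 - algebraMap k K (c (G n))) / t)
      field_simp
      ring
  rw [e, map_mul, val_pow ht]
  exact (mul_le_mul' le_rfl (G N).2).trans_eq (mul_one _)

variable (P : Place k K) {t : K}

/-- The expansion homomorphism on the valuation ring. -/
noncomputable def expandO (h : FF k K) (ht : P.1 t = exp (-1)) : P.O →ₐ[k] PowerSeries k where
  toFun f := (exists_isExp h P ht f.2).choose
  map_one' := IsExp.unique ht (exists_isExp h P ht (1 : P.O).2).choose_spec
    (by simpa using isExp_poly ht (1 : k[X]))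
  map_mul' f g := IsExp.unique ht (exists_isExp h P ht (f * g).2).choose_spec
    ((exists_isExp h P ht f.2).choose_spec.mul ht (exists_isExp h P ht g.2).choose_spec)
  map_zero' := IsExp.unique ht (exists_isExp h P ht (0 : P.O).2).choose_spec
    (by simpa using isExp_poly ht (0 : k[X]))
  map_add' f g := IsExp.unique ht (exists_isExp h P ht (f + g).2).choose_spec
    ((exists_isExp h P ht f.2).choose_spec.add (exists_isExp h P ht g.2).choose_spec)
  commutes' c := IsExp.unique ht (exists_isExp h P ht (algebraMap k P.O c).2).choose_spec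
    (by simpa [PowerSeries.algebraMap_apply, coe_algebraMap_O] using isExp_poly ht (Polynomial.C c))

theorem isExp_expandO (h : FF k K) (ht : P.1 t = exp (-1)) (f : P.O) :
    IsExp P t f (expandO P h ht f) := (exists_isExp h P ht f.2).choose_spec

theorem expandO_injective (h : FF k K) (ht : P.1 t = exp (-1)) : Function.Injective (expandO P h ht) :=
  (injective_iff_map_eq_zero _).2 fun f hf => Subtype.ext (IsExp.eq_zero (hf ▸ isExp_expandO P h ht f))

theorem expandO_coe (h : FF k K) (ht : P.1 t = exp (-1)) :
    expandO P h ht ⟨t, val_t_le ht⟩ = PowerSeries.X :=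
  IsExp.unique ht (isExp_expandO P h ht _) (by simpa using isExp_poly ht (Polynomial.X : k[X]))

theorem constantCoeff_expandO_eq_zero_iff (h : FF k K) (ht : P.1 t = exp (-1)) (f : P.O) :
    PowerSeries.constantCoeff (expandO P h ht f) = 0 ↔ P.1 (f : K) < 1 := by
  have h1 := isExp_expandO P h ht f 1
  have e1 : aeval t (PowerSeries.trunc 1 (expandO P h ht f)) =
      algebraMap k K (PowerSeries.constantCoeff (expandO P h ht f)) := by
    rw [PowerSeries.trunc_succ, PowerSeries.trunc_zero', zero_add, aeval_monomial, pow_zero, mul_one,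
      PowerSeries.coeff_zero_eq_constantCoeff]
  rw [e1] at h1
  constructor
  · intro h0
    rw [h0, map_zero, sub_zero] at h1
    exact lt_of_le_of_lt h1 (by rw [← exp_zero, exp_lt_exp]; simp)
  · intro hlt
    by_contra hne
    have h2 := val_const P hne
    have := P.1.map_sub (f : K) ((f : K) - algebraMap k K (PowerSeries.constantCoeff (expandO P h ht f)))
    rw [sub_sub_cancel, h2] at this
    exact absurd this (not_le.2 (max_lt hlt (lt_of_le_of_lt h1 (by rw [← exp_zero, exp_lt_exp]; simp))))

/-- The inclusion of power series into Laurent series. -/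
noncomputable def coeHom : PowerSeries k →ₐ[k] LaurentSeries k :=
  { HahnSeries.ofPowerSeries ℤ k with
    commutes' := fun c => by
      show HahnSeries.ofPowerSeries ℤ k (algebraMap k (PowerSeries k) c) = _
      rw [PowerSeries.algebraMap_apply, HahnSeries.algebraMap_apply']
      simp }

omit [IsAlgClosed k] in
theorem coeHom_apply (p : PowerSeries k) : coeHom p = (p : LaurentSeries k) := rfl

instance isScalarTower_O (P : Place k K) : IsScalarTower k P.O K := IsScalarTower.of_algebraMap_eq' rfl

/-- The expansion of `K` into Laurent series in `t`. -/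
noncomputable def expand (h : FF k K) (ht : P.1 t = exp (-1)) : K →ₐ[k] LaurentSeries k :=
  IsFractionRing.liftAlgHom (A := P.O) (K := K) (g := coeHom.comp (expandO P h ht))
    (fun _ _ hab => expandO_injective P h ht (HahnSeries.ofPowerSeries_injective hab))

theorem expand_coe (h : FF k K) (ht : P.1 t = exp (-1)) (f : P.O) :
    expand P h ht (f : K) = (expandO P h ht f : LaurentSeries k) := by
  rw [show (f : K) = algebraMap P.O K f from rfl, expand, IsFractionRing.liftAlgHom_apply,
    IsFractionRing.lift_algebraMap]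
  rfl

theorem expand_t (h : FF k K) (ht : P.1 t = exp (-1)) :
    expand P h ht t = HahnSeries.single 1 1 := by
  have := expand_coe P h ht ⟨t, val_t_le ht⟩
  rw [expandO_coe, PowerSeries.coe_X] at this
  exact this

theorem valued_expand (h : FF k K) (ht : P.1 t = exp (-1)) (f : K) :
    Valued.v (expand P h ht f) = P.1 f := by
  rcases eq_or_ne f 0 with rfl | hf
  · simp
  have hu : P.1 (f * t ^ (-P.ord f)) = 1 := by
    rw [map_mul, map_zpow₀, ht, val_eq_exp_neg_ord P hf, ← exp_zsmul, ← exp_add, ← exp_zero]
    congr 1; simp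
  have ht0 : t ≠ 0 := ne_zero_of_val ht
  let u : P.O := ⟨f * t ^ (-P.ord f), hu.le⟩
  have hcu : PowerSeries.constantCoeff (expandO P h ht u) ≠ 0 := fun h0 => by
    have := (constantCoeff_expandO_eq_zero_iff P h ht u).1 h0
    exact absurd hu this.ne
  have hvu : Valued.v (expandO P h ht u : LaurentSeries k) = 1 := by
    refine le_antisymm ((LaurentSeries.val_le_one_iff_eq_coe k _).2 ⟨_, rfl⟩) ?_
    by_contra hlt
    rw [not_le] at hlt
    have h' : Valued.v (expandO P h ht u : LaurentSeries k) ≤ exp (-1 : ℤ) := (lt_one_iff_le _).1 hlt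
    have := (LaurentSeries.valuation_le_iff_coeff_lt_eq_zero k).1 h' 0 one_pos
    rw [PowerSeries.coeff_coe, if_neg (lt_irrefl 0)] at this
    exact hcu (by simpa using this)
  have e : f = (u : K) * t ^ P.ord f := by
    show f = f * t ^ (-P.ord f) * t ^ P.ord f
    rw [mul_assoc, ← zpow_add₀ ht0]; simp
  conv_lhs => rw [e]
  rw [map_mul, map_zpow₀, expand_coe, expand_t, map_mul, hvu, map_zpow₀, one_mul,
    show Valued.v (HahnSeries.single (1 : ℤ) (1 : k) : LaurentSeries k) = exp (-1 : ℤ) by
      simpa using LaurentSeries.valuation_single_zpow k 1,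
    ← exp_zsmul, val_eq_exp_neg_ord P hf]
  simp

end Groth.Agent.Wronskian26
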