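import Groth.Agent.Lib.Wronskian26.Points
import Groth.Agent.Lib.FunField.Clifford
import Groth.Agent.Lib.FunField.Genus

/-! # The canonical map and gaps -/

namespace Groth.Agent.Wronskian26

open FunFld FunField

variable {k K : Type*} [Field k] [Field K] [Algebra k K] [IsAlgClosed k] {n : ℕ}
  (hK : IsFunctionField k K) {C : Divisor k K} (hC : IsCanonical k K C)
  {φ : Fin (n + 1) → K} (hφ : LinearIndependent k φ) (hspan : Submodule.span k (Set.range φ) = FunFld.L C)

omit [IsAlgClosed k] in
include hK in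
theorem span_smul_eq {y : K} (hy : y ≠ 0) (hspan : Submodule.span k (Set.range φ) = FunFld.L C) :
    Submodule.span k (Set.range (y • φ)) = FunFld.L (C - FunFld.div k y) := by
  have h := ff hK
  rw [show Set.range (y • φ) = LinearMap.mulLeft k y '' Set.range φ by
    rw [← Set.range_comp]; rfl, Submodule.span_image, hspan]
  ext z
  simp only [Submodule.mem_map, LinearMap.mulLeft_apply]
  constructor
  · rintro ⟨w, hw, rfl⟩
    rw [mul_mem_L h _ hy, sub_add_cancel]
    exact hw
  · intro hz
    refine ⟨y⁻¹ * z, ?_, mul_inv_cancel_left₀ hy z⟩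
    rw [mul_mem_L h C (inv_ne_zero hy), div_inv h, ← sub_eq_add_neg]
    exact hz

omit [IsAlgClosed k] in
include hK in
theorem isCanonical_sub_div (hC : IsCanonical k K C) {y : K} (hy : y ≠ 0) :
    IsCanonical k K (C - FunFld.div k y) := by
  rw [sub_eq_add_neg, ← div_inv (ff hK)]
  exact isCanonical_add_div hK hC (inv_ne_zero hy)

omit [IsAlgClosed k] in
include hK hC hφ hspan in
theorem genus_eq_succ : genus k K = n + 1 := by
  rw [← (isCanonical_deg hK hC).1, ell, ← hspan, finrank_span_eq_card hφ, Fintype.card_fin]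

omit [IsAlgClosed k] in
include hK hC in
theorem ell_canonical_sub (D : Divisor k K) :
    (ell (C - D) : ℤ) = ell D - D.deg - 1 + genus k K := by
  have := riemann_roch hK hC D
  omega

omit hφ hspan in
include hK hC in
theorem exists_val_eq_canonical (hg : 0 < genus k K) (Q : Place k K) :
    ∃ f ∈ FunFld.L C, Q.1 f = WithZero.exp (C Q) := by
  have h := ff hK
  have h1 := ell_canonical_sub hK hC (Finsupp.single Q 1)
  rw [ell_single_one hK hg (deg_eq_one h Q), deg_single, deg_eq_one h] at h1
  haveI := finiteDimensional_L h C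
  haveI := finiteDimensional_L h (C - Finsupp.single Q 1)
  have hlt : FunFld.L (C - Finsupp.single Q 1) < FunFld.L C := by
    refine lt_of_le_of_ne (L_mono (by simp)) fun e => ?_
    have h2 := (isCanonical_deg hK hC).1
    rw [ell, e] at h1
    rw [ell] at h2
    omega
  obtain ⟨f, hf, hf'⟩ := SetLike.exists_of_lt hlt
  exact ⟨f, hf, eq_exp_of_notMem_sub hf hf'⟩

include hK hC hφ hspan in
theorem mapDiv_canonical : mapDiv k φ = C :=
  gen_unique (gen_mapDiv (ff hK) hφ.ne_zero)
    ⟨hspan.le, fun Q => by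
      obtain ⟨f, hf, hv⟩ := exists_val_eq_canonical hK hC (by rw [genus_eq_succ hK hC hφ hspan]; omega) Q
      exact ⟨f, hspan ▸ hf, hv⟩⟩

include hK hC hφ hspan in
theorem apply_eq_zero_of_normalized {P : Place k K} (heff : (1 : K) ∈ Submodule.span k (Set.range φ))
    (hnorm : ∀ i, P.1 (φ i) ≤ 1) : C P = 0 := by
  rw [← mapDiv_canonical hK hC hφ hspan]
  exact mapDiv_eq_zero_of_normalized (ff hK) heff hnorm

include hK hC in
/-- Orders of canonical functions and gaps. -/
theorem exists_order_iff_gap {P : Place k K} (hCP : C P = 0) {j : ℕ} :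
    (∃ f ∈ FunFld.L C, P.1 f = WithZero.exp (-(j : ℤ))) ↔ IsGap P (j + 1) := by
  have h := ff hK
  have hstep := ell_step hK (deg_eq_one h P) j
  have e1 := ell_canonical_sub hK hC (Finsupp.single P (j : ℤ))
  have e2 := ell_canonical_sub hK hC (Finsupp.single P ((j : ℤ) + 1))
  rw [deg_single, deg_eq_one h] at e1 e2
  haveI := finiteDimensional_L h (C - Finsupp.single P (j : ℤ))
  haveI := finiteDimensional_L h (C - Finsupp.single P ((j : ℤ) + 1))
  have hle : C - Finsupp.single P ((j : ℤ) + 1) ≤ C - Finsupp.single P (j : ℤ) := by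
    rw [sub_le_sub_iff_left]
    exact single_le_single P (by omega)
  constructor
  · rintro ⟨f, hf, hv⟩
    by_contra hng
    have heq : FunFld.L (C - Finsupp.single P ((j : ℤ) + 1)) = FunFld.L (C - Finsupp.single P (j : ℤ)) := by
      refine Submodule.eq_of_le_of_finrank_eq (L_mono hle) ?_
      have := hstep.2 hng
      rw [ell] at e1 e2
      omega
    have hmem : f ∈ FunFld.L (C - Finsupp.single P (j : ℤ)) := by
      intro Q
      rcases eq_or_ne Q P with rfl | hne
      · rw [hv, Finsupp.sub_apply, Finsupp.single_eq_same, hCP, zero_sub]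
      · rw [Finsupp.sub_apply, Finsupp.single_eq_of_ne hne, sub_zero]; exact hf Q
    rw [← heq] at hmem
    have := hmem P
    rw [hv, Finsupp.sub_apply, Finsupp.single_eq_same, hCP, WithZero.exp_le_exp] at this
    omega
  · intro hg
    have hlt : FunFld.L (C - Finsupp.single P ((j : ℤ) + 1)) < FunFld.L (C - Finsupp.single P (j : ℤ)) := by
      refine lt_of_le_of_ne (L_mono hle) fun e => ?_
      have := hstep.1 hg
      rw [ell] at e1 e2
      rw [e] at e2
      omega
    obtain ⟨f, hf, hf'⟩ := SetLike.exists_of_lt hlt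
    have hfC : f ∈ FunFld.L C := L_mono (by
      intro Q
      rcases eq_or_ne Q P with rfl | hne
      · rw [Finsupp.sub_apply, Finsupp.single_eq_same]; omega
      · rw [Finsupp.sub_apply, Finsupp.single_eq_of_ne hne, sub_zero]) hf
    refine ⟨f, hfC, ?_⟩
    have := eq_exp_of_notMem_sub hf (Q := P) (by
      rwa [sub_sub, ← Finsupp.single_add])
    rwa [Finsupp.sub_apply, Finsupp.single_eq_same, hCP, zero_sub] at this

include hK hC hφ hspan in
theorem range_orders_iff_gap {y : K} (hy : y ≠ 0) {P : Place k K}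
    (heff : (1 : K) ∈ Submodule.span k (Set.range (y • φ))) (hnorm : ∀ i, P.1 ((y • φ) i) ≤ 1)
    {t : K} (ht : P.1 t = WithZero.exp (-1)) {J : Fin n → ℕ}
    (hJ : IsOrders k (ecol (expTuple (ff hK) P ht (y • φ) hnorm)) J) {j : ℕ} (hj : 1 ≤ j) :
    j ∈ Set.range J ↔ IsGap P (j + 1) := by
  have hspan' := span_smul_eq hK hy hspan
  have hC' := isCanonical_sub_div hK hC hy
  have hCP := apply_eq_zero_of_normalized hK hC'
    (hφ.map' (LinearMap.mulLeft k y) (LinearMap.ker_eq_bot.2 (mul_right_injective₀ hy))) hspan' heff hnorm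
  rw [← exists_order_iff_gap hK hC' hCP, ← hspan',
    ← mem_range_iff_exists_order (ff hK) P ht _ hnorm heff hJ j]
  exact ⟨Or.inr, fun hh => hh.resolve_left (by omega)⟩

end Groth.Agent.Wronskian26
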