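import Groth.Agent.Lib.Wronskian26.Local
import Mathlib.RingTheory.PowerSeries.Substitution
import Mathlib.Algebra.Polynomial.Coeff

/-! # Orders of projective maps -/

namespace Groth.Agent.Wronskian26

open FunFld FunField

variable {k K : Type*} [Field k] [Field K] [Algebra k K] {n : ℕ}

theorem span_eq_top_of_dot {R : Type*} [Field R] {m : ℕ} (c : ℕ → Fin m → R)
    (h : ∀ a : Fin m → R, (∀ j, ∑ i, a i * c j i = 0) → a = 0) : Submodule.span R (Set.range c) = ⊤ := by
  by_contra hne
  obtain ⟨v, hv⟩ : ∃ v, v ∉ Submodule.span R (Set.range c) :=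
    not_forall.1 fun hh => hne (eq_top_iff.2 fun x _ => hh x)
  obtain ⟨f, hf, hf0⟩ := Submodule.exists_dual_map_eq_bot_of_notMem hv inferInstance
  have e : ∀ w : Fin m → R, ∑ i, f (Pi.single i 1) * w i = f w := by
    intro w
    conv_rhs => rw [← Finset.univ_sum_single w]
    rw [map_sum]
    refine Finset.sum_congr rfl fun i _ => ?_
    rw [show Pi.single i (w i) = w i • Pi.single i (1 : R) by rw [← Pi.single_smul, smul_eq_mul, mul_one],
      map_smul, smul_eq_mul, mul_comm]
  have := h (fun i => f (Pi.single i 1)) fun j => by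
    rw [e]
    have : f (c j) ∈ Submodule.map f (Submodule.span R (Set.range c)) := ⟨_, Submodule.subset_span ⟨j, rfl⟩, rfl⟩
    rw [hf0] at this
    exact (Submodule.mem_bot R).1 this
  refine hf ?_
  rw [← e]
  simp [funext_iff] at this
  simp [this]

theorem det_binom_self {k : Type*} [CommRing k] (J : Fin n → ℕ) (hJ : StrictMono J) :
    (binomMat k J J).det = 1 := by
  rw [Matrix.det_of_isLowerTriangular]
  · simp [binomMat]
  · intro r s hrs
    have hrs' : r < s := OrderDual.toDual_lt_toDual.1 hrs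
    simp [binomMat, Nat.choose_eq_zero_of_lt (hJ hrs')]

/-- A choice of columns with nonzero minor of binomial coefficients. -/
theorem exists_binom_minor {k : Type*} [Field k] {m : ℕ} (a : Fin (m + 1) → ℕ) (ha : StrictMono a) {N : ℕ}
    (hN : a (Fin.last m) ≤ a 0 + N) :
    ∃ I : Fin (m + 1) → ℕ, StrictMono I ∧ (∀ s, I s ≤ N) ∧ (binomMat k a I).det ≠ 0 := by
  classical
  let c : ℕ → Fin (m + 1) → k := fun i r => if i ≤ N then (((a r).choose i : ℕ) : k) else 0
  have hspan : Submodule.span k (Set.range c) = ⊤ := by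
    refine span_eq_top_of_dot c fun b hb => ?_
    let p : Polynomial k := ∑ r, b r • (1 + Polynomial.X) ^ a r
    let Q : Polynomial k := ∑ r, Polynomial.monomial (a r - a 0) (b r)
    have hp : p = (1 + Polynomial.X) ^ a 0 * Q.comp (1 + Polynomial.X) := by
      simp only [p, Q, Polynomial.comp, Polynomial.eval₂_finsetSum, Polynomial.eval₂_monomial, Finset.mul_sum]
      refine Finset.sum_congr rfl fun r _ => ?_
      rw [Polynomial.smul_eq_C_mul, mul_left_comm, ← pow_add, Nat.add_sub_cancel' (ha.monotone (Fin.zero_le r))]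
    have hdvd : Polynomial.X ^ (N + 1) ∣ p := by
      rw [Polynomial.X_pow_dvd_iff]
      intro i hi
      have := hb i
      simp only [c, if_pos (show i ≤ N by omega)] at this
      simpa [p, Polynomial.finsetSum_coeff, Polynomial.coeff_one_add_X_pow] using this
    have hQ : Polynomial.X ^ (N + 1) ∣ Q.comp (1 + Polynomial.X) := by
      rw [hp] at hdvd
      refine Prime.pow_dvd_of_dvd_mul_left Polynomial.prime_X _ (fun h => ?_) hdvd
      rw [Polynomial.X_dvd_iff, Polynomial.coeff_zero_eq_eval_zero, Polynomial.eval_pow] at h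
      simp at h
    have hQ0 : Q = 0 := by
      by_contra hne
      have hdeg : (Q.comp (1 + Polynomial.X)).natDegree ≤ N := by
        refine (Polynomial.natDegree_comp_le).trans ?_
        have h1 : (1 + Polynomial.X : Polynomial k).natDegree = 1 := by
          rw [add_comm, ← Polynomial.C_1, Polynomial.natDegree_X_add_C]
        rw [h1, mul_one]
        refine Polynomial.natDegree_sum_le_of_forall_le _ _ fun r _ => (Polynomial.natDegree_monomial_le _).trans ?_
        have := ha.monotone (Fin.le_last r)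
        omega
      have hne' : Q.comp (1 + Polynomial.X) ≠ 0 := by
        intro h0
        rcases Polynomial.comp_eq_zero_iff.1 h0 with h | ⟨-, h⟩
        · exact hne h
        · have := congrArg Polynomial.natDegree h
          rw [add_comm, ← Polynomial.C_1, Polynomial.natDegree_X_add_C, Polynomial.natDegree_C] at this
          exact one_ne_zero this
      have := Polynomial.natDegree_le_of_dvd hQ hne'
      rw [Polynomial.natDegree_X_pow] at this
      omega
    funext r
    have := congrArg (fun q => Polynomial.coeff q (a r - a 0)) hQ0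
    simp only [Q, Polynomial.finsetSum_coeff, Polynomial.coeff_monomial, Polynomial.coeff_zero] at this
    rw [Finset.sum_eq_single r (fun b _ hbr => if_neg fun e => hbr (ha.injective (by
      have := ha.monotone (Fin.zero_le b); have := ha.monotone (Fin.zero_le r); omega))) (by simp), if_pos rfl] at this
    exact this
  have h0 : c 0 ≠ 0 := fun h => by simpa [c] using congrFun h 0
  obtain ⟨J, hJ⟩ := exists_isOrders (n := m) c (Module.finrank_fin_fun k) hspan h0
  refine ⟨full J, full_strictMono hJ.1, fun s => ?_, ?_⟩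
  · by_contra hs
    refine isJump_full c hJ h0 s ?_
    simp only [c, if_neg hs]
    exact zero_mem _
  · have hli := (linearIndependent_iff_det c J).1 (linearIndependent_full c hJ h0)
    convert hli using 2
    ext r s
    have hs : full J s ≤ N := by
      by_contra hs
      refine isJump_full c hJ h0 s ?_
      simp only [c, if_neg hs]
      exact zero_mem _
    simp [binomMat, colMat, c, hs]

theorem hasseD_mul (H : K →ₐ[k] PowerSeries K) (j : ℕ) (a b : K) :
    LocRes.hasseD H j (a * b) =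
      ∑ x ∈ Finset.HasAntidiagonal.antidiagonal j, LocRes.hasseD H x.1 a * LocRes.hasseD H x.2 b := by
  simp [LocRes.hasseD_apply, map_mul, PowerSeries.coeff_mul]

theorem hasseD_zero {H : K →ₐ[k] PowerSeries K} (hH : ∀ y, PowerSeries.constantCoeff (H y) = y) (y : K) :
    LocRes.hasseD H 0 y = y := by simp [hH]

theorem hcol_one (τ : K →ₐ[k] K) {H : K →ₐ[k] PowerSeries K} (hH : ∀ y, PowerSeries.constantCoeff (H y) = y)
    (φ : Fin (n + 1) → K) : hcol τ H φ 1 = φ := funext fun i => hasseD_zero hH _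

theorem hcol_smul_sub (τ : K →ₐ[k] K) {H : K →ₐ[k] PowerSeries K} (hH : ∀ y, PowerSeries.constantCoeff (H y) = y)
    (φ : Fin (n + 1) → K) (y : K) (m : ℕ) :
    hcol τ H (y • φ) m - (if m = 0 then τ y else y) • hcol τ H φ m ∈ sp (R := K) (hcol τ H φ) m := by
  classical
  rcases m with _ | j
  · rw [show hcol τ H (y • φ) 0 = τ y • hcol τ H φ 0 by ext i; simp [hcol], if_pos rfl, sub_self]
    exact zero_mem _
  · have e : hcol τ H (y • φ) (j + 1) - y • hcol τ H φ (j + 1) =
        ∑ x ∈ (Finset.HasAntidiagonal.antidiagonal j).erase (0, j), LocRes.hasseD H x.1 y • hcol τ H φ (x.2 + 1) := by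
      ext i
      simp only [Pi.sub_apply, Pi.smul_apply, smul_eq_mul, Finset.sum_apply, hcol]
      rw [hasseD_mul, ← Finset.add_sum_erase _ _ (show (0, j) ∈ Finset.HasAntidiagonal.antidiagonal j by simp), hasseD_zero hH,
        add_sub_cancel_left]
    rw [if_neg (Nat.succ_ne_zero j), e]
    refine Submodule.sum_mem _ fun x hx => Submodule.smul_mem _ _ (mem_sp _ ?_)
    obtain ⟨hne, hx⟩ := Finset.mem_erase.1 hx
    have hx : x.1 + x.2 = j := by simpa using hx
    have : x.1 ≠ 0 := fun h0 => hne (Prod.ext h0 (by simp only; omega))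
    omega

theorem sp_hcol_smul_le (τ : K →ₐ[k] K) {H : K →ₐ[k] PowerSeries K} (hH : ∀ y, PowerSeries.constantCoeff (H y) = y)
    (φ : Fin (n + 1) → K) (y : K) (N : ℕ) : sp (R := K) (hcol τ H (y • φ)) N ≤ sp (R := K) (hcol τ H φ) N := by
  rw [sp, Submodule.span_le]
  rintro _ ⟨m, hm, rfl⟩
  rw [SetLike.mem_coe, ← sub_add_cancel (hcol τ H (y • φ) m) ((if m = 0 then τ y else y) • hcol τ H φ m)]
  exact add_mem (sp_mono _ (le_of_lt hm) (hcol_smul_sub τ hH φ y m)) (Submodule.smul_mem _ _ (mem_sp _ hm))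

theorem sp_hcol_smul (τ : K →ₐ[k] K) {H : K →ₐ[k] PowerSeries K} (hH : ∀ y, PowerSeries.constantCoeff (H y) = y)
    (φ : Fin (n + 1) → K) {y : K} (hy : y ≠ 0) (N : ℕ) :
    sp (R := K) (hcol τ H (y • φ)) N = sp (R := K) (hcol τ H φ) N :=
  le_antisymm (sp_hcol_smul_le τ hH φ y N) (by
    have := sp_hcol_smul_le τ hH (y • φ) y⁻¹ N
    rwa [inv_smul_smul₀ hy] at this)

theorem isOrders_smul (τ : K →ₐ[k] K) {H : K →ₐ[k] PowerSeries K} (hH : ∀ y, PowerSeries.constantCoeff (H y) = y)
    (φ : Fin (n + 1) → K) {y : K} (hy : y ≠ 0) (J : Fin n → ℕ) :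
    IsOrders K (hcol τ H (y • φ)) J ↔ IsOrders K (hcol τ H φ) J :=
  isOrders_congr _ fun _ => isJump_eq_of_sp _ (sp_hcol_smul τ hH φ hy) _

theorem isOrders_linear (τ : K →ₐ[k] K) (H : K →ₐ[k] PowerSeries K) {φ φ' : Fin (n + 1) → K}
    (A : Matrix (Fin (n + 1)) (Fin (n + 1)) k) (hdet : A.det ≠ 0) (hA : ∀ i, φ' i = ∑ j, A i j • φ j)
    (J : Fin n → ℕ) : IsOrders K (hcol τ H φ') J ↔ IsOrders K (hcol τ H φ) J :=
  isOrders_congr _ fun _ => isJump_linear τ H A hdet hA _

theorem hcol_zero_ne (τ : K →ₐ[k] K) (H : K →ₐ[k] PowerSeries K) {φ : Fin (n + 1) → K}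
    (hφ : LinearIndependent k φ) : hcol τ H φ 0 ≠ 0 := fun h0 =>
  hφ.ne_zero 0 (τ.toRingHom.injective ((congrFun h0 0).trans (map_zero τ).symm))

variable [IsAlgClosed k] (hK : FF k K)

include hK in
/-- Change of the variable of Hasse derivatives. -/
theorem hasse_change {s t : K} {Hs Ht : K →ₐ[k] PowerSeries K} (hs' : LocRes.IsHasseFamily s Hs)
    (ht' : LocRes.IsHasseFamily t Ht) (τ : K →ₐ[k] K) (φ : Fin (n + 1) → K) (m : ℕ) :
    hcol τ Ht φ m - (LocRes.hasseD Ht 1 s ^ (m - 1)) • hcol τ Hs φ m ∈ sp (R := K) (hcol τ Hs φ) m := by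
  classical
  rcases m with _ | j
  · simp [hcol]
  let S : PowerSeries K := Ht s - PowerSeries.C s
  have hS0 : PowerSeries.constantCoeff S = 0 := by simp [S, ht'.2]
  have hsub : PowerSeries.HasSubst S := PowerSeries.HasSubst.of_constantCoeff_zero' hS0
  have hcc : ∀ f : PowerSeries K, PowerSeries.constantCoeff (PowerSeries.substAlgHom hsub f) =
      PowerSeries.constantCoeff f := by
    intro f
    rw [← PowerSeries.coeff_zero_eq_constantCoeff_apply, PowerSeries.coe_substAlgHom, PowerSeries.coeff_subst' hsub,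
      finsum_eq_single _ 0 (fun d hd => by
        rw [PowerSeries.coeff_zero_eq_constantCoeff_apply, map_pow, hS0, zero_pow hd, smul_zero])]
    simp
  have hG : Ht.toRingHom = (PowerSeries.substAlgHom hsub).toRingHom.comp Hs.toRingHom := by
    refine (sep_of_hasse hK hs').hom_ext (AlgHom.id k K) _ _ (fun y => ht'.2 y) (fun y => ?_) (fun c => ?_) ?_
    · show PowerSeries.constantCoeff (PowerSeries.substAlgHom hsub (Hs y)) = y
      rw [hcc, hs'.2]
    · show Ht (algebraMap k K c) = PowerSeries.substAlgHom hsub (Hs (algebraMap k K c))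
      rw [AlgHom.commutes, AlgHom.commutes, PowerSeries.algebraMap_apply,
        show PowerSeries.C (algebraMap k K c) = algebraMap K (PowerSeries K) (algebraMap k K c) from rfl,
        AlgHom.commutes]
    · show Ht s = PowerSeries.substAlgHom hsub (Hs s)
      rw [hs'.1, map_add, show (PowerSeries.C s : PowerSeries K) = algebraMap K (PowerSeries K) s from rfl,
        AlgHom.commutes, PowerSeries.substAlgHom_X]
      simp [S, show algebraMap K (PowerSeries K) s = PowerSeries.C s from rfl]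
  have hzero : ∀ d, j < d → PowerSeries.coeff j (S ^ d) = 0 := fun d hd =>
    PowerSeries.X_pow_dvd_iff.1 (pow_dvd_pow_of_dvd (PowerSeries.X_dvd_iff.2 hS0) d) j hd
  have hdiag : ∀ m, PowerSeries.coeff m (S ^ m) = LocRes.hasseD Ht 1 s ^ m := by
    intro m
    obtain ⟨U, hU⟩ := PowerSeries.X_dvd_iff.2 hS0
    have h1 : PowerSeries.constantCoeff U = LocRes.hasseD Ht 1 s := by
      have := congrArg (PowerSeries.coeff 1) hU
      rw [PowerSeries.coeff_succ_X_mul, PowerSeries.coeff_zero_eq_constantCoeff_apply] at this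
      rw [← this]; simp [S]
    rw [hU, mul_pow, PowerSeries.coeff_X_pow_mul', if_pos le_rfl, Nat.sub_self,
      PowerSeries.coeff_zero_eq_constantCoeff_apply, map_pow, h1]
  have hexp : ∀ y, LocRes.hasseD Ht j y = ∑ d ∈ Finset.range (j + 1), LocRes.hasseD Hs d y * PowerSeries.coeff j (S ^ d) := by
    intro y
    have h1 : Ht y = PowerSeries.substAlgHom hsub (Hs y) := RingHom.congr_fun hG y
    rw [LocRes.hasseD_apply, h1, PowerSeries.coe_substAlgHom, PowerSeries.coeff_subst' hsub,
      finsum_eq_sum_of_support_subset _ (s := Finset.range (j + 1)) ?_]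
    · simp [smul_eq_mul]
    · intro d hd
      simp only [Function.mem_support] at hd
      simp only [Finset.coe_range, Set.mem_Iio]
      by_contra hlt
      exact hd (by rw [hzero d (by omega), smul_zero])
  have e : hcol τ Ht φ (j + 1) - LocRes.hasseD Ht 1 s ^ j • hcol τ Hs φ (j + 1) =
      ∑ d ∈ Finset.range j, PowerSeries.coeff j (S ^ d) • hcol τ Hs φ (d + 1) := by
    ext i
    simp only [Pi.sub_apply, Pi.smul_apply, smul_eq_mul, Finset.sum_apply, hcol]
    rw [hexp, Finset.sum_range_succ, hdiag, mul_comm (LocRes.hasseD Hs j (φ i)), add_sub_cancel_right]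
    exact Finset.sum_congr rfl fun d _ => mul_comm _ _
  rw [Nat.add_sub_cancel, e]
  exact Submodule.sum_mem _ fun d hd => Submodule.smul_mem _ _ (mem_sp _ (by simpa using hd))

include hK in
theorem sp_hcol_change {s t : K} {Hs Ht : K →ₐ[k] PowerSeries K} (hs' : LocRes.IsHasseFamily s Hs)
    (ht' : LocRes.IsHasseFamily t Ht) (τ : K →ₐ[k] K) (φ : Fin (n + 1) → K) (N : ℕ) :
    sp (R := K) (hcol τ Ht φ) N = sp (R := K) (hcol τ Hs φ) N := by
  suffices ∀ (u v : K) (Hu Hv : K →ₐ[k] PowerSeries K), LocRes.IsHasseFamily u Hu → LocRes.IsHasseFamily v Hv →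
      sp (R := K) (hcol τ Hv φ) N ≤ sp (R := K) (hcol τ Hu φ) N from
    le_antisymm (this s t Hs Ht hs' ht') (this t s Ht Hs ht' hs')
  intro u v Hu Hv hu hv
  rw [sp, Submodule.span_le]
  rintro _ ⟨m, hm, rfl⟩
  rw [SetLike.mem_coe, ← sub_add_cancel (hcol τ Hv φ m) ((LocRes.hasseD Hv 1 u ^ (m - 1)) • hcol τ Hu φ m)]
  exact add_mem (sp_mono _ (le_of_lt hm) (hasse_change hK hu hv τ φ m)) (Submodule.smul_mem _ _ (mem_sp _ hm))

section AtPlace

variable (P : Place k K) {t : K} (ht : P.1 t = WithZero.exp (-1)) {Ht : K →ₐ[k] PowerSeries K}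
  (hHt : LocRes.IsHasseFamily t Ht) (φ : Fin (n + 1) → K) (hnorm : ∀ i, P.1 (φ i) ≤ 1)

include hK ht hHt in
/-- The order of a Wronskian at a fixed point. -/
theorem val_det_wrMat (τ : K →ₐ[k] K) (hP : IsFixedPt τ P) (heff : (1 : K) ∈ Submodule.span k (Set.range φ))
    {J : Fin n → ℕ} (hJ : IsOrders k (ecol (expTuple hK P ht φ hnorm)) J) (I : Fin n → ℕ) :
    P.1 (wrMat τ Ht φ I).det ≤ WithZero.exp (-(∑ l, ((J l : ℤ) - I l))) ∧
    (((∀ l, 0 < I l) ∨ IsStrongFixedPt τ P) →
      (P.1 (wrMat τ Ht φ I).det = WithZero.exp (-(∑ l, ((J l : ℤ) - I l))) ↔ (binomMat k J I).det ≠ 0)) := by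
  obtain ⟨A, hA, hA0, e, he, hlow, hone⟩ := exists_adapted hK P ht φ hnorm heff hJ
  let g : Fin (n + 1) → K := fun i => ∑ j, A i j • φ j
  obtain ⟨b, hb, hbc⟩ := expand_det_wrMat hK P ht hHt τ hP g hA0 e J (one_le_orders hK P ht φ hnorm hJ) he hlow hone I
  have hd : (wrMat τ Ht g I).det = algebraMap k K A.det * (wrMat τ Ht φ I).det :=
    det_wrMat_linear τ Ht A (fun _ => rfl) I
  have hv : P.1 (wrMat τ Ht φ I).det = WithZero.exp (-(∑ l, ((J l : ℤ) - I l))) * Valued.v ((b : PowerSeries k) : LaurentSeries k) := by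
    have h := congrArg Valued.v hb
    rw [valued_expand, hd, map_mul, val_const P hA, one_mul, map_mul, LaurentSeries.valuation_single_zpow] at h
    exact h
  have hb1 : Valued.v ((b : PowerSeries k) : LaurentSeries k) ≤ 1 :=
    (LaurentSeries.val_le_one_iff_eq_coe k _).2 ⟨_, rfl⟩
  refine ⟨hv ▸ (mul_le_mul' le_rfl hb1).trans_eq (mul_one _), fun hcase => ?_⟩
  rw [hv, mul_eq_left₀ WithZero.exp_ne_zero, ← hbc hcase]
  constructor
  · intro h1 h0
    have hle : Valued.v ((b : PowerSeries k) : LaurentSeries k) ≤ WithZero.exp (-((1 : ℕ) : ℤ)) := by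
      rw [LaurentSeries.valuation_le_iff_coeff_lt_eq_zero]
      intro m hm
      rw [PowerSeries.coeff_coe]
      split_ifs with hneg
      · rfl
      · have : m.natAbs = 0 := by omega
        rw [this, PowerSeries.coeff_zero_eq_constantCoeff_apply, h0]
    rw [h1, ← WithZero.exp_zero, WithZero.exp_le_exp] at hle
    omega
  · intro h0
    refine le_antisymm hb1 (not_lt.1 fun hlt => h0 ?_)
    have := (LaurentSeries.valuation_le_iff_coeff_lt_eq_zero k).1 ((lt_one_iff_le _).1 hlt) 0 one_pos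
    rw [PowerSeries.coeff_coe, if_neg (lt_irrefl 0)] at this
    simpa [PowerSeries.coeff_zero_eq_constantCoeff_apply] using this

include hK ht hHt in
theorem span_hcol_id (hφ : LinearIndependent k φ) (heff : (1 : K) ∈ Submodule.span k (Set.range φ))
    (hnorm : ∀ i, P.1 (φ i) ≤ 1) : Submodule.span K (Set.range (hcol (AlgHom.id k K) Ht φ)) = ⊤ := by
  obtain ⟨J, hJ⟩ := exists_isOrders_at hK P ht φ hnorm hφ heff
  have hfix : IsFixedPt (AlgHom.id k K) P := fun z hz => hz
  have h := (val_det_wrMat hK P ht hHt φ hnorm (AlgHom.id k K) hfix heff hJ J).2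
    (Or.inl fun l => one_le_orders hK P ht φ hnorm hJ l)
  rw [det_binom_self J hJ.1] at h
  have hne : (wrMat (AlgHom.id k K) Ht φ J).det ≠ 0 := fun h0 => by
    have := h.2 one_ne_zero
    rw [h0, map_zero] at this
    exact WithZero.exp_ne_zero this.symm
  rw [wrMat_eq_colMat] at hne
  have hli := (linearIndependent_iff_det _ J).2 hne
  refine top_unique ?_
  rw [← hli.span_eq_top_of_card_eq_finrank (by simp)]
  exact Submodule.span_mono (Set.range_comp_subset_range (full J) (hcol (AlgHom.id k K) Ht φ))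

end AtPlace

include hK in
theorem exists_normalized {φ : Fin (n + 1) → K} (hφ : LinearIndependent k φ) (P : Place k K) :
    ∃ y : K, y ≠ 0 ∧ (1 : K) ∈ Submodule.span k (Set.range (y • φ)) ∧ ∀ i, P.1 ((y • φ) i) ≤ 1 := by
  obtain ⟨j, -, hj⟩ := Finset.exists_max_image Finset.univ (fun i => P.1 (φ i)) Finset.univ_nonempty
  have hne := hφ.ne_zero j
  refine ⟨(φ j)⁻¹, inv_ne_zero hne, Submodule.subset_span ⟨j, inv_mul_cancel₀ hne⟩, fun i => ?_⟩
  show P.1 ((φ j)⁻¹ * φ i) ≤ 1
  rw [map_mul, map_inv₀, inv_mul_le_one₀ (zero_lt_iff.2 ((Valuation.ne_zero_iff _).2 hne))]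
  exact hj i (Finset.mem_univ i)

include hK in
theorem span_hcol {φ : Fin (n + 1) → K} (hφ : LinearIndependent k φ) (τ : K →ₐ[k] K) {s : K}
    {H : K →ₐ[k] PowerSeries K} (hH : LocRes.IsHasseFamily s H) :
    Submodule.span K (Set.range (hcol τ H φ)) = ⊤ := by
  obtain ⟨P⟩ := nonempty_place hK
  obtain ⟨t, -, ht⟩ := exists_uniformizer P
  obtain ⟨Ht, hHt⟩ := exists_hasse hK (sep_uniformizer hK P ht)
  obtain ⟨y, hy, heff, hnorm⟩ := exists_normalized hK hφ P
  have hφ' : LinearIndependent k (y • φ) := by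
    exact hφ.map' (LinearMap.mulLeft k y) (LinearMap.ker_eq_bot.2 (mul_right_injective₀ hy))
  have key := span_hcol_id hK P ht hHt (y • φ) hφ' heff hnorm
  refine top_unique ?_
  rw [← key, Submodule.span_le]
  rintro _ ⟨m, rfl⟩
  have h1 : hcol (AlgHom.id k K) Ht (y • φ) m ∈ sp (R := K) (hcol (AlgHom.id k K) H φ) (m + 1) := by
    rw [← sp_hcol_change hK hH hHt, ← sp_hcol_smul (AlgHom.id k K) hHt.2 φ hy]
    exact mem_sp _ (Nat.lt_succ_self m)
  refine (Submodule.span_le.2 ?_ : sp (R := K) (hcol (AlgHom.id k K) H φ) (m + 1) ≤ _) h1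
  rintro _ ⟨i, -, rfl⟩
  rcases i with _ | i
  · refine Submodule.subset_span ⟨1, ?_⟩
    rw [hcol_one τ hH.2]
    rfl
  · exact Submodule.subset_span ⟨i + 1, rfl⟩

include hK in
theorem exists_orders {φ : Fin (n + 1) → K} (hφ : LinearIndependent k φ) (τ : K →ₐ[k] K) {s : K}
    {H : K →ₐ[k] PowerSeries K} (hH : LocRes.IsHasseFamily s H) : ∃ J : Fin n → ℕ, IsOrders K (hcol τ H φ) J :=
  exists_isOrders _ (Module.finrank_fin_fun K) (span_hcol hK hφ τ hH) (hcol_zero_ne τ H hφ)

theorem det_wrMat_ne_zero {φ : Fin (n + 1) → K} (hφ : LinearIndependent k φ) (τ : K →ₐ[k] K)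
    {H : K →ₐ[k] PowerSeries K} {J : Fin n → ℕ} (hJ : IsOrders K (hcol τ H φ) J) :
    (wrMat τ H φ J).det ≠ 0 := by
  rw [wrMat_eq_colMat]
  exact (linearIndependent_iff_det _ J).1 (linearIndependent_full _ hJ (hcol_zero_ne τ H hφ))

include hK in
/-- The orders at a strong fixed point bound the `τ`-orders. -/
theorem orders_add_le (P : Place k K) {t : K} (ht : P.1 t = WithZero.exp (-1)) {Ht : K →ₐ[k] PowerSeries K}
    (hHt : LocRes.IsHasseFamily t Ht) (τ : K →ₐ[k] K) (hP : IsStrongFixedPt τ P) (hn : 0 < n)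
    (φ : Fin (n + 1) → K) (heff : (1 : K) ∈ Submodule.span k (Set.range φ))
    (hnorm : ∀ i, P.1 (φ i) ≤ 1) {J : Fin n → ℕ} (hJ : IsOrders K (hcol τ Ht φ) J)
    {J' : Fin n → ℕ} (hJ' : IsOrders k (ecol (expTuple hK P ht φ hnorm)) J') (l : Fin n) :
    J l + J' ⟨0, hn⟩ ≤ J' l := by
  obtain ⟨A, hA, hA0, e, he, hlow, hone⟩ := exists_adapted hK P ht φ hnorm heff hJ'
  let g : Fin (n + 1) → K := fun i => ∑ j, A i j • φ j
  have hJg : IsOrders K (hcol τ Ht g) J := (isOrders_linear τ Ht A hA (fun _ => rfl) J).2 hJ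
  have h0 : J' ⟨0, hn⟩ ≤ J' l := hJ'.1.monotone (by simp [Fin.le_def])
  suffices J l ≤ J' l - J' ⟨0, hn⟩ by omega
  let ι : Fin (l.1 + 1) → Fin n := fun i => ⟨i, by omega⟩
  let a : Fin (l.1 + 1) → ℕ := fun i => J' (ι i)
  have ha : StrictMono a := fun i i' h => hJ'.1 (by simpa [ι] using h)
  have e0 : a 0 = J' ⟨0, hn⟩ := rfl
  have e1 : a (Fin.last l.1) = J' l := rfl
  obtain ⟨I, hI, hIN, hIdet⟩ := exists_binom_minor (k := k) a ha (N := J' l - J' ⟨0, hn⟩) (by rw [e0, e1]; omega)
  let κ : Fin (l.1 + 1 + 1) → Fin (n + 1) := fun i => ⟨i, by omega⟩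
  obtain ⟨b, hb, hbc⟩ := expand_det_wrMat hK P ht hHt τ (isFixedPt_of_strong hP) (fun i => g (κ i)) hA0
    (fun i => e (ι i)) a (fun i => one_le_orders hK P ht φ hnorm hJ' _) (fun i => he (ι i)) (fun i => hlow (ι i))
    (fun i => hone (ι i)) I
  have hne : (wrMat τ Ht (fun i => g (κ i)) I).det ≠ 0 := by
    intro h0
    rw [h0, map_zero] at hb
    rcases mul_eq_zero.1 hb.symm with h | h
    · exact HahnSeries.single_ne_zero one_ne_zero h
    · have hb0 : b = 0 := HahnSeries.ofPowerSeries_injective (h.trans (map_zero _).symm)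
      exact hIdet (by rw [← hbc (Or.inr hP), hb0, map_zero])
  rw [wrMat_eq_colMat] at hne
  have hli := (linearIndependent_iff_det _ I).2 hne
  refine isOrders_le_of_finrank _ hJg l _ ?_
  haveI := finite_sp (R := K) (hcol τ Ht g) (J' l - J' ⟨0, hn⟩ + 2)
  have hmem : ∀ c, hcol τ Ht g (full I c) ∈ sp (R := K) (hcol τ Ht g) (J' l - J' ⟨0, hn⟩ + 2) := fun c => mem_sp _ (by
    induction c using Fin.cases with
    | zero => simp [full]
    | succ c => have := hIN c; simp only [full, Fin.cases_succ]; omega)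
  let v : Fin (l.1 + 1 + 1) → sp (R := K) (hcol τ Ht g) (J' l - J' ⟨0, hn⟩ + 2) := fun c => ⟨_, hmem c⟩
  have hproj : ∀ m, hcol τ Ht (fun i => g (κ i)) m = fun i => hcol τ Ht g m (κ i) := by
    intro m; rcases m with _ | m <;> rfl
  have hv : LinearIndependent K v := by
    refine LinearIndependent.of_comp ((LinearMap.funLeft K K κ).comp (sp (R := K) (hcol τ Ht g) _).subtype) ?_
    simp only [hproj] at hli
    exact hli
  have hcard := hv.fintype_card_le_finrank
  rw [Fintype.card_fin] at hcard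
  omega

end Groth.Agent.Wronskian26
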