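import Groth.Agent.Lib.Wronskian26.Classical

/-! # A linear system has only finitely many inflection points -/

namespace Groth.Agent.Wronskian26

open FunFld FunField

variable {k K : Type*} [Field k] [IsAlgClosed k] [Field K] [Algebra k K] {n : ℕ}

/-- In characteristic zero, only at finitely many places does a member of an `n + 1`-dimensional
linear system vanish to order more than `n`. -/
theorem finite_inflection [CharZero k] (hK : IsFunctionField k K) {φ : Fin (n + 1) → K}
    (hφ : LinearIndependent k φ) :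
    {P : Place k K | ∃ f ∈ Submodule.span k (Set.range φ), f ≠ 0 ∧ (n : ℤ) + 1 ≤ P.ord f + mapDiv k φ P}.Finite := by
  classical
  have h := ff hK
  have hchar : ringChar k = 0 := ringChar.eq_zero
  obtain ⟨s, hs⟩ := exists_sep h
  obtain ⟨H, hH⟩ := exists_hasse h hs
  obtain ⟨J, hJ⟩ := exists_orders h hφ (AlgHom.id k K) hH
  have hJc : J = fun l : Fin n => (l : ℕ) + 1 :=
    isOrders_unique _ hJ (classical_id hK hφ (Or.inl hchar) hH)
  obtain ⟨Φ, hΦ⟩ := exists_expansions h
  refine (wDiv (AlgHom.id k K) H Φ s φ J).support.finite_toSet.subset ?_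
  rintro P ⟨f, hf, hf0, hle⟩
  rw [Finset.mem_coe, Finsupp.mem_support_iff]
  intro hW
  obtain ⟨t, Ht, φ', y, hy, rfl, ht, hHt, hφ', heff, hnorm, hJt, e⟩ := exists_normal_form hK hΦ hφ _ hH hJ P
  obtain ⟨J', hJ'⟩ := exists_isOrders_at h P ht _ hnorm hφ' heff
  rw [e] at hW
  have heq := (orders_at_eq_iff hK hΦ P ht hHt hφ' heff hnorm hJt hJ').2.2.2 hW
  have hy' : P.ord y = mapDiv k φ P := by
    have := mapDiv_smul h hφ.ne_zero hy P
    rw [mapDiv_eq_zero_of_normalized h heff hnorm] at this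
    omega
  have hord : P.ord (y * f) = mapDiv k φ P + P.ord f := by rw [ord_mul P hy hf0, hy']
  have hmem : y * f ∈ Submodule.span k (Set.range (y • φ)) := by
    obtain ⟨a, rfl⟩ := (Submodule.mem_span_range_iff_exists_fun k).1 hf
    refine (Submodule.mem_span_range_iff_exists_fun k).2 ⟨a, ?_⟩
    simp [Finset.mul_sum, mul_left_comm, Algebra.smul_def]
  obtain ⟨j, hj⟩ : ∃ j : ℕ, P.ord (y * f) = (j : ℤ) := ⟨_, (Int.toNat_of_nonneg (by omega)).symm⟩
  have hv : P.1 (y * f) = WithZero.exp (-(j : ℤ)) := by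
    rw [val_eq_exp_neg_ord P (mul_ne_zero hy hf0), hj]
  rcases (mem_range_iff_exists_order h P ht _ hnorm heff hJ' j).2 ⟨_, hmem, hv⟩ with rfl | ⟨l, rfl⟩
  · omega
  · rw [heq l, hJc] at hj
    have := l.2
    push_cast at hj
    omega

end Groth.Agent.Wronskian26
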