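import Groth.Prelude.Def_W4bk4goldsch45p2
import Mathlib.LinearAlgebra.Dual.Lemmas
import Mathlib.LinearAlgebra.Matrix.NonsingularInverse
import Mathlib.LinearAlgebra.Matrix.Block
import Mathlib.LinearAlgebra.Dimension.Constructions

/-! # Order sequences of sequences of vectors -/

namespace Groth.Agent.Wronskian26

open FunFld

variable {R M : Type*} [Field R] [AddCommGroup M] [Module R M] (c : ℕ → M)

/-- The span of the first `N` vectors. -/
def sp (N : ℕ) : Submodule R M := Submodule.span R (c '' Set.Iio N)

theorem sp_mono {N N' : ℕ} (h : N ≤ N') : sp (R := R) c N ≤ sp c N' :=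
  Submodule.span_mono (Set.image_mono fun _ hm => lt_of_lt_of_le hm h)

theorem mem_sp {m N : ℕ} (h : m < N) : c m ∈ sp (R := R) c N := Submodule.subset_span ⟨m, h, rfl⟩

theorem sp_succ (N : ℕ) : sp (R := R) c (N + 1) = Submodule.span R {c N} ⊔ sp c N := by
  rw [sp, sp, ← Submodule.span_union, ← Set.image_singleton, ← Set.image_union]
  congr 2
  ext m
  simp only [Set.mem_Iio, Set.singleton_union, Set.mem_insert_iff]
  omega

theorem isJump_iff_sp (j : ℕ) : IsJump R c j ↔ sp (R := R) c (j + 1) ≠ sp c j := by
  constructor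
  · exact fun h e => h (e.le (mem_sp c (Nat.lt_succ_self j)))
  · intro h hj
    exact h (by rw [sp_succ, sup_eq_right, Submodule.span_singleton_le_iff_mem]; exact hj)

theorem isJump_congr {M' : Type*} [AddCommGroup M'] [Module R M'] {c' : ℕ → M'}
    (f : M →ₗ[R] M') (hf : Function.Injective f) (h : ∀ N, sp (R := R) c' N = (sp (R := R) c N).map f) (j : ℕ) :
    IsJump R c' j ↔ IsJump R c j := by
  rw [isJump_iff_sp, isJump_iff_sp, h, h, not_iff_not]
  exact (Submodule.map_injective_of_injective hf).eq_iff

theorem isJump_eq_of_sp {c' : ℕ → M} (h : ∀ N, sp (R := R) c' N = sp c N) (j : ℕ) :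
    IsJump R c' j ↔ IsJump R c j :=
  isJump_congr c LinearMap.id (fun _ _ e => e) (fun N => by rw [Submodule.map_id]; exact h N) j

theorem linearIndepOn_jumps (s : Finset ℕ) (hs : ∀ j ∈ s, IsJump R c j) : LinearIndepOn R c (s : Set ℕ) := by
  induction s using Finset.induction_on_max with
  | empty => simp
  | insert a s ha ih =>
    rw [Finset.coe_insert]
    refine (linearIndepOn_insert fun h => (ha a h).false).2
      ⟨ih fun j hj => hs j (Finset.mem_insert_of_mem hj), fun h => hs a (Finset.mem_insert_self _ _) ?_⟩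
    exact Submodule.span_mono (Set.image_mono fun m hm => ha m hm) h

open scoped Classical in
theorem sp_eq_jumps (N : ℕ) :
    sp (R := R) c N = Submodule.span R (c '' ((Finset.range N).filter (IsJump R c) : Set ℕ)) := by
  induction N with
  | zero => simp [sp]
  | succ n ih =>
    by_cases h : IsJump R c n
    · rw [Finset.range_add_one, Finset.filter_insert, if_pos h, Finset.coe_insert, Set.image_insert_eq,
        Submodule.span_insert, ← ih, sp_succ]
    · rw [Finset.range_add_one, Finset.filter_insert, if_neg h, ← ih]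
      exact not_not.1 (mt (isJump_iff_sp c n).2 h)

open scoped Classical in
theorem finrank_sp (N : ℕ) : Module.finrank R (sp (R := R) c N) = ((Finset.range N).filter (IsJump R c)).card := by
  rw [sp_eq_jumps]
  have := finrank_span_eq_card (linearIndepOn_jumps c _ fun j hj => (Finset.mem_filter.1 hj).2 :
    LinearIndependent R fun x : ((Finset.range N).filter (IsJump R c) : Set ℕ) => c x)
  rw [Set.range_comp' c, Subtype.range_coe] at this
  rw [this]
  simp

theorem finite_sp (N : ℕ) : FiniteDimensional R (sp (R := R) c N) :=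
  FiniteDimensional.span_of_finite R ((Set.finite_Iio N).image c)

/-- The enumeration of all the jumps attached to an order sequence. -/
def full {n : ℕ} (J : Fin n → ℕ) : Fin (n + 1) → ℕ := Fin.cases 0 fun l => J l + 1

theorem full_strictMono {n : ℕ} {J : Fin n → ℕ} (h : StrictMono J) : StrictMono (full J) := by
  intro a b hab
  induction b using Fin.cases with
  | zero => exact absurd hab (Fin.not_lt_zero a)
  | succ b =>
    induction a using Fin.cases with
    | zero => simp [full]
    | succ a => simpa [full] using h (Fin.succ_lt_succ_iff.1 hab)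

theorem isJump_full {n : ℕ} {J : Fin n → ℕ} (hJ : IsOrders R c J) (h0 : c 0 ≠ 0) (l : Fin (n + 1)) :
    IsJump R c (full J l) := by
  induction l using Fin.cases with
  | zero => simpa [IsJump, full] using h0
  | succ l => exact (hJ.2 _).1 ⟨l, rfl⟩

theorem linearIndependent_full {n : ℕ} {J : Fin n → ℕ} (hJ : IsOrders R c J) (h0 : c 0 ≠ 0) :
    LinearIndependent R (fun l => c (full J l)) := by
  classical
  have := linearIndepOn_jumps c (Finset.univ.image (full J)) (by
    intro j hj
    obtain ⟨l, -, rfl⟩ := Finset.mem_image.1 hj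
    exact isJump_full c hJ h0 l)
  exact LinearIndependent.comp this (fun l => ⟨full J l, by simp⟩)
    (fun a b e => (full_strictMono hJ.1).injective (congrArg Subtype.val e))

theorem exists_isOrders {n : ℕ} [FiniteDimensional R M] (hdim : Module.finrank R M = n + 1)
    (hspan : Submodule.span R (Set.range c) = ⊤) (h0 : c 0 ≠ 0) : ∃ J : Fin n → ℕ, IsOrders R c J := by
  classical
  obtain ⟨N, hN⟩ : ∃ N, sp (R := R) c N = ⊤ := by
    obtain ⟨s, hs⟩ := Submodule.FG.stabilizes_of_iSup_eq (M' := (⊤ : Submodule R M)) Module.Finite.fg_top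
      ⟨fun N => sp (R := R) c N, fun a b h => sp_mono c h⟩ (by
        rw [eq_top_iff, ← hspan, Submodule.span_le]
        rintro _ ⟨m, rfl⟩
        exact le_iSup (fun N => sp (R := R) c N) (m + 1) (mem_sp c (Nat.lt_succ_self m)))
    exact ⟨s, hs.symm⟩
  have hbig : ∀ j, IsJump R c j → j < N := fun j hj => by
    by_contra hlt
    exact hj (sp_mono c (not_lt.1 hlt) (hN ▸ Submodule.mem_top : c j ∈ sp (R := R) c N))
  let S := (Finset.range N).filter fun j => IsJump R c (j + 1)
  have hS : S.card = n := by
    have h := finrank_sp (R := R) c (N + 1)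
    rw [show sp (R := R) c (N + 1) = ⊤ from top_unique (hN ▸ sp_mono c (Nat.le_succ N)), finrank_top, hdim] at h
    have e : (Finset.range (N + 1)).filter (IsJump R c) = insert 0 (S.map ⟨Nat.succ, Nat.succ_injective⟩) := by
      ext j
      rcases j with _ | j
      · simp [IsJump, h0]
      · simp [S, Finset.mem_filter]
    rw [e, Finset.card_insert_of_notMem (by simp), Finset.card_map] at h
    omega
  refine ⟨S.orderEmbOfFin hS, (S.orderEmbOfFin hS).strictMono, fun j => ?_⟩
  rw [Finset.range_orderEmbOfFin]
  exact ⟨fun h => (Finset.mem_filter.1 h).2, fun h =>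
    Finset.mem_filter.2 ⟨Finset.mem_range.2 (by have := hbig _ h; omega), h⟩⟩

theorem isOrders_unique {n : ℕ} {J J' : Fin n → ℕ} (hJ : IsOrders R c J) (hJ' : IsOrders R c J') : J = J' :=
  (hJ.1.range_inj hJ'.1).1 (Set.ext fun j => (hJ.2 j).trans (hJ'.2 j).symm)

theorem isOrders_congr {n : ℕ} {J : Fin n → ℕ} {M' : Type*} [AddCommGroup M'] [Module R M'] {c' : ℕ → M'}
    (h : ∀ j, IsJump R c' (j + 1) ↔ IsJump R c (j + 1)) : IsOrders R c' J ↔ IsOrders R c J := by
  simp only [IsOrders, h]

/-- If the span of the first vectors is big, the orders are small. -/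
theorem isOrders_le_of_finrank {n : ℕ} {J : Fin n → ℕ} (hJ : IsOrders R c J) (l : Fin n) (b : ℕ)
    (hb : (l : ℕ) + 2 ≤ Module.finrank R (sp (R := R) c (b + 2))) : J l ≤ b := by
  classical
  by_contra hlt
  rw [not_le] at hlt
  rw [finrank_sp] at hb
  have hsub : (Finset.range (b + 2)).filter (IsJump R c) ⊆
      insert 0 ((Finset.Iio l).image fun i => J i + 1) := by
    intro j hj
    rw [Finset.mem_filter, Finset.mem_range] at hj
    rcases j with _ | j
    · simp
    refine Finset.mem_insert_of_mem ?_
    obtain ⟨i, rfl⟩ := (hJ.2 j).2 hj.2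
    exact Finset.mem_image.2 ⟨i, Finset.mem_Iio.2 (hJ.1.lt_iff_lt.1 (by omega)), rfl⟩
  have := (Finset.card_le_card hsub).trans ((Finset.card_insert_le _ _).trans
    (Nat.add_le_add_right Finset.card_image_le 1))
  rw [Fin.card_Iio] at this
  omega

theorem isOrders_le {n : ℕ} {J J' : Fin n → ℕ} (hJ : IsOrders R c J) (hJ' : StrictMono J')
    (hli : LinearIndependent R (fun l => c (full J' l))) (l : Fin n) : J l ≤ J' l := by
  refine isOrders_le_of_finrank c hJ l _ ?_
  haveI := finite_sp (R := R) c (J' l + 2)
  let v : Fin (l.1 + 2) → sp (R := R) c (J' l + 2) := fun i =>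
    ⟨c (full J' ⟨i, by omega⟩), mem_sp c (by
      have : full J' ⟨i, by omega⟩ ≤ full J' l.succ :=
        (full_strictMono hJ').monotone (by simp only [Fin.le_def, Fin.val_succ]; omega)
      simp only [full, Fin.cases_succ] at this ⊢
      omega)⟩
  have hv : LinearIndependent R v := by
    refine LinearIndependent.of_comp (sp (R := R) c (J' l + 2)).subtype ?_
    exact hli.comp (fun i : Fin (l.1 + 2) => (⟨i, by omega⟩ : Fin (n + 1))) fun a b e => Fin.ext (by simpa [Fin.ext_iff] using e)
  simpa using hv.fintype_card_le_finrank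

theorem isJump_semilinear {R' : Type*} [Field R'] {M' : Type*} [AddCommGroup M'] [Module R' M']
    {σ : R →+* R'} [RingHomSurjective σ] (f : M →ₛₗ[σ] M') (hf : Function.Injective f) (j : ℕ) :
    IsJump R' (fun m => f (c m)) j ↔ IsJump R c j := by
  have : Submodule.span R' ((fun m => f (c m)) '' Set.Iio j) = (Submodule.span R (c '' Set.Iio j)).map f := by
    rw [Submodule.map_span, Set.image_image]
  rw [IsJump, IsJump, this, not_iff_not]
  exact ⟨fun ⟨x, hx, e⟩ => hf e ▸ hx, fun h => ⟨_, h, rfl⟩⟩

section Columns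

variable {n : ℕ} (c : ℕ → Fin (n + 1) → R)

/-- The matrix of the columns at an order sequence. -/
def colMat (I : Fin n → ℕ) : Matrix (Fin (n + 1)) (Fin (n + 1)) R := Matrix.of fun i a => c (full I a) i

theorem linearIndependent_iff_det (I : Fin n → ℕ) :
    LinearIndependent R (fun a => c (full I a)) ↔ (colMat c I).det ≠ 0 := by
  rw [← isUnit_iff_ne_zero, ← Matrix.isUnit_iff_isUnit_det, ← Matrix.linearIndependent_cols_iff_isUnit]
  rfl

theorem det_colMat_triangular {c' : ℕ → Fin (n + 1) → R} {J : Fin n → ℕ} (hJ : IsOrders R c J) (a : ℕ → R)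
    (h : ∀ j, c' j - a j • c j ∈ sp (R := R) c j) :
    (colMat c' J).det = (∏ l, a (full J l)) * (colMat c J).det := by
  classical
  have hsp : ∀ l : Fin (n + 1), sp (R := R) c (full J l) ≤
      Submodule.span R ((fun i => c (full J i)) '' (Set.Iio l)) := by
    intro l
    rw [sp_eq_jumps, Submodule.span_le]
    rintro _ ⟨j, hj, rfl⟩
    simp only [Finset.coe_filter, Finset.mem_range, Set.mem_ofPred_eq] at hj
    obtain ⟨i, rfl⟩ : ∃ i, full J i = j := by
      rcases j with _ | j
      · exact ⟨0, rfl⟩
      · obtain ⟨i, rfl⟩ := (hJ.2 j).2 hj.2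
        exact ⟨i.succ, by simp [full]⟩
    exact Submodule.subset_span ⟨i, (full_strictMono hJ.1).lt_iff_lt.1 hj.1, rfl⟩
  choose w hw hw' using fun l => (Finsupp.mem_span_image_iff_linearCombination R).1 (hsp l (h (full J l)))
  let T : Matrix (Fin (n + 1)) (Fin (n + 1)) R := Matrix.of fun i l => (if i = l then a (full J l) else 0) + w l i
  have hT : colMat c' J = colMat c J * T := by
    ext r l
    have e := congrFun (hw' l) r
    rw [Finsupp.linearCombination_apply, Finsupp.sum_fintype _ _ (by simp)] at e
    simp only [Finset.sum_apply, Pi.smul_apply, Pi.sub_apply, smul_eq_mul] at e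
    simp only [colMat, T, Matrix.mul_apply, Matrix.of_apply, mul_add, Finset.sum_add_distrib]
    rw [Finset.sum_eq_single l (fun b _ hb => by rw [if_neg hb, mul_zero]) (by simp), if_pos rfl]
    rw [Finset.sum_congr rfl fun x _ => mul_comm (c (full J x) r) (w l x)]
    linear_combination -e
  have htri : T.BlockTriangular id := by
    intro i l hil
    simp only [id] at hil
    simp only [T, Matrix.of_apply, if_neg hil.ne', zero_add]
    by_contra hne
    exact absurd (hw l (Finsupp.mem_support_iff.2 hne) : i ∈ Set.Iio l) (not_lt.2 hil.le)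
  rw [hT, Matrix.det_mul, Matrix.det_of_isUpperTriangular htri, mul_comm]
  congr 1
  refine Finset.prod_congr rfl fun l _ => ?_
  simp only [T, Matrix.of_apply, if_pos]
  have : w l l = 0 := by
    by_contra hne
    exact lt_irrefl l (hw l (Finsupp.mem_support_iff.2 hne) : l ∈ Set.Iio l)
  rw [this, add_zero]

theorem isJump_iff_exists_dot (j : ℕ) :
    IsJump R c j ↔ ∃ a : Fin (n + 1) → R, (∀ m < j, ∑ i, a i * c m i = 0) ∧ ∑ i, a i * c j i ≠ 0 := by
  constructor
  · intro h
    obtain ⟨f, hf, hf0⟩ := Submodule.exists_dual_map_eq_bot_of_notMem h inferInstance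
    refine ⟨fun i => f (Pi.single i 1), ?_⟩
    have e : ∀ v : Fin (n + 1) → R, ∑ i, f (Pi.single i 1) * v i = f v := by
      intro v
      conv_rhs => rw [← Finset.univ_sum_single v]
      rw [map_sum]
      refine Finset.sum_congr rfl fun i _ => ?_
      rw [show Pi.single i (v i) = v i • Pi.single i (1 : R) by rw [← Pi.single_smul, smul_eq_mul, mul_one],
        map_smul, smul_eq_mul, mul_comm]
    simp only [e]
    refine ⟨fun m hm => ?_, hf⟩
    have : f (c m) ∈ Submodule.map f (Submodule.span R (c '' Set.Iio j)) :=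
      ⟨c m, Submodule.subset_span ⟨m, hm, rfl⟩, rfl⟩
    rw [hf0] at this
    exact (Submodule.mem_bot R).1 this
  · rintro ⟨a, h0, h1⟩ hmem
    refine h1 ?_
    have : Submodule.span R (c '' Set.Iio j) ≤ LinearMap.ker (∑ i, a i • (LinearMap.proj i : (Fin (n + 1) → R) →ₗ[R] R)) := by
      rw [Submodule.span_le]
      rintro _ ⟨m, hm, rfl⟩
      simpa using h0 m hm
    simpa using this hmem

end Columns

end Groth.Agent.Wronskian26
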