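import Groth.Agent.Lib.Wronskian26.Taylor
import Groth.Agent.Lib.Wronskian26.Orders

/-! # The Wronskian at a place -/

namespace Groth.Agent.Wronskian26

open FunFld FunField

variable {k K : Type*} [Field k] [Field K] [Algebra k K] {n : ℕ}

/-- The coefficient columns of a tuple of power series. -/
noncomputable def ecol {ι : Type*} (e : ι → PowerSeries k) : ℕ → ι → k
  | 0 => fun i => PowerSeries.constantCoeff (e i)
  | j + 1 => fun i => PowerSeries.coeff j (e i)

theorem ecol_full {J : Fin n → ℕ} {ι : Type*} (e : ι → PowerSeries k) (l : Fin n) (i : ι) :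
    ecol e (full J l.succ) i = PowerSeries.coeff (J l) (e i) := rfl

theorem hcol_linear (τ : K →ₐ[k] K) (H : K →ₐ[k] PowerSeries K) {φ φ' : Fin (n + 1) → K}
    (A : Matrix (Fin (n + 1)) (Fin (n + 1)) k) (hA : ∀ i, φ' i = ∑ j, A i j • φ j) (m : ℕ) :
    hcol τ H φ' m = (A.map (algebraMap k K)).mulVecLin (hcol τ H φ m) := by
  ext i
  rcases m with _ | m <;>
  · simp only [hcol, LocRes.hasseD_apply, Matrix.mulVecLin_apply, Matrix.mulVec, dotProduct, Matrix.map_apply, hA,
      map_sum, map_smul, Algebra.smul_def, map_mul, AlgHom.commutes, PowerSeries.algebraMap_apply,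
      PowerSeries.coeff_C_mul]

theorem wrMat_eq_colMat (τ : K →ₐ[k] K) (H : K →ₐ[k] PowerSeries K) (φ : Fin (n + 1) → K) (I : Fin n → ℕ) :
    wrMat τ H φ I = colMat (hcol τ H φ) I := by
  ext i a
  induction a using Fin.cases <;> rfl

theorem det_wrMat_linear (τ : K →ₐ[k] K) (H : K →ₐ[k] PowerSeries K) {φ φ' : Fin (n + 1) → K}
    (A : Matrix (Fin (n + 1)) (Fin (n + 1)) k) (hA : ∀ i, φ' i = ∑ j, A i j • φ j) (I : Fin n → ℕ) :
    (wrMat τ H φ' I).det = algebraMap k K A.det * (wrMat τ H φ I).det := by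
  rw [RingHom.map_det, ← Matrix.det_mul, wrMat_eq_colMat, wrMat_eq_colMat]
  congr 1
  ext i a
  simp only [colMat, Matrix.of_apply, hcol_linear τ H A hA, Matrix.mul_apply, RingHom.mapMatrix_apply]
  rfl

theorem isJump_linear (τ : K →ₐ[k] K) (H : K →ₐ[k] PowerSeries K) {φ φ' : Fin (n + 1) → K}
    (A : Matrix (Fin (n + 1)) (Fin (n + 1)) k) (hdet : A.det ≠ 0) (hA : ∀ i, φ' i = ∑ j, A i j • φ j) (m : ℕ) :
    IsJump K (hcol τ H φ') m ↔ IsJump K (hcol τ H φ) m := by
  refine isJump_congr (hcol τ H φ) (A.map (algebraMap k K)).mulVecLin ?_ (fun N => ?_) m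
  · rw [Matrix.coe_mulVecLin, Matrix.mulVec_injective_iff_isUnit, Matrix.isUnit_iff_isUnit_det,
      show (A.map (algebraMap k K)).det = algebraMap k K A.det from (RingHom.map_det _ _).symm]
    exact (isUnit_iff_ne_zero.2 hdet).map _
  · simp only [sp, Submodule.map_span, Set.image_image, ← hcol_linear τ H A hA]

/-- The image of a small element under a map fixing the place. -/
theorem val_tau_le (τ : K →ₐ[k] K) {P : Place k K} {t : K} (ht : P.1 t = WithZero.exp (-1)) (e : ℕ)
    (hτt : P.1 (τ t) ≤ WithZero.exp (-(e : ℤ))) (hint : ∀ f, P.1 f ≤ 1 → P.1 (τ f) ≤ 1) {g : K} {J : ℕ}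
    (hg : P.1 g ≤ WithZero.exp (-(J : ℤ))) : P.1 (τ g) ≤ WithZero.exp (-((e * J : ℕ) : ℤ)) := by
  have ht0 : t ≠ 0 := ne_zero_of_val ht
  have hu : P.1 (g / t ^ J) ≤ 1 := by
    rw [map_div₀, val_pow ht, div_le_one₀ WithZero.exp_pos]; exact hg
  have e1 : g = t ^ J * (g / t ^ J) := (mul_div_cancel₀ g (pow_ne_zero J ht0)).symm
  rw [e1, map_mul, map_pow, map_mul, map_pow]
  refine (mul_le_mul' (pow_le_pow_left' hτt J) (hint _ hu)).trans (le_of_eq ?_)
  rw [mul_one, ← WithZero.exp_nsmul]
  simp [mul_comm]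

theorem coeff_zero_of_dot (e : Fin (n + 1) → PowerSeries k) (a : Fin (n + 1) → k)
    (h : ∀ m, ∑ i, a i * ecol e m i = 0) : ∑ i, a i • e i = 0 := by
  ext m
  simpa [ecol] using h (m + 1)

variable [IsAlgClosed k]

theorem val_tau_of_fixed (h : FF k K) (τ : K →ₐ[k] K) {P : Place k K} (hP : IsFixedPt τ P) {f : K}
    (hf : P.1 f ≤ 1) : P.1 (τ f) ≤ 1 := by
  obtain ⟨c, hc⟩ := exists_const_near h P hf
  have h1 := hP _ hc
  rw [map_sub, AlgHom.commutes] at h1
  rw [show τ f = (τ f - algebraMap k K c) + algebraMap k K c by ring]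
  exact (P.1.map_add _ _).trans (max_le h1.le (val_const_le P c))

theorem isFixedPt_of_strong {τ : K →ₐ[k] K} {P : Place k K} (hP : IsStrongFixedPt τ P) : IsFixedPt τ P :=
  fun z hz => lt_of_le_of_lt (hP z hz) (by rw [← WithZero.exp_zero, WithZero.exp_lt_exp]; norm_num)

variable (hK : FF k K) (P : Place k K) {t : K} (ht : P.1 t = WithZero.exp (-1))

omit [IsAlgClosed k] in
theorem isJump_hcolAt_aux {ι : Type*} (e : ι → PowerSeries k)
    (hbij : Function.Bijective (algebraMap k (IsLocalRing.ResidueField P.O))) (j : ℕ) :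
    IsJump (IsLocalRing.ResidueField P.O) (fun m i => algebraMap k (IsLocalRing.ResidueField P.O) (ecol e m i)) j ↔
      IsJump k (ecol e) j := by
  haveI : RingHomSurjective (algebraMap k (IsLocalRing.ResidueField P.O)) := ⟨hbij.2⟩
  let f : (ι → k) →ₛₗ[algebraMap k (IsLocalRing.ResidueField P.O)] (ι → IsLocalRing.ResidueField P.O) :=
    { toFun := fun v i => algebraMap k _ (v i)
      map_add' := fun v w => funext fun i => map_add _ _ _
      map_smul' := fun a v => funext fun i => by simp [Pi.smul_apply] }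
  exact isJump_semilinear (ecol e) f (fun v w hvw => funext fun i => hbij.1 (congrFun hvw i)) j

variable {Ht : K →ₐ[k] PowerSeries K} (hHt : LocRes.IsHasseFamily t Ht) (φ : Fin (n + 1) → K)
  (hnorm : ∀ i, P.1 (φ i) ≤ 1)

/-- The expansions of a normalized tuple. -/
noncomputable def expTuple : Fin (n + 1) → PowerSeries k := fun i => expandO P hK ht ⟨φ i, hnorm i⟩

include hHt in
theorem hcolAt_eq : hcolAt P Ht φ = fun m i => algebraMap k _ (ecol (expTuple hK P ht φ hnorm) m i) := by
  funext m i
  rcases m with _ | j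
  · exact evalP_eq hK P ht ⟨φ i, hnorm i⟩
  · exact evalP_hasseD hK P ht hHt ⟨φ i, hnorm i⟩ j

include hHt in
theorem isJump_hcolAt (j : ℕ) : IsJump (IsLocalRing.ResidueField P.O) (hcolAt P Ht φ) j ↔
    IsJump k (ecol (expTuple hK P ht φ hnorm)) j := by
  rw [hcolAt_eq hK P ht hHt φ hnorm]
  exact isJump_hcolAt_aux P _ (residue_bijective hK P) j

include hHt in
theorem isOrders_hcolAt (J : Fin n → ℕ) : IsOrders (IsLocalRing.ResidueField P.O) (hcolAt P Ht φ) J ↔
    IsOrders k (ecol (expTuple hK P ht φ hnorm)) J := by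
  simp only [IsOrders, isJump_hcolAt hK P ht hHt φ hnorm]

theorem expTuple_comb (a : Fin (n + 1) → k) :
    IsExp P t (∑ i, a i • φ i) (∑ i, a i • expTuple hK P ht φ hnorm i) := by
  have h := isExp_expandO P hK ht (∑ i, a i • (⟨φ i, hnorm i⟩ : P.O))
  simp only [AddSubmonoidClass.coe_finsetSum, coe_smul_O, map_sum, map_smul] at h
  exact h

theorem expTuple_linearIndependent (hφ : LinearIndependent k φ) :
    LinearIndependent k (expTuple hK P ht φ hnorm) := by
  rw [Fintype.linearIndependent_iff]
  intro a ha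
  have := expTuple_comb hK P ht φ hnorm a
  rw [ha] at this
  exact Fintype.linearIndependent_iff.1 hφ a this.eq_zero

theorem span_ecol (hφ : LinearIndependent k φ) :
    Submodule.span k (Set.range (ecol (expTuple hK P ht φ hnorm))) = ⊤ := by
  by_contra hne
  obtain ⟨v, hv⟩ : ∃ v, v ∉ Submodule.span k (Set.range (ecol (expTuple hK P ht φ hnorm))) :=
    not_forall.1 fun hh => hne (eq_top_iff.2 fun x _ => hh x)
  obtain ⟨f, hf, hf0⟩ := Submodule.exists_dual_map_eq_bot_of_notMem hv inferInstance
  have e : ∀ w : Fin (n + 1) → k, ∑ i, f (Pi.single i 1) * w i = f w := by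
    intro w
    conv_rhs => rw [← Finset.univ_sum_single w]
    rw [map_sum]
    refine Finset.sum_congr rfl fun i _ => ?_
    rw [show Pi.single i (w i) = w i • Pi.single i (1 : k) by rw [← Pi.single_smul, smul_eq_mul, mul_one],
      map_smul, smul_eq_mul, mul_comm]
  have h0 := coeff_zero_of_dot (expTuple hK P ht φ hnorm) (fun i => f (Pi.single i 1)) fun m => by
    rw [e]
    have : f (ecol (expTuple hK P ht φ hnorm) m) ∈ Submodule.map f (Submodule.span k (Set.range (ecol (expTuple hK P ht φ hnorm)))) :=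
      ⟨_, Submodule.subset_span ⟨m, rfl⟩, rfl⟩
    rw [hf0] at this
    exact (Submodule.mem_bot k).1 this
  have := Fintype.linearIndependent_iff.1 (expTuple_linearIndependent hK P ht φ hnorm hφ) _ h0
  refine hf ?_
  rw [← e]
  simp [this]

theorem ecol_zero_ne (heff : (1 : K) ∈ Submodule.span k (Set.range φ)) :
    ecol (expTuple hK P ht φ hnorm) 0 ≠ 0 := by
  intro h0
  obtain ⟨a, ha⟩ := (Submodule.mem_span_range_iff_exists_fun k).1 heff
  have h1 := (expTuple_comb hK P ht φ hnorm a).unique ht (by rw [ha]; simpa using isExp_poly ht (1 : Polynomial k))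
  have := congrArg PowerSeries.constantCoeff h1
  rw [map_sum, map_one] at this
  have hz : ∀ i, PowerSeries.constantCoeff (expTuple hK P ht φ hnorm i) = 0 := fun i => congrFun h0 i
  simp [hz] at this

theorem exists_isOrders_at (hφ : LinearIndependent k φ) (heff : (1 : K) ∈ Submodule.span k (Set.range φ)) :
    ∃ J : Fin n → ℕ, IsOrders k (ecol (expTuple hK P ht φ hnorm)) J :=
  exists_isOrders _ (Module.finrank_fin_fun k) (span_ecol hK P ht φ hnorm hφ) (ecol_zero_ne hK P ht φ hnorm heff)

theorem one_le_orders {J : Fin n → ℕ} (hJ : IsOrders k (ecol (expTuple hK P ht φ hnorm)) J) (l : Fin n) :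
    1 ≤ J l := by
  by_contra h
  have h0 : J l = 0 := by omega
  have hj := (hJ.2 0).1 ⟨l, h0⟩
  refine hj (Submodule.subset_span ⟨0, by simp, ?_⟩)
  funext i
  simp [ecol, PowerSeries.coeff_zero_eq_constantCoeff_apply]

/-- The adapted basis. -/
theorem exists_adapted (heff : (1 : K) ∈ Submodule.span k (Set.range φ)) {J : Fin n → ℕ}
    (hJ : IsOrders k (ecol (expTuple hK P ht φ hnorm)) J) :
    ∃ (A : Matrix (Fin (n + 1)) (Fin (n + 1)) k), A.det ≠ 0 ∧ (∑ j, A 0 j • φ j = 1) ∧
      ∃ e : Fin n → PowerSeries k, (∀ l, IsExp P t (∑ j, A l.succ j • φ j) (e l)) ∧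
        (∀ l, ∀ m < J l, PowerSeries.coeff m (e l) = 0) ∧ ∀ l, PowerSeries.coeff (J l) (e l) = 1 := by
  obtain ⟨a0, ha0⟩ := (Submodule.mem_span_range_iff_exists_fun k).1 heff
  choose a ha using fun l : Fin n => (isJump_iff_exists_dot (ecol (expTuple hK P ht φ hnorm)) (J l + 1)).1 ((hJ.2 _).1 ⟨l, rfl⟩)
  let E := expTuple hK P ht φ hnorm
  let b : Fin n → Fin (n + 1) → k := fun l i => (∑ i, a l i * ecol E (J l + 1) i)⁻¹ * a l i
  let A : Matrix (Fin (n + 1)) (Fin (n + 1)) k := Matrix.of fun i j => Fin.cases (a0 j) (fun l => b l j) i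
  have hb : ∀ l, ∀ m < J l + 1, ∑ i, b l i * ecol E m i = 0 := fun l m hm => by
    simp only [b, mul_assoc, ← Finset.mul_sum, E, (ha l).1 m hm, mul_zero]
  have hb1 : ∀ l, ∑ i, b l i * ecol E (J l + 1) i = 1 := fun l => by
    simp only [b, mul_assoc, ← Finset.mul_sum]
    exact inv_mul_cancel₀ (ha l).2
  have h0 : ∀ m, ∑ i, a0 i * ecol E m i = if m = 0 ∨ m = 1 then 1 else 0 := by
    have h1 := (expTuple_comb hK P ht φ hnorm a0).unique ht (by rw [ha0]; simpa using isExp_poly ht (1 : Polynomial k))
    intro m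
    rcases m with _ | m
    · have := congrArg PowerSeries.constantCoeff h1
      simpa [ecol, map_sum, E] using this
    · have := congrArg (PowerSeries.coeff m) h1
      simp only [map_sum, map_smul, smul_eq_mul, PowerSeries.coeff_one] at this
      simpa [ecol, E] using this
  refine ⟨A, ?_, by simpa [A] using ha0, fun l => ∑ i, b l i • E i, fun l => ?_, fun l m hm => ?_, fun l => ?_⟩
  · intro hdet
    have htri : (A * colMat (ecol E) J).BlockTriangular id := by
      intro r c hcr
      simp only [id] at hcr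
      induction r using Fin.cases with
      | zero => exact absurd hcr (Fin.not_lt_zero c)
      | succ r =>
        simp only [Matrix.mul_apply, colMat, Matrix.of_apply, A, Fin.cases_succ]
        refine hb r _ ?_
        have := (full_strictMono hJ.1) hcr
        simpa [full] using this
    have h1 := Matrix.det_of_isUpperTriangular htri
    rw [Matrix.det_mul, hdet, zero_mul] at h1
    refine one_ne_zero (α := k) (h1.trans (Finset.prod_eq_one fun r _ => ?_)).symm
    induction r using Fin.cases with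
    | zero =>
      simp only [Matrix.mul_apply, colMat, Matrix.of_apply, A, Fin.cases_zero, h0]
      simp [full]
    | succ r =>
      simp only [Matrix.mul_apply, colMat, Matrix.of_apply, A, Fin.cases_succ]
      exact hb1 r
  · simpa [A] using expTuple_comb hK P ht φ hnorm (b l)
  · simpa [map_sum, ecol, E] using hb l (m + 1) (by omega)
  · simpa [map_sum, ecol, E] using hb1 l

include hK ht hHt in
/-- The Wronskian in an adapted basis. -/
theorem expand_det_wrMat (τ : K →ₐ[k] K) (hP : IsFixedPt τ P) (g : Fin (n + 1) → K) (hg0 : g 0 = 1)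
    (e : Fin n → PowerSeries k) (J : Fin n → ℕ) (hJ : ∀ l, 1 ≤ J l) (he : ∀ l, IsExp P t (g l.succ) (e l))
    (hlow : ∀ l, ∀ m < J l, PowerSeries.coeff m (e l) = 0) (hone : ∀ l, PowerSeries.coeff (J l) (e l) = 1)
    (I : Fin n → ℕ) :
    ∃ b : PowerSeries k, expand P hK ht (wrMat τ Ht g I).det =
        HahnSeries.single ((∑ l, ((J l : ℤ) - I l))) 1 * (b : LaurentSeries k) ∧
      (((∀ l, 0 < I l) ∨ IsStrongFixedPt τ P) → PowerSeries.constantCoeff b = (binomMat k J I).det) := by
  classical
  let u : Fin n → K := fun s => if I s = 0 then 1 else 0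
  let N : Matrix (Fin n) (Fin n) K := Matrix.of fun l s =>
    LocRes.hasseD Ht (I s) (g l.succ) - u s * τ (g l.succ)
  have hdet : (wrMat τ Ht g I).det = N.det := by
    let T : Matrix (Fin (n + 1)) (Fin (n + 1)) K := Matrix.of fun a c =>
      Fin.cases (if a = 0 then 1 else 0) (fun s => if a = 0 then -u s else if a = s.succ then 1 else 0) c
    have hT : T.det = 1 := by
      rw [Matrix.det_of_isUpperTriangular]
      · refine Finset.prod_eq_one fun a _ => ?_
        induction a using Fin.cases <;> simp [T, Fin.succ_ne_zero]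
      · intro a c hca
        simp only [id] at hca
        induction c using Fin.cases with
        | zero => simp [T, Fin.pos_iff_ne_zero.1 hca]
        | succ s => simp [T, Fin.pos_iff_ne_zero.1 ((Fin.succ_pos s).trans hca), hca.ne']
    have hmul : ∀ r, (wrMat τ Ht g I * T) r 0 = τ (g r) ∧
        ∀ s, (wrMat τ Ht g I * T) r s.succ = LocRes.hasseD Ht (I s) (g r) - u s * τ (g r) := by
      intro r
      refine ⟨?_, fun s => ?_⟩
      · simp [Matrix.mul_apply, T, wrMat, Fin.sum_univ_succ, Fin.succ_ne_zero]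
      · simp [Matrix.mul_apply, T, wrMat, Fin.sum_univ_succ, Fin.succ_ne_zero]
        ring
    rw [← mul_one (wrMat τ Ht g I).det, ← hT, ← Matrix.det_mul, Matrix.det_succ_row_zero, Fin.sum_univ_succ,
      (hmul 0).1, hg0, map_one]
    have hz : ∀ s : Fin n, (wrMat τ Ht g I * T) 0 s.succ = 0 := by
      intro s
      rw [(hmul 0).2, hg0, map_one, mul_one, LocRes.hasseD_apply, map_one, PowerSeries.coeff_one]
      simp [u]
    simp only [hz, mul_zero, zero_mul, Finset.sum_const_zero, add_zero, Fin.val_zero, pow_zero, one_mul]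
    congr 1
    ext l s
    simp only [Matrix.submatrix_apply, Fin.succAbove_zero, (hmul l.succ).2, N, Matrix.of_apply]
  have hgle : ∀ l, P.1 (g l.succ) ≤ WithZero.exp (-(J l : ℤ)) := by
    intro l
    have hz : PowerSeries.trunc (J l) (e l) = 0 := by
      ext m
      rw [PowerSeries.coeff_trunc]
      split_ifs with hm <;> simp [hlow, *]
    have h1 := he l (J l)
    rwa [hz, map_zero, sub_zero] at h1
  have hτ : ∀ l, ∃ q : PowerSeries k, IsExp P t (τ (g l.succ)) q ∧ (∀ m < J l, PowerSeries.coeff m q = 0) ∧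
      (IsStrongFixedPt τ P → PowerSeries.coeff (J l) q = 0) := by
    intro l
    have hτt : P.1 (τ t) ≤ WithZero.exp (-((1 : ℕ) : ℤ)) := by
      refine (lt_one_iff_le _).1 (hP t ?_)
      rw [ht, ← WithZero.exp_zero, WithZero.exp_lt_exp]; norm_num
    have hint := fun f (hf : P.1 f ≤ 1) => val_tau_of_fixed hK τ hP hf
    have hle : ∀ {e' : ℕ}, P.1 (τ t) ≤ WithZero.exp (-(e' : ℤ)) →
        P.1 (τ (g l.succ)) ≤ WithZero.exp (-((e' * J l : ℕ) : ℤ)) := fun {e'} h =>
      val_tau_le τ ht e' h hint (hgle l)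
    have hint' : P.1 (τ (g l.succ)) ≤ 1 := (hle hτt).trans (by rw [← WithZero.exp_zero, WithZero.exp_le_exp]; omega)
    let q := expandO P hK ht ⟨_, hint'⟩
    have hq := isExp_expandO P hK ht ⟨_, hint'⟩
    have hzero : ∀ (N m : ℕ), P.1 (τ (g l.succ)) ≤ WithZero.exp (-(N : ℤ)) → m < N → PowerSeries.coeff m q = 0 := by
      intro N m hN hm
      have hval : Valued.v ((q : PowerSeries k) : LaurentSeries k) ≤ WithZero.exp (-(N : ℤ)) := by
        rw [← expand_coe P hK ht, valued_expand]; exact hN
      have := (LaurentSeries.valuation_le_iff_coeff_lt_eq_zero k).1 hval (m : ℤ) (by exact_mod_cast hm)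
      rw [PowerSeries.coeff_coe, if_neg (by omega)] at this
      simpa using this
    refine ⟨q, hq, fun m hm => hzero (1 * J l) m (hle hτt) (by omega), fun hs => hzero (2 * J l) (J l) (hle ?_) ?_⟩
    · refine hs t ?_
      rw [ht, ← WithZero.exp_zero, WithZero.exp_lt_exp]; norm_num
    · have := hJ l; omega
  choose q hq hqlow hqstrong using hτ
  have hB : ∀ l s, ∃ B : PowerSeries k, expand P hK ht (N l s) =
      HahnSeries.single ((J l : ℤ) - I s) 1 * (B : LaurentSeries k) ∧
      (((∀ l, 0 < I l) ∨ IsStrongFixedPt τ P) → PowerSeries.constantCoeff B = ((J l).choose (I s) : k)) := by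
    intro l s
    have hgl : P.1 (g l.succ) ≤ 1 := (he l).val_le
    have hτl : P.1 (τ (g l.succ)) ≤ 1 := (hq l).val_le
    have e1 : expandO P hK ht ⟨g l.succ, hgl⟩ = e l := (isExp_expandO P hK ht _).unique ht (he l)
    have e2 : expand P hK ht (τ (g l.succ)) = (q l : LaurentSeries k) := by
      rw [show τ (g l.succ) = ((⟨_, hτl⟩ : P.O) : K) from rfl, expand_coe,
        (isExp_expandO P hK ht _).unique ht (hq l)]
    let p : PowerSeries k := hs (I s) (e l) - (if I s = 0 then q l else 0)
    have hp : expand P hK ht (N l s) = (p : LaurentSeries k) := by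
      simp only [N, Matrix.of_apply, map_sub, map_mul, p, u]
      rw [show g l.succ = ((⟨g l.succ, hgl⟩ : P.O) : K) from rfl, expand_hasseD hK P ht hHt, e1]
      split_ifs <;> simp [PowerSeries.coe_sub, e2]
    rcases le_or_gt (I s) (J l) with hle | hgt
    · have hdvd : PowerSeries.X ^ (J l - I s) ∣ p := by
        rw [PowerSeries.X_pow_dvd_iff]
        intro m hm
        rw [map_sub, coeff_hs, hlow l _ (by omega), mul_zero, zero_sub, neg_eq_zero]
        split_ifs with h0
        · exact hqlow l m (by omega)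
        · rw [map_zero]
      obtain ⟨B, hB⟩ := hdvd
      refine ⟨B, ?_, fun hcase => ?_⟩
      · rw [hp, hB, PowerSeries.coe_mul, PowerSeries.coe_pow, PowerSeries.coe_X, HahnSeries.single_pow, one_pow,
          show ((J l : ℤ) - I s) = (J l - I s) • (1 : ℤ) by simp; omega]
      · have : PowerSeries.constantCoeff B = PowerSeries.coeff (J l - I s) p := by
          rw [hB, PowerSeries.coeff_X_pow_mul', if_pos le_rfl, Nat.sub_self, PowerSeries.coeff_zero_eq_constantCoeff_apply]
        rw [this, map_sub, coeff_hs, Nat.sub_add_cancel hle, hone, mul_one, sub_eq_self]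
        split_ifs with h0
        · rcases hcase with hpos | hstr
          · exact absurd h0 (hpos s).ne'
          · rw [h0, Nat.sub_zero]; exact hqstrong l hstr
        · rw [map_zero]
    · refine ⟨PowerSeries.X ^ (I s - J l) * p, ?_, fun _ => ?_⟩
      · rw [hp, PowerSeries.coe_mul, PowerSeries.coe_pow, PowerSeries.coe_X, HahnSeries.single_pow, one_pow,
          ← mul_assoc, HahnSeries.single_mul_single, one_mul,
          show ((J l : ℤ) - I s) + (I s - J l) • (1 : ℤ) = 0 by simp; omega, HahnSeries.single_zero_one, one_mul]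
      · rw [map_mul, map_pow, PowerSeries.constantCoeff_X, zero_pow (by omega), zero_mul,
          Nat.choose_eq_zero_of_lt hgt, Nat.cast_zero]
  choose B hBe hBc using hB
  let B' : Matrix (Fin n) (Fin n) (PowerSeries k) := Matrix.of B
  refine ⟨B'.det, ?_, fun hcase => ?_⟩
  · have hsingle : ∀ (s : Finset (Fin n)) (f : Fin n → ℤ),
        ∏ l ∈ s, (HahnSeries.single (f l) 1 : LaurentSeries k) = HahnSeries.single (∑ l ∈ s, f l) 1 := by
      intro s f
      induction s using Finset.induction_on with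
      | empty => simp [HahnSeries.single_zero_one]
      | insert a s ha ih => rw [Finset.prod_insert ha, Finset.sum_insert ha, ih, HahnSeries.single_mul_single, one_mul]
    have hfac : (expand P hK ht).toRingHom.mapMatrix N =
        Matrix.diagonal (fun l => (HahnSeries.single (J l : ℤ) 1 : LaurentSeries k)) *
          (HahnSeries.ofPowerSeries ℤ k).mapMatrix B' *
          Matrix.diagonal (fun s => (HahnSeries.single (-(I s : ℤ)) 1 : LaurentSeries k)) := by
      refine Matrix.ext fun l s => ?_
      rw [RingHom.mapMatrix_apply, Matrix.map_apply, Matrix.mul_diagonal, Matrix.diagonal_mul, RingHom.mapMatrix_apply,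
        Matrix.map_apply]
      show expand P hK ht (N l s) = _
      rw [hBe, mul_right_comm, HahnSeries.single_mul_single, one_mul, ← sub_eq_add_neg]
      rfl
    rw [hdet, show expand P hK ht N.det = (expand P hK ht).toRingHom N.det from rfl, RingHom.map_det, hfac,
      Matrix.det_mul, Matrix.det_mul, Matrix.det_diagonal, Matrix.det_diagonal, hsingle, hsingle, ← RingHom.map_det,
      mul_right_comm, HahnSeries.single_mul_single, one_mul]
    congr 1
    rw [Finset.sum_sub_distrib, Finset.sum_neg_distrib, sub_eq_add_neg]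
  · rw [RingHom.map_det]
    congr 1
    ext l s
    exact hBc l s hcase

end Groth.Agent.Wronskian26
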