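import Groth.Agent.Lib.Wronskian26.WDiv

/-! # Weierstrass points -/

namespace Groth.Agent.Wronskian26

open FunFld FunField

variable {k K : Type*} [Field k] [Field K] [Algebra k K] {n : ℕ}

theorem orders_pos_of_id {H : K →ₐ[k] PowerSeries K} (hH : ∀ y, PowerSeries.constantCoeff (H y) = y)
    {φ : Fin (n + 1) → K} {J : Fin n → ℕ} (hJ : IsOrders K (hcol (AlgHom.id k K) H φ) J) (l : Fin n) :
    0 < J l := by
  rw [Nat.pos_iff_ne_zero]
  intro h0
  refine (hJ.2 0).1 ⟨l, h0⟩ ?_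
  rw [hcol_one (AlgHom.id k K) hH]
  exact Submodule.subset_span ⟨0, by simp, rfl⟩

theorem evalP_ne_zero_iff (P : Place k K) {z : K} (hz : P.1 z ≤ 1) : evalP P z ≠ 0 ↔ P.1 z = 1 := by
  rw [evalP, dif_pos hz, Ne, residue_eq_zero_iff, not_lt]
  exact ⟨fun h => le_antisymm hz h, fun h => h.ge⟩

theorem isJump_one_of_not_mul {τ : K →ₐ[k] K} {H : K →ₐ[k] PowerSeries K}
    (hH : ∀ y, PowerSeries.constantCoeff (H y) = y) {φ : Fin (n + 1) → K} (h0 : ∀ i, φ i ≠ 0)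
    (hτφ : ¬ ∃ y : K, ∀ i, τ (φ i) = y * φ i) : IsJump K (hcol τ H φ) 1 := by
  intro hmem
  have e : hcol τ H φ '' Set.Iio 1 = {hcol τ H φ 0} := by
    rw [show Set.Iio (1 : ℕ) = {0} by ext m; simp, Set.image_singleton]
  rw [e, Submodule.mem_span_singleton, hcol_one τ hH] at hmem
  obtain ⟨a, ha⟩ := hmem
  refine hτφ ⟨a⁻¹, fun i => ?_⟩
  have hi : a * τ (φ i) = φ i := congrFun ha i
  have ha0 : a ≠ 0 := by
    rintro rfl
    rw [zero_mul] at hi
    exact h0 i hi.symm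
  calc τ (φ i) = a⁻¹ * (a * τ (φ i)) := (inv_mul_cancel_left₀ ha0 _).symm
    _ = a⁻¹ * φ i := by rw [hi]

theorem pos_of_not_mul {τ : K →ₐ[k] K} {φ : Fin (n + 1) → K} (h0 : ∀ i, φ i ≠ 0)
    (hτφ : ¬ ∃ y : K, ∀ i, τ (φ i) = y * φ i) : 0 < n := by
  rcases Nat.eq_zero_or_pos n with rfl | hn
  · exact absurd ⟨τ (φ 0) / φ 0, fun i => by rw [Fin.eq_zero i, div_mul_cancel₀ _ (h0 0)]⟩ hτφ
  · exact hn

theorem not_mul_of_birational {τ : K →ₐ[k] K} (hτ : τ ≠ AlgHom.id k K) {φ : Fin (n + 1) → K} (h0 : φ 0 ≠ 0)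
    (hbir : IntermediateField.adjoin k (Set.range fun i => φ i / φ 0) = ⊤) :
    ¬ ∃ y : K, ∀ i, τ (φ i) = y * φ i := by
  rintro ⟨y, hy⟩
  refine hτ (AlgHom.ext fun x => ?_)
  have hy0 : y ≠ 0 := by
    rintro rfl
    exact h0 (τ.toRingHom.injective ((hy 0).trans ((zero_mul _).trans (map_zero τ).symm)))
  let F : IntermediateField k K :=
    { carrier := {z | τ z = z}
      add_mem' := fun {a b} (ha : τ a = a) (hb : τ b = b) => show τ (a + b) = _ by rw [map_add, ha, hb]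
      mul_mem' := fun {a b} (ha : τ a = a) (hb : τ b = b) => show τ (a * b) = _ by rw [map_mul, ha, hb]
      algebraMap_mem' := τ.commutes
      inv_mem' := fun a (ha : τ a = a) => show τ a⁻¹ = _ by rw [map_inv₀, ha] }
  have hle : IntermediateField.adjoin k (Set.range fun i => φ i / φ 0) ≤ F := by
    rw [IntermediateField.adjoin_le_iff]
    rintro _ ⟨i, rfl⟩
    show τ (φ i / φ 0) = φ i / φ 0
    rw [map_div₀, hy, hy, mul_div_mul_left _ _ hy0]
  exact hle (hbir ▸ IntermediateField.mem_top : x ∈ IntermediateField.adjoin k (Set.range fun i => φ i / φ 0))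

variable [IsAlgClosed k]

theorem isExpansionAt_expand (P : Place k K) (hK : FF k K) {t : K} (ht : P.1 t = WithZero.exp (-1)) :
    LocRes.IsExpansionAt P.1 (expand P hK ht) :=
  ⟨valued_expand P hK ht, fun a => ⟨algebraMap k K a, val_const_le P a, by
    rw [AlgHom.commutes, HahnSeries.algebraMap_apply']
    simp [PowerSeries.algebraMap_apply]⟩, t, ht⟩

theorem exists_expansions (hK : FF k K) :
    ∃ Φ : Place k K → (K →ₐ[k] LaurentSeries k), ∀ P : Place k K, LocRes.IsExpansionAt P.1 (Φ P) :=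
  ⟨fun P => expand P hK (exists_uniformizer P).choose_spec.2, fun P => isExpansionAt_expand P hK _⟩

section

variable (hK : IsFunctionField k K) (τ : K →ₐ[k] K) (P : Place k K) (hP : IsFixedPt τ P) {t : K}
  (ht : P.1 t = WithZero.exp (-1)) {Ht : K →ₐ[k] PowerSeries K} (hHt : LocRes.IsHasseFamily t Ht)
  {φ : Fin (n + 1) → K} (heff : (1 : K) ∈ Submodule.span k (Set.range φ)) (hnorm : ∀ i, P.1 (φ i) ≤ 1)
  {J J' : Fin n → ℕ} (hJ : IsOrders K (hcol τ Ht φ) J)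
  (hJ' : IsOrders k (ecol (expTuple (ff hK) P ht φ hnorm)) J')

include hP hHt heff hJ hJ' in
theorem orders_le_at_fixed (l : Fin n) : J l ≤ J' l := by
  refine isOrders_le _ hJ hJ'.1 ?_ l
  rw [linearIndependent_iff_det, ← wrMat_eq_colMat]
  intro h0
  have h := ((val_det_wrMat (ff hK) P ht hHt φ hnorm τ hP heff hJ' J').2
    (Or.inl fun l => one_le_orders (ff hK) P ht φ hnorm hJ' l)).2 (by rw [det_binom_self J' hJ'.1]; exact one_ne_zero)
  rw [h0, map_zero] at h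
  exact WithZero.exp_ne_zero h.symm

variable {Φ : Place k K → (K →ₐ[k] LaurentSeries k)} (hΦ : ∀ P : Place k K, LocRes.IsExpansionAt P.1 (Φ P))
  (hφ : LinearIndependent k φ)

include hK hP hHt heff hJ hJ' hΦ hφ in
theorem sum_sub_le_wDiv :
    (∑ l, ((J' l : ℤ) - J l)) ≤ wDiv τ Ht Φ t φ J P ∧
    (((∀ l, 0 < J l) ∨ IsStrongFixedPt τ P) →
      (wDiv τ Ht Φ t φ J P = ∑ l, ((J' l : ℤ) - J l) ↔ (binomMat k J' J).det ≠ 0)) := by
  have h := val_det_wrMat (ff hK) P ht hHt φ hnorm τ hP heff hJ' J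
  have hne := det_wrMat_ne_zero hφ τ hJ
  rw [wDiv_normalized_fixed hK hΦ τ P hP ht hHt heff hnorm]
  rw [val_eq_exp_neg_ord P hne, WithZero.exp_le_exp, WithZero.exp_inj] at h
  exact ⟨by linarith [h.1], fun hc => by rw [← h.2 hc, neg_inj]⟩

end

variable (hK : IsFunctionField k K) {Φ : Place k K → (K →ₐ[k] LaurentSeries k)}
  (hΦ : ∀ P : Place k K, LocRes.IsExpansionAt P.1 (Φ P))

include hK hΦ

theorem le_wDiv_of_strong {φ : Fin (n + 1) → K} (hφ : LinearIndependent k φ) (hn : 0 < n) (τ : K →ₐ[k] K)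
    {s : K} {H : K →ₐ[k] PowerSeries K} (hH : LocRes.IsHasseFamily s H) {J : Fin n → ℕ}
    (hJ : IsOrders K (hcol τ H φ) J) (P : Place k K) (hP : IsStrongFixedPt τ P) :
    (n : ℤ) ≤ wDiv τ H Φ s φ J P := by
  obtain ⟨t, Ht, φ', y, -, -, ht, hHt, hφ', heff, hnorm, hJt, e⟩ := exists_normal_form hK hΦ hφ τ hH hJ P
  obtain ⟨J', hJ'⟩ := exists_isOrders_at (ff hK) P ht φ' hnorm hφ' heff
  rw [e]
  refine le_trans ?_ (sum_sub_le_wDiv hK τ P (isFixedPt_of_strong hP) ht hHt heff hnorm hJt hJ' hΦ hφ').1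
  have : ∀ l, (1 : ℤ) ≤ (J' l : ℤ) - J l := fun l => by
    have h1 := orders_add_le (ff hK) P ht hHt τ hP hn φ' heff hnorm hJt hJ' l
    have h2 := one_le_orders (ff hK) P ht φ' hnorm hJ' ⟨0, hn⟩
    omega
  calc (n : ℤ) = ∑ _l : Fin n, (1 : ℤ) := by simp
    _ ≤ _ := Finset.sum_le_sum fun l _ => this l

omit hΦ in
theorem ncard_mul_le_deg {W : Divisor k K} (hW : 0 ≤ W) {S : Set (Place k K)} {m : ℕ} (hm : 0 < m)
    (hS : ∀ P ∈ S, (m : ℤ) ≤ W P) : S.Finite ∧ (m : ℤ) * (S.ncard : ℤ) ≤ W.deg := by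
  classical
  have hsub : S ⊆ ↑W.support := fun P hP => by
    have := hS P hP
    simp only [Finset.mem_coe, Finsupp.mem_support_iff]
    omega
  have hfin := W.support.finite_toSet.subset hsub
  refine ⟨hfin, ?_⟩
  rw [Set.ncard_eq_toFinset_card S hfin, deg_eq_sum W _ (Finset.Subset.refl _)]
  calc (m : ℤ) * (hfin.toFinset.card : ℤ) = ∑ _P ∈ hfin.toFinset, (m : ℤ) := by simp [mul_comm]
    _ ≤ ∑ P ∈ hfin.toFinset, W P * (P.deg : ℤ) := Finset.sum_le_sum fun P hP => by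
        rw [deg_eq_one (ff hK), Nat.cast_one, mul_one]
        exact hS P (hfin.mem_toFinset.1 hP)
    _ ≤ _ := Finset.sum_le_sum_of_subset_of_nonneg (fun P hP => hsub (hfin.mem_toFinset.1 hP))
        fun P _ _ => mul_nonneg (hW P) (Int.natCast_nonneg _)

omit hK hΦ in
theorem jumpOrders_zero {n : ℕ} (hn : 0 < n) {c : ℕ → Fin (n + 1) → K} {J : Fin n → ℕ}
    (hJ : IsOrders K c J) (h1 : IsJump K c 1) : J ⟨0, hn⟩ = 0 := by
  obtain ⟨l, hl⟩ := (hJ.2 0).2 h1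
  have := hJ.1.monotone (show (⟨0, hn⟩ : Fin n) ≤ l by simp [Fin.le_def])
  omega

theorem wDiv_pos_of_fixed {φ : Fin (n + 1) → K} (hφ : LinearIndependent k φ) (τ : K →ₐ[k] K)
    (hτφ : ¬ ∃ y : K, ∀ i, τ (φ i) = y * φ i) {s : K} {H : K →ₐ[k] PowerSeries K}
    (hH : LocRes.IsHasseFamily s H) {J : Fin n → ℕ} (hJ : IsOrders K (hcol τ H φ) J) (P : Place k K)
    (hP : IsFixedPt τ P) : 0 < wDiv τ H Φ s φ J P := by
  have hn := pos_of_not_mul hφ.ne_zero hτφ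
  have hJ0 := jumpOrders_zero hn hJ (isJump_one_of_not_mul hH.2 hφ.ne_zero hτφ)
  obtain ⟨t, Ht, φ', y, -, -, ht, hHt, hφ', heff, hnorm, hJt, e⟩ := exists_normal_form hK hΦ hφ τ hH hJ P
  obtain ⟨J', hJ'⟩ := exists_isOrders_at (ff hK) P ht φ' hnorm hφ' heff
  rw [e]
  refine lt_of_lt_of_le ?_ (sum_sub_le_wDiv hK τ P hP ht hHt heff hnorm hJt hJ' hΦ hφ').1
  refine Finset.sum_pos' (fun l _ => ?_) ⟨⟨0, hn⟩, Finset.mem_univ _, ?_⟩
  · have := orders_le_at_fixed hK τ P hP ht hHt heff hnorm hJt hJ' l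
    omega
  · have := one_le_orders (ff hK) P ht φ' hnorm hJ' ⟨0, hn⟩
    rw [hJ0]
    omega

theorem orders_at_eq_iff (P : Place k K) {t : K} (ht : P.1 t = WithZero.exp (-1))
    {Ht : K →ₐ[k] PowerSeries K} (hHt : LocRes.IsHasseFamily t Ht) {φ : Fin (n + 1) → K}
    (hφ : LinearIndependent k φ) (heff : (1 : K) ∈ Submodule.span k (Set.range φ))
    (hnorm : ∀ i, P.1 (φ i) ≤ 1) {J J' : Fin n → ℕ} (hJ : IsOrders K (hcol (AlgHom.id k K) Ht φ) J)
    (hJ' : IsOrders k (ecol (expTuple (ff hK) P ht φ hnorm)) J') :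
    (∀ l, J l ≤ J' l) ∧
    ((∀ l, J' l = J l) ↔ evalP P (wrMat (AlgHom.id k K) Ht φ J).det ≠ 0) ∧
    ((∀ l, J' l = J l) ↔ wDiv (AlgHom.id k K) Ht Φ t φ J P = 0) := by
  have hfix : IsFixedPt (AlgHom.id k K) P := fun z hz => hz
  have hle := orders_le_at_fixed hK _ P hfix ht hHt heff hnorm hJ hJ'
  obtain ⟨h1, h2⟩ := sum_sub_le_wDiv hK _ P hfix ht hHt heff hnorm hJ hJ' hΦ hφ
  have h2 := h2 (Or.inl fun l => orders_pos_of_id hHt.2 hJ l)
  have hne := det_wrMat_ne_zero hφ _ hJ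
  have hiff : (∀ l, J' l = J l) ↔ wDiv (AlgHom.id k K) Ht Φ t φ J P = 0 := by
    constructor
    · intro h
      obtain rfl : J' = J := funext h
      rw [h2.2 (by rw [det_binom_self J' hJ'.1]; exact one_ne_zero)]
      simp
    · intro h l
      rw [h] at h1
      have := hle l
      have h3 := (Finset.sum_eq_zero_iff_of_nonneg (fun i _ => by have := hle i; omega)).1
        (le_antisymm h1 (Finset.sum_nonneg fun i _ => by have := hle i; omega)) l (Finset.mem_univ l)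
      omega
  refine ⟨hle, ?_, hiff⟩
  rw [hiff, wDiv_normalized_fixed hK hΦ _ P hfix ht hHt heff hnorm]
  have hv : P.1 (wrMat (AlgHom.id k K) Ht φ J).det ≤ 1 := by
    refine (val_det_wrMat (ff hK) P ht hHt φ hnorm _ hfix heff hJ' J).1.trans ?_
    rw [← WithZero.exp_zero, WithZero.exp_le_exp, neg_nonpos]
    exact Finset.sum_nonneg fun i _ => by have := hle i; omega
  rw [evalP_ne_zero_iff P hv, val_eq_exp_neg_ord P hne, ← WithZero.exp_zero, WithZero.exp_inj]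
  omega

end Groth.Agent.Wronskian26
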