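import Groth.Agent.Lib.Wronskian26.Classical
import Groth.Agent.Lib.Wronskian26.Gaps
import Mathlib.LinearAlgebra.Dimension.Free
import Mathlib.Data.Real.Basic
import Mathlib.Tactic.FieldSimp

/-! # The number of strong fixed places -/

namespace Groth.Agent.Wronskian26

open FunFld FunField

variable {k K : Type*} [Field k] [Field K] [Algebra k K] [IsAlgClosed k] (hK : IsFunctionField k K)

theorem sum_fin_add_ite (n g : ℕ) (hgn : g ≤ n) :
    2 * ∑ l : Fin n, ((l : ℕ) + if n - g ≤ (l : ℕ) then g else 0) + n = n * n + 2 * g * g := by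
  rw [Fin.sum_univ_eq_sum_range (fun l => l + if n - g ≤ l then g else 0), Finset.sum_add_distrib]
  have h1 : (∑ l ∈ Finset.range n, if n - g ≤ l then g else 0) = g * g := by
    obtain ⟨a, rfl⟩ : ∃ a, n = a + g := ⟨n - g, by omega⟩
    rw [Finset.sum_range_add, Finset.sum_eq_zero fun i hi => if_neg (by simp at hi; omega),
      Finset.sum_congr rfl fun i _ => if_pos (by omega)]
    simp
  rw [h1]
  have h2 := Finset.sum_range_id_mul_two n
  rcases Nat.eq_zero_or_pos n with rfl | hn
  · simp at hgn; simp [hgn]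
  obtain ⟨m, rfl⟩ : ∃ m, n = m + 1 := ⟨n - 1, by omega⟩
  rw [Nat.add_sub_cancel] at h2
  linarith

include hK in
theorem strong_fixed_bound_aux (τ : K →ₐ[k] K) {n : ℕ} (hn : genus k K < n) {P₀ : Place k K}
    (hP₀ : IsStrongFixedPt τ P₀) :
    {P : Place k K | IsStrongFixedPt τ P}.Finite ∧
    (n : ℤ) * ({P : Place k K | IsStrongFixedPt τ P}.ncard : ℤ) ≤
      n + n * (Module.finrank τ.fieldRange K : ℤ) +
        ((n : ℤ) * n + Module.finrank τ.fieldRange K) * genus k K +
        2 * (genus k K : ℤ) ^ 2 * ((genus k K : ℤ) - 1) := by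
  classical
  have h := ff hK
  set g := genus k K with hg
  have hn0 : 0 < n := by omega
  let D : Divisor k K := Finsupp.single P₀ ((n + g : ℕ) : ℤ)
  have hD : D.deg = n + g := by
    simp only [D, deg_single, deg_eq_one h]
    push_cast
    ring
  haveI := finiteDimensional_L h D
  have hr : Module.finrank k (FunFld.L D) = n + 1 := by
    have := ell_of_large_deg hK D (by omega)
    rw [ell] at this
    omega
  let b := Module.finBasisOfFinrankEq k (FunFld.L D) hr
  let φ : Fin (n + 1) → K := fun i => (b i : K)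
  have hφ : LinearIndependent k φ := b.linearIndependent.map' (FunFld.L D).subtype (Submodule.ker_subtype _)
  have hspan : Submodule.span k (Set.range φ) = FunFld.L D := by
    rw [show Set.range φ = (FunFld.L D).subtype '' Set.range b by rw [← Set.range_comp]; rfl,
      Submodule.span_image, b.span_eq, Submodule.map_top, Submodule.range_subtype]
  have hmap : mapDiv k φ = D := gen_unique (gen_mapDiv h hφ.ne_zero) ⟨hspan.le, fun Q => by
    obtain ⟨f, hf, hv⟩ := bpf_of_large_deg hK (E := D) (by omega) Q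
    exact ⟨f, hspan ▸ hf, hv⟩⟩
  obtain ⟨s, hs⟩ := exists_sep h
  obtain ⟨H, hH⟩ := exists_hasse h hs
  obtain ⟨J, hJ⟩ := exists_orders h hφ τ hH
  obtain ⟨Φ, hΦ⟩ := exists_expansions h
  obtain ⟨hfin, hN⟩ := ncard_mul_le_deg hK (wDiv_nonneg hK hΦ hφ τ hH hJ) hn0
    (S := {P | IsStrongFixedPt τ P}) fun P hP => le_wDiv_of_strong hK hΦ hφ hn0 τ hH hJ P hP
  rw [deg_wDiv hK hΦ τ hH J, hmap, hD, ← hg] at hN
  refine ⟨hfin, hN.trans ?_⟩
  have hlowJ : n * n ≤ 2 * (∑ l, J l) + n := by
    have h1 := Finset.sum_le_sum (s := Finset.univ) fun l _ => strictMono_le_apply hJ.1 l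
    have h2 := sum_fin_add_ite n 0 (Nat.zero_le _)
    simp at h2
    omega
  have hupJ : 2 * (∑ l, J l) + n ≤ n * n + 2 * g * g := by
    obtain ⟨t, Ht, φ', y, hy, rfl, ht, hHt, hφ', heff, hnorm, hJt, -⟩ := exists_normal_form hK hΦ hφ _ hH hJ P₀
    obtain ⟨J', hJ'⟩ := exists_isOrders_at h P₀ ht _ hnorm hφ' heff
    have hspan' := span_smul_eq hK hy hspan
    have hDP : (D - FunFld.div k y) P₀ = 0 := by
      rw [Finsupp.sub_apply, div_apply h, ← hmap, ← mapDiv_smul h hφ.ne_zero hy]
      exact mapDiv_eq_zero_of_normalized h heff hnorm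
    have hmemJ : ∀ j, 1 ≤ j → j ≤ n - g → j ∈ Set.range J' := by
      intro j h1 h2
      let E : Divisor k K := D - FunFld.div k y - Finsupp.single P₀ (j : ℤ)
      obtain ⟨f, hf, hv⟩ := bpf_of_large_deg hK (E := E) (by
        simp only [E, deg_sub, deg_single, deg_div h, deg_eq_one h]
        push_cast
        omega) P₀
      refine ((mem_range_iff_exists_order h P₀ ht _ hnorm heff hJ' j).2 ⟨f, ?_, ?_⟩).resolve_left (by omega)
      · rw [hspan']
        refine L_mono (fun Q => ?_) hf
        rw [Finsupp.sub_apply (D - FunFld.div k y), Finsupp.single_apply]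
        split_ifs <;> omega
      · rw [hv, Finsupp.sub_apply, hDP, Finsupp.single_eq_same, zero_sub]
    have hmax : ∀ l, J' l ≤ n + g := fun l => by
      have := orders_le_deg h P₀ ht hφ' heff hnorm hJ' l
      rw [deg_mapDiv_smul h hφ hy, hmap, hD] at this
      omega
    have hbound : ∀ l : Fin n, J l ≤ (l : ℕ) + if n - g ≤ (l : ℕ) then g else 0 := by
      intro l
      have h1 := orders_add_le h P₀ ht hHt τ hP₀ hn0 _ heff hnorm hJt hJ' l
      have h2 := one_le_orders h P₀ ht _ hnorm hJ' ⟨0, hn0⟩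
      split_ifs with hl
      · have h3 := strictMono_le_apply (J := fun i : Fin n => n + g - J' i.rev) (fun a b hab => by
          have := hJ'.1 (Fin.rev_lt_rev.2 hab)
          have := hmax a.rev
          simp only
          omega) l.rev
        have := hmax l
        simp only [Fin.rev_rev, Fin.val_rev] at h3
        omega
      · have hsub : Finset.Icc 1 ((l : ℕ) + 1) ⊆ (Finset.Iic l).image J' := by
          by_contra hns
          have hgt : ∀ j ∈ Finset.Icc 1 ((l : ℕ) + 1), ∃ a, J' a = j := fun j hj => by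
            rw [Finset.mem_Icc] at hj
            exact hmemJ j hj.1 (by omega)
          obtain ⟨j, hj, hj'⟩ := Finset.not_subset.1 hns
          obtain ⟨a, rfl⟩ := hgt j hj
          rw [Finset.mem_Icc] at hj
          refine hj' (Finset.mem_image.2 ⟨a, Finset.mem_Iic.2 (le_of_not_gt fun hla => ?_), rfl⟩)
          have := hJ'.1 hla
          have := strictMono_succ_le_apply hJ'.1 (one_le_orders h P₀ ht _ hnorm hJ') l
          omega
        have hle : J' l ≤ (l : ℕ) + 1 := by
          by_contra hlt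
          have hsub' : Finset.Icc 1 ((l : ℕ) + 1) ⊆ (Finset.Iio l).image J' := by
            intro j hj
            obtain ⟨a, ha, rfl⟩ := Finset.mem_image.1 (hsub hj)
            rw [Finset.mem_Icc] at hj
            exact Finset.mem_image.2 ⟨a, Finset.mem_Iio.2 (hJ'.1.lt_iff_lt.1 (by omega)), rfl⟩
          have hc := (Finset.card_le_card hsub').trans Finset.card_image_le
          rw [Nat.card_Icc, Fin.card_Iio] at hc
          omega
        omega
    have h1 := Finset.sum_le_sum (s := Finset.univ) fun l _ => hbound l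
    have h2 := sum_fin_add_ite n g (by omega)
    omega
  rw [show ∑ l, (J l : ℤ) = ((∑ l, J l : ℕ) : ℤ) by push_cast; rfl]
  generalize (∑ l, J l : ℕ) = S at hlowJ hupJ ⊢
  have hlo : (n : ℤ) * n ≤ 2 * S + n := by exact_mod_cast hlowJ
  have hup : (2 : ℤ) * S + n ≤ n * n + 2 * g * g := by exact_mod_cast hupJ
  rcases Nat.eq_zero_or_pos g with hg0 | hg0
  · rw [hg0]; push_cast; nlinarith
  · have : (1 : ℤ) ≤ g := by exact_mod_cast hg0
    nlinarith [mul_le_mul_of_nonneg_left hup (show (0 : ℤ) ≤ g - 1 by omega)]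

include hK in
theorem strong_fixed_bound (τ : K →ₐ[k] K) {n : ℕ} (hn : genus k K < n) :
    {P : Place k K | IsStrongFixedPt τ P}.Finite ∧
    ({P : Place k K | IsStrongFixedPt τ P}.ncard : ℝ) ≤
      1 + Module.finrank τ.fieldRange K +
        (n + (Module.finrank τ.fieldRange K : ℝ) / n) * genus k K +
        2 * (genus k K : ℝ) ^ 2 * (genus k K - 1) / n := by
  rcases Set.eq_empty_or_nonempty {P : Place k K | IsStrongFixedPt τ P} with he | ⟨P₀, hP₀⟩
  · rw [he]
    refine ⟨Set.finite_empty, ?_⟩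
    rw [Set.ncard_empty, Nat.cast_zero]
    have h2 : (0 : ℝ) ≤ (genus k K : ℝ) ^ 2 * ((genus k K : ℝ) - 1) := by
      rcases Nat.eq_zero_or_pos (genus k K) with h | h
      · simp [h]
      · exact mul_nonneg (sq_nonneg _) (sub_nonneg.2 (by exact_mod_cast h))
    have h3 : (0 : ℝ) ≤ 2 * (genus k K : ℝ) ^ 2 * (genus k K - 1) / n :=
      div_nonneg (by linarith) (Nat.cast_nonneg _)
    positivity
  obtain ⟨hfin, hN⟩ := strong_fixed_bound_aux hK τ hn hP₀
  refine ⟨hfin, ?_⟩
  have hn0 : (0 : ℝ) < n := by exact_mod_cast (Nat.lt_of_le_of_lt (Nat.zero_le _) hn)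
  have hN' := (Int.cast_le (R := ℝ)).2 hN
  push_cast at hN'
  rw [← mul_le_mul_iff_of_pos_left hn0]
  refine hN'.trans (le_of_eq ?_)
  field_simp

end Groth.Agent.Wronskian26
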