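import Groth.Agent.Lib.Wronskian26.Inflection
import Groth.Agent.Lib.FunField.GenusOne

/-! # Finitely many torsion points of bounded order -/

namespace Groth.Agent.Wronskian26

open FunFld FunField

variable {k K : Type*} [Field k] [IsAlgClosed k] [Field K] [Algebra k K]

/-- On a genus-one curve in characteristic zero only finitely many places differ from a given
one by a torsion class of given order. -/
theorem finite_torsion [CharZero k] (hK : IsFunctionField k K) (hg : genus k K = 1) (P : Place k K)
    (m : ℕ) (hm : 1 ≤ m) :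
    {Q : Place k K | Q ≠ P ∧ ∃ h : K, h ≠ 0 ∧
      FunFld.div k h = Finsupp.single Q (m : ℤ) - Finsupp.single P (m : ℤ)}.Finite := by
  classical
  have h := ff hK
  have hPd := FunField.deg_eq_one h P
  have hL : ∀ {Q : Place k K} {x : K}, x ≠ 0 → FunFld.div k x = Finsupp.single Q (m : ℤ) - Finsupp.single P (m : ℤ) →
      x ∈ FunFld.L (Finsupp.single P (m : ℤ)) := by
    intro Q x hx e
    refine (mem_L_iff_ord hx).2 fun R => ?_
    have h1 := DFunLike.congr_fun e R
    rw [div_apply h, Finsupp.sub_apply] at h1
    have h2 : 0 ≤ Finsupp.single Q (m : ℤ) R := by rw [Finsupp.single_apply]; split <;> omega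
    omega
  obtain ⟨n, rfl⟩ : ∃ n, m = n + 1 := ⟨m - 1, by omega⟩
  haveI := finiteDimensional_L h (Finsupp.single P ((n + 1 : ℕ) : ℤ))
  have hdim : Module.finrank k (FunFld.L (Finsupp.single P ((n + 1 : ℕ) : ℤ))) = n + 1 := by
    have := ell_g1_single hK hg hPd (n := ((n + 1 : ℕ) : ℤ)) (by omega)
    exact_mod_cast this
  let b := Module.finBasisOfFinrankEq k _ hdim
  let φ : Fin (n + 1) → K := fun i => (b i : K)
  have hφ : LinearIndependent k φ := b.linearIndependent.map' (Submodule.subtype _) (Submodule.ker_subtype _)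
  have hspan : Submodule.span k (Set.range φ) = FunFld.L (Finsupp.single P ((n + 1 : ℕ) : ℤ)) := by
    rw [show Set.range φ = (Submodule.subtype _) '' Set.range b from (Set.range_comp _ _), Submodule.span_image,
      b.span_eq, Submodule.map_top, Submodule.range_subtype]
  refine (finite_inflection hK hφ).subset ?_
  rintro Q ⟨hQ, x, hx, e⟩
  refine ⟨x, hspan.symm ▸ hL hx e, hx, ?_⟩
  have h1 := DFunLike.congr_fun e Q
  rw [div_apply h, Finsupp.sub_apply, Finsupp.single_eq_same, Finsupp.single_eq_of_ne hQ] at h1
  have heff : (1 : K) ∈ Submodule.span k (Set.range φ) := by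
    rw [hspan]
    refine (mem_L_iff_ord one_ne_zero).2 fun R => ?_
    rw [ord_one, Finsupp.single_apply]
    split <;> omega
  have hnorm : ∀ i, Q.1 (φ i) ≤ 1 := fun i => by
    have := (b i).2 Q
    rwa [Finsupp.single_eq_of_ne hQ, WithZero.exp_zero] at this
  rw [mapDiv_eq_zero_of_normalized h heff hnorm, h1]
  push_cast
  omega

end Groth.Agent.Wronskian26
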