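import Groth.Agent.Lib.Wronskian26.Gaps
import Groth.Agent.Lib.Wronskian26.Classical
import Groth.Agent.Lib.Wronskian26.Automorph
import Groth.Agent.Lib.FunField.LinEquiv
import Mathlib.FieldTheory.Minpoly.Field

/-! # Weierstrass points of a function field -/

namespace Groth.Agent.Wronskian26

open FunFld FunField

variable {k K : Type*} [Field k] [Field K] [Algebra k K] [IsAlgClosed k]

/-- All gaps at `P` are small. -/
def Ordinary (P : Place k K) : Prop := ∀ m : ℕ, 2 ≤ m → m ≤ genus k K → IsGap P m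

omit [IsAlgClosed k] in
theorem isGap_comapPlace (σ : K ≃ₐ[k] K) {P : Place k K} {m : ℕ} (h : IsGap P m) :
    IsGap (comapPlace σ P) m := by
  by_contra hng
  obtain ⟨f, hf0, hf, hord⟩ := not_gap_iff.1 hng
  refine not_gap_iff.2 ⟨σ f, fun e => hf0 (σ.injective (e.trans (map_zero σ).symm)), fun R => ?_, hord⟩ h
  rw [← comapPlace_apply]
  refine (hf _).trans_eq ?_
  classical
  rw [Finsupp.single_apply, Finsupp.single_apply]
  by_cases e : P = R
  · rw [if_pos (congrArg (comapPlace σ) e), if_pos e]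
  · rw [if_neg fun h' => e (comapPlace_injective σ h'), if_neg e]

omit [IsAlgClosed k] in
theorem ordinary_comapPlace (σ : K ≃ₐ[k] K) (P : Place k K) : Ordinary (comapPlace σ P) ↔ Ordinary P := by
  refine ⟨fun h m h1 h2 => ?_, fun h m h1 h2 => isGap_comapPlace σ (h m h1 h2)⟩
  have := isGap_comapPlace σ.symm (h m h1 h2)
  rwa [comapPlace_symm] at this

variable {n : ℕ} (hK : IsFunctionField k K)

include hK in
theorem gap_one (hg : 0 < genus k K) (P : Place k K) : IsGap P 1 := by
  by_contra hng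
  have := (ell_step hK (deg_eq_one (ff hK) P) 0).2 hng
  simp only [Nat.cast_zero, zero_add, Finsupp.single_zero, ell_zero hK] at this
  rw [ell_single_one hK hg (deg_eq_one (ff hK) P)] at this
  omega

include hK in
/-- The number of gaps up to `m` is at least half of `m`. -/
theorem le_ncard_gaps (P : Place k K) {m : ℕ} (hm : m ≤ 2 * genus k K) :
    m ≤ 2 * Set.ncard {i : ℕ | 1 ≤ i ∧ i ≤ m ∧ IsGap P i} := by
  have h1 := ncard_gaps hK (deg_eq_one (ff hK) P) m
  have h2 := clifford hK (D := Finsupp.single P (m : ℤ)) (by rw [deg_single, deg_eq_one (ff hK)]; simp)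
    (by rw [deg_single, deg_eq_one (ff hK)]; omega)
  rw [deg_single, deg_eq_one (ff hK)] at h2
  omega

variable {C : Divisor k K} (hC : IsCanonical k K C) {φ : Fin (n + 1) → K} (hφ : LinearIndependent k φ)
  (hspan : Submodule.span k (Set.range φ) = FunFld.L C)

/-- The maximal weight. -/
def maxWt (n : ℕ) : ℤ := ∑ l : Fin n, ((l : ℤ) + 1)

theorem two_maxWt (n : ℕ) : 2 * maxWt n = n * (n + 1) := by
  induction n with
  | zero => simp [maxWt]
  | succ m ih =>
    rw [maxWt, Fin.sum_univ_castSucc]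
    simp only [maxWt] at ih
    simp only [Fin.val_castSucc, Fin.val_last]
    push_cast
    linarith

include hK hC hφ hspan in
theorem char_canonical (hchar : ringChar k = 0 ∨ 2 * genus k K - 2 < ringChar k) :
    ringChar k = 0 ∨ (mapDiv k φ).deg < ringChar k := by
  refine hchar.imp id fun h => ?_
  rw [mapDiv_canonical hK hC hφ hspan, (isCanonical_deg hK hC).2]
  have := genus_eq_succ hK hC hφ hspan
  omega

variable (hchar : ringChar k = 0 ∨ 2 * genus k K - 2 < ringChar k) {s : K} {H : K →ₐ[k] PowerSeries K}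
  (hH : LocRes.IsHasseFamily s H) {J : Fin n → ℕ} (hJ : IsOrders K (hcol (AlgHom.id k K) H φ) J)
  {Φ : Place k K → (K →ₐ[k] LaurentSeries k)} (hΦ : ∀ P : Place k K, LocRes.IsExpansionAt P.1 (Φ P))

include hK hC hφ hspan hchar hH hJ hΦ

theorem weight_spec (P : Place k K) :
    wDiv (AlgHom.id k K) H Φ s φ J P ≤ maxWt n ∧
    (wDiv (AlgHom.id k K) H Φ s φ J P = maxWt n → 0 < n → ¬ IsGap P 2) ∧
    (wDiv (AlgHom.id k K) H Φ s φ J P = 0 ↔ Ordinary P) := by
  have h := ff hK
  have hg := genus_eq_succ hK hC hφ hspan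
  have hJc : J = fun l : Fin n => (l : ℕ) + 1 :=
    isOrders_unique _ hJ (classical_id hK hφ (char_canonical hK hC hφ hspan hchar) hH)
  obtain ⟨t, Ht, φ', y, hy, rfl, ht, hHt, hφ', heff, hnorm, hJt, e⟩ := exists_normal_form hK hΦ hφ _ hH hJ P
  obtain ⟨J', hJ'⟩ := exists_isOrders_at h P ht _ hnorm hφ' heff
  have hpos := one_le_orders h P ht _ hnorm hJ'
  have hc := char_cond h P ht hφ' heff hnorm hJ'
    (by rw [deg_mapDiv_smul h hφ hy]; exact char_canonical hK hC hφ hspan hchar)
  have hW : wDiv (AlgHom.id k K) H Φ s φ J P = ∑ l, ((J' l : ℤ) - J l) := by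
    rw [e]
    exact ((sum_sub_le_wDiv hK _ P (fun z hz => hz) ht hHt heff hnorm hJt hJ' hΦ hφ').2
      (Or.inl fun l => orders_pos_of_id hH.2 hJ l)).2 (hJc ▸ det_binom_succ_ne_zero hJ'.1 hpos hc)
  have hiff : ∀ {j : ℕ}, 1 ≤ j → (j ∈ Set.range J' ↔ IsGap P (j + 1)) := fun hj =>
    range_orders_iff_gap hK hC hφ hspan hy heff hnorm ht hJ' hj
  have hlow := strictMono_succ_le_apply hJ'.1 hpos
  have hup : ∀ l : Fin n, J' l ≤ 2 * (l : ℕ) + 2 := by
    intro l
    by_contra hlt
    rw [not_le] at hlt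
    classical
    have hsub : {i : ℕ | 1 ≤ i ∧ i ≤ 2 * (l : ℕ) + 3 ∧ IsGap P i} ⊆
        ↑(insert 1 ((Finset.Iio l).image fun i => J' i + 1)) := by
      rintro i ⟨h1, h2, h3⟩
      rcases eq_or_lt_of_le h1 with rfl | h1'
      · simp
      obtain ⟨j, rfl⟩ : ∃ j, i = j + 1 := ⟨i - 1, by omega⟩
      obtain ⟨a, rfl⟩ := (hiff (by omega)).2 h3
      simp only [Finset.coe_insert, Finset.coe_image, Set.mem_insert_iff, Set.mem_image, Finset.mem_coe,
        Finset.mem_Iio]
      exact Or.inr ⟨a, hJ'.1.lt_iff_lt.1 (by omega), rfl⟩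
    have hc1 := Set.ncard_le_ncard hsub (Finset.finite_toSet _)
    rw [Set.ncard_coe_finset] at hc1
    have hc2 := hc1.trans ((Finset.card_insert_le _ _).trans (Nat.add_le_add_right Finset.card_image_le 1))
    rw [Fin.card_Iio] at hc2
    have hl := l.2
    have hc3 := le_ncard_gaps hK P (m := 2 * (l : ℕ) + 3) (by omega)
    omega
  refine ⟨?_, fun hmax hn => ?_, ?_⟩
  · rw [hW, maxWt]
    refine Finset.sum_le_sum fun l _ => ?_
    have := hup l
    rw [hJc]
    push_cast
    omega
  · rw [hW, maxWt, hJc] at hmax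
    have := (Finset.sum_eq_sum_iff_of_le fun l _ => by have := hup l; push_cast; omega).1 hmax ⟨0, hn⟩ (Finset.mem_univ _)
    intro hgap
    obtain ⟨a, ha⟩ := (hiff le_rfl).2 hgap
    have h0 := hJ'.1.monotone (show (⟨0, hn⟩ : Fin n) ≤ a by simp [Fin.le_def])
    simp at this
    omega
  · rw [hW, hJc, Finset.sum_eq_zero_iff_of_nonneg fun l _ => by have := hlow l; push_cast; omega]
    constructor
    · intro hall m h1 h2
      obtain ⟨j, rfl⟩ : ∃ j, m = j + 1 := ⟨m - 1, by omega⟩
      refine (hiff (by omega)).1 ⟨⟨j - 1, by omega⟩, ?_⟩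
      have := hall ⟨j - 1, by omega⟩ (Finset.mem_univ _)
      simp only at this
      omega
    · intro hord l _
      have hle : J' l ≤ (l : ℕ) + 1 := by
        by_contra hlt
        classical
        have hsub : (Finset.Icc 1 ((l : ℕ) + 1)) ⊆ (Finset.Iio l).image J' := by
          intro j hj
          rw [Finset.mem_Icc] at hj
          obtain ⟨a, rfl⟩ := (hiff hj.1).2 (hord (j + 1) (by omega) (by have := l.2; omega))
          exact Finset.mem_image.2 ⟨a, Finset.mem_Iio.2 (hJ'.1.lt_iff_lt.1 (by omega)), rfl⟩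
        have hcard := (Finset.card_le_card hsub).trans Finset.card_image_le
        rw [Nat.card_Icc, Fin.card_Iio] at hcard
        omega
      have := hlow l
      push_cast
      omega

theorem deg_wDiv_canonical :
    (wDiv (AlgHom.id k K) H Φ s φ J).deg = 2 * maxWt n * (n + 2) := by
  have hg := genus_eq_succ hK hC hφ hspan
  have hJc : J = fun l : Fin n => (l : ℕ) + 1 :=
    isOrders_unique _ hJ (classical_id hK hφ (char_canonical hK hC hφ hspan hchar) hH)
  rw [deg_wDiv hK hΦ _ hH J, mapDiv_canonical hK hC hφ hspan, (isCanonical_deg hK hC).2, hg, hJc]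
  have h1 : Module.finrank (AlgHom.id k K).fieldRange K = 1 := by
    rw [show (AlgHom.id k K).fieldRange = ⊤ from IntermediateField.ext fun x => by simp]
    exact IntermediateField.finrank_top
  rw [h1]
  push_cast
  rw [← maxWt]
  linear_combination (-2 : ℤ) * two_maxWt n

theorem support_spec (hg1 : 1 < genus k K) :
    {P : Place k K | wDiv (AlgHom.id k K) H Φ s φ J P ≠ 0}.Finite ∧
    2 * genus k K + 2 ≤ {P : Place k K | wDiv (AlgHom.id k K) H Φ s φ J P ≠ 0}.ncard ∧
    ({P : Place k K | wDiv (AlgHom.id k K) H Φ s φ J P ≠ 0}.ncard = 2 * genus k K + 2 →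
      ∀ P : Place k K, wDiv (AlgHom.id k K) H Φ s φ J P ≠ 0 → ¬ IsGap P 2) := by
  classical
  have hg := genus_eq_succ hK hC hφ hspan
  set W := wDiv (AlgHom.id k K) H Φ s φ J with hWdef
  have hspec := weight_spec hK hC hφ hspan hchar hH hJ hΦ
  have hset : {P : Place k K | W P ≠ 0} = ↑W.support := Set.ext fun P => by simp
  rw [hset, Set.ncard_coe_finset]
  have hd := deg_wDiv_canonical hK hC hφ hspan hchar hH hJ hΦ
  rw [← hWdef, deg_eq_sum W _ (Finset.Subset.refl _)] at hd
  have hd' : ∑ P ∈ W.support, W P = 2 * maxWt n * (n + 2) := by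
    rw [← hd]
    exact Finset.sum_congr rfl fun P _ => by rw [deg_eq_one (ff hK)]; simp
  have hM : 0 < maxWt n := by
    have := two_maxWt n
    have : (1 : ℤ) * 2 ≤ (n : ℤ) * (n + 1) := mul_le_mul (by omega) (by omega) (by norm_num) (by omega)
    omega
  have hle : ∑ P ∈ W.support, W P ≤ (W.support.card : ℤ) * maxWt n := by
    have := Finset.sum_le_sum (s := W.support) fun P _ => (hspec P).1
    simpa [hWdef] using this
  rw [hd'] at hle
  have h2 : 2 * ((n : ℤ) + 2) ≤ W.support.card := le_of_mul_le_mul_right (by linarith) hM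
  refine ⟨W.support.finite_toSet, by omega, fun hN P hP => ?_⟩
  refine (hspec P).2.1 ?_ (by omega)
  refine (Finset.sum_eq_sum_iff_of_le fun Q _ => (hspec Q).1).1 ?_ P (Finsupp.mem_support_iff.2 hP)
  rw [← hWdef, hd', Finset.sum_const, nsmul_eq_mul, hN, hg]
  push_cast
  ring

end Groth.Agent.Wronskian26
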